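import Mathlib
import Cfsg.Agent.Lib.BrauerMap.ClassSum

/-!
# Homomorphisms to the field and block idempotents of a commutative finite-dimensional algebra

For a finite-dimensional commutative algebra over an algebraically closed field, an element is
nilpotent as soon as every algebra homomorphism to the field kills it, and each such homomorphism
has an idempotent.  Applied to centres of group algebras these are the blocks.
-/

set_option autoImplicit false
set_option linter.style.haveILetI false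

namespace Cfsg.Agent.Lib.BrauerPairs.Center

universe u v

section Algebra

variable {k : Type v} [Field k] [IsAlgClosed k] {A : Type u} [CommRing A] [Algebra k A]
  [Module.Finite k A]

theorem isNilpotent_of_forall_hom {a : A} (h : ∀ ψ : A →ₐ[k] k, ψ a = 0) : IsNilpotent a := by
  rw [← mem_nilradical, nilradical_eq_sInf, Ideal.mem_sInf]
  intro J (hJ : J.IsPrime)
  haveI := hJ
  haveI : IsArtinianRing A := IsArtinianRing.of_finite k A
  haveI : J.IsMaximal := IsArtinianRing.isMaximal_of_isPrime J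
  letI := Ideal.Quotient.field J
  haveI : Algebra.IsIntegral k (A ⧸ J) := Algebra.IsIntegral.of_finite k (A ⧸ J)
  let e : k ≃ₐ[k] A ⧸ J :=
    AlgEquiv.ofBijective (Algebra.ofId k (A ⧸ J)) IsAlgClosed.algebraMap_bijective_of_isIntegral
  have h2 := h (e.symm.toAlgHom.comp (Ideal.Quotient.mkₐ k J))
  rw [← Ideal.Quotient.eq_zero_iff_mem]
  apply e.symm.injective
  rw [map_zero]
  exact h2

instance finite_homs : Finite (A →ₐ[k] k) :=
  Finite.algHom k A k

theorem exists_separating (ψ : A →ₐ[k] k) :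
    ∃ a : A, ψ a = 1 ∧ ∀ φ : A →ₐ[k] k, φ ≠ ψ → φ a = 0 := by
  classical
  haveI := Fintype.ofFinite (A →ₐ[k] k)
  have hpair : ∀ φ : A →ₐ[k] k, φ ≠ ψ → ∃ a : A, ψ a = 1 ∧ φ a = 0 := by
    intro φ hφ
    obtain ⟨b, hb⟩ := DFunLike.ne_iff.mp hφ
    refine ⟨(ψ b - φ b)⁻¹ • (b - algebraMap k A (φ b)), ?_, ?_⟩
    · simp [sub_ne_zero.mpr (Ne.symm hb)]
    · simp
  choose a ha₁ ha₀ using hpair
  refine ⟨∏ φ : A →ₐ[k] k, if hφ : φ ≠ ψ then a φ hφ else 1, ?_, fun φ hφ => ?_⟩
  · rw [map_prod]
    refine Finset.prod_eq_one fun φ _ => ?_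
    split_ifs with hφ
    · exact ha₁ φ hφ
    · exact map_one ψ
  · rw [map_prod]
    refine Finset.prod_eq_zero (Finset.mem_univ φ) ?_
    rw [dif_pos hφ]
    exact ha₀ φ hφ

open scoped Classical in
theorem exists_idem (ψ : A →ₐ[k] k) :
    ∃ e : A, IsIdempotentElem e ∧ ∀ φ : A →ₐ[k] k, φ e = if φ = ψ then 1 else 0 := by
  let F : A →+* ((A →ₐ[k] k) → k) := Pi.ringHom fun φ => φ.toRingHom
  obtain ⟨a, ha1, ha0⟩ := exists_separating ψ
  have hd : IsIdempotentElem (fun φ : A →ₐ[k] k => if φ = ψ then (1 : k) else 0) := by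
    funext φ
    simp
  have hr : (fun φ : A →ₐ[k] k => if φ = ψ then (1 : k) else 0) ∈ F.range := by
    refine ⟨a, ?_⟩
    funext φ
    show φ a = _
    split_ifs with h
    · rw [h, ha1]
    · exact ha0 φ h
  obtain ⟨e, he, he'⟩ := exists_isIdempotentElem_eq_of_ker_isNilpotent F
    (fun x hx => isNilpotent_of_forall_hom fun φ => congrFun hx φ) _ hr hd
  exact ⟨e, he, fun φ => congrFun he' φ⟩

/-- The idempotent attached to a homomorphism to the field. -/
noncomputable def idem (ψ : A →ₐ[k] k) : A := (exists_idem ψ).choose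

theorem idem_isIdem (ψ : A →ₐ[k] k) : IsIdempotentElem (idem ψ) :=
  (exists_idem ψ).choose_spec.1

open scoped Classical in
theorem apply_idem (ψ φ : A →ₐ[k] k) : φ (idem ψ) = if φ = ψ then 1 else 0 :=
  (exists_idem ψ).choose_spec.2 φ

theorem apply_idem_self (ψ : A →ₐ[k] k) : ψ (idem ψ) = 1 := by rw [apply_idem, if_pos rfl]

theorem apply_idem_ne {ψ φ : A →ₐ[k] k} (h : φ ≠ ψ) : φ (idem ψ) = 0 := by
  rw [apply_idem, if_neg h]

theorem eq_of_apply_idem_ne_zero {ψ φ : A →ₐ[k] k} (h : φ (idem ψ) ≠ 0) : φ = ψ :=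
  Classical.byContradiction fun hne => h (apply_idem_ne hne)

theorem idem_ext {e f : A} (he : IsIdempotentElem e) (hf : IsIdempotentElem f)
    (h : ∀ φ : A →ₐ[k] k, φ e = φ f) : e = f :=
  eq_of_isNilpotent_sub_of_isIdempotentElem he hf
    (isNilpotent_of_forall_hom (k := k) fun φ => by rw [map_sub, h, sub_self])

theorem apply_zero_or_one {e : A} (he : IsIdempotentElem e) (φ : A →ₐ[k] k) :
    φ e = 0 ∨ φ e = 1 := by
  have h : φ e * φ e = φ e := by rw [← map_mul, he.eq]
  rcases eq_or_ne (φ e) 0 with h0 | h0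
  · exact Or.inl h0
  · exact Or.inr (mul_left_cancel₀ h0 (h.trans (mul_one _).symm))

theorem idem_ne_zero (ψ : A →ₐ[k] k) : idem ψ ≠ 0 := fun h => by
  simpa [h] using apply_idem_self ψ

theorem idem_injective : Function.Injective (idem : (A →ₐ[k] k) → A) := fun ψ φ h =>
  eq_of_apply_idem_ne_zero (by rw [← h, apply_idem_self]; exact one_ne_zero)

theorem idem_mul_idem {ψ φ : A →ₐ[k] k} (h : ψ ≠ φ) : idem ψ * idem φ = 0 :=
  idem_ext (k := k) ((idem_isIdem ψ).mul (idem_isIdem φ)) .zero fun χ => by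
    rw [map_mul, map_zero]
    by_cases hχ : χ = ψ
    · rw [hχ, apply_idem_ne h, mul_zero]
    · rw [apply_idem_ne hχ, zero_mul]

open scoped Classical in
theorem isIdempotentElem_sum (s : Finset (A →ₐ[k] k)) : IsIdempotentElem (∑ ψ ∈ s, idem ψ) := by
  show (∑ ψ ∈ s, idem ψ) * ∑ ψ ∈ s, idem ψ = _
  rw [Finset.sum_mul]
  refine Finset.sum_congr rfl fun ψ hψ => ?_
  rw [Finset.mul_sum, Finset.sum_eq_single ψ]
  · exact (idem_isIdem ψ).eq
  · exact fun φ _ hne => idem_mul_idem (Ne.symm hne)
  · exact fun h => absurd hψ h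

open scoped Classical in
theorem apply_sum_idem (s : Finset (A →ₐ[k] k)) (φ : A →ₐ[k] k) :
    φ (∑ ψ ∈ s, idem ψ) = if φ ∈ s then 1 else 0 := by
  rw [map_sum]
  simp_rw [apply_idem]
  rw [Finset.sum_ite_eq]

open scoped Classical in
theorem eq_sum_idem [Fintype (A →ₐ[k] k)] {e : A} (he : IsIdempotentElem e) :
    e = ∑ ψ ∈ Finset.univ.filter (fun ψ : A →ₐ[k] k => ψ e = 1), idem ψ := by
  refine idem_ext (k := k) he (isIdempotentElem_sum _) fun φ => ?_
  rw [apply_sum_idem]
  rcases apply_zero_or_one he φ with h | h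
  · rw [if_neg (by simp [h]), h]
  · rw [if_pos (by simp [h]), h]

theorem sum_idem [Fintype (A →ₐ[k] k)] : ∑ ψ : A →ₐ[k] k, idem ψ = 1 := by
  classical
  refine idem_ext (k := k) (isIdempotentElem_sum _) .one fun φ => ?_
  rw [apply_sum_idem, if_pos (Finset.mem_univ φ), map_one]

theorem exists_apply_eq_one {e : A} (he : IsIdempotentElem e) (hne : e ≠ 0) :
    ∃ φ : A →ₐ[k] k, φ e = 1 := by
  by_contra h
  exact hne (idem_ext (k := k) he .zero fun φ => by
    rcases apply_zero_or_one he φ with h0 | h1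
    · rw [h0, map_zero]
    · exact absurd ⟨φ, h1⟩ h)

theorem mul_idem_eq (ψ : A →ₐ[k] k) {e : A} (he : IsIdempotentElem e) (h : ψ e = 1) :
    e * idem ψ = idem ψ :=
  idem_ext (k := k) (he.mul (idem_isIdem ψ)) (idem_isIdem ψ) fun χ => by
    rw [map_mul]
    by_cases hχ : χ = ψ
    · rw [hχ, h, one_mul]
    · rw [apply_idem_ne hχ, mul_zero]

end Algebra

section GroupAlgebra

variable (k : Type v) [Field k] (H : Type u) [Group H]

/-- The centre of the group algebra. -/
abbrev ZAlg : Type max u v := Subalgebra.center k (MonoidAlgebra k H)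

/-- The blocks of `k[H]`, as homomorphisms of the centre to `k`. -/
abbrev Blk : Type max u v := ZAlg k H →ₐ[k] k

variable {k H}

instance zAlg_finite [Finite H] : Module.Finite k (ZAlg k H) :=
  inferInstanceAs (Module.Finite k (Subalgebra.center k (MonoidAlgebra k H)).toSubmodule)

/-- The block idempotent, as an element of the group algebra. -/
noncomputable def bidem [IsAlgClosed k] [Finite H] (ψ : Blk k H) : MonoidAlgebra k H :=
  (idem ψ : ZAlg k H)

theorem bidem_mem [IsAlgClosed k] [Finite H] (ψ : Blk k H) :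
    bidem ψ ∈ Subalgebra.center k (MonoidAlgebra k H) := (idem ψ).2

theorem bidem_isIdem [IsAlgClosed k] [Finite H] (ψ : Blk k H) : IsIdempotentElem (bidem ψ) := by
  show ((idem ψ : ZAlg k H) : MonoidAlgebra k H) * (idem ψ : ZAlg k H) = _
  exact congrArg Subtype.val (idem_isIdem ψ).eq

theorem bidem_injective [IsAlgClosed k] [Finite H] :
    Function.Injective (bidem : Blk k H → MonoidAlgebra k H) := fun ψ φ h =>
  idem_injective (Subtype.ext h)

theorem sum_bidem [IsAlgClosed k] [Finite H] [Fintype (Blk k H)] :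
    ∑ ψ : Blk k H, bidem ψ = 1 := by
  have := congrArg Subtype.val (sum_idem (k := k) (A := ZAlg k H))
  simpa [bidem, AddSubmonoidClass.coe_finsetSum] using this

end GroupAlgebra

end Cfsg.Agent.Lib.BrauerPairs.Center
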