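import Mathlib
import Cfsg.Agent.Lib.BrauerMap.ClassSum
import Cfsg.Agent.Lib.BrauerPairs.Center

/-!
# Truncation to centralizers, extension from subgroups, conjugation
-/

set_option autoImplicit false
set_option linter.style.haveILetI false

namespace Cfsg.Agent.Lib.BrauerPairs.Trunc

open MonoidAlgebra Cfsg.Agent.Lib.BrauerMap.Basic Cfsg.Agent.Lib.BrauerPairs.Center

universe u v

variable {G : Type u} [Group G] [Finite G] {k : Type v} [Field k]

local notation "C[" P "]" => Subgroup.centralizer ((P : Subgroup G) : Set G)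

/-! ### Extension of an element of `k[H]` to `k[G]` -/

/-- Extension by zero from `k[H]` to `k[G]`. -/
noncomputable def ext (H : Subgroup G) : MonoidAlgebra k H →ₐ[k] MonoidAlgebra k G :=
  MonoidAlgebra.mapDomainAlgHom k k H.subtype

omit [Finite G] in
theorem ext_single (H : Subgroup G) (h : H) (r : k) :
    ext H (single h r) = single (h : G) r := by
  simp [ext]

omit [Finite G] in
theorem coeff_ext (H : Subgroup G) (z : MonoidAlgebra k H) (h : H) :
    (ext H z).coeff (h : G) = z.coeff h := by
  induction z using MonoidAlgebra.induction_linear with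
  | zero => simp
  | add f g hf hg => simp [hf, hg]
  | single a r =>
    rw [ext_single, coeff_single, coeff_single]
    classical
    simp only [Finsupp.single_apply]
    exact if_congr ⟨fun e => Subtype.ext e, fun e => congrArg Subtype.val e⟩ rfl rfl

omit [Finite G] in
theorem coeff_ext_of_notMem (H : Subgroup G) (z : MonoidAlgebra k H) {g : G} (hg : g ∉ H) :
    (ext H z).coeff g = 0 := by
  induction z using MonoidAlgebra.induction_linear with
  | zero => simp
  | add f g hf hg => simp [hf, hg]
  | single a r =>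
    rw [ext_single, coeff_single]
    exact Finsupp.single_eq_of_ne fun e => hg (e ▸ a.2)

omit [Finite G] in
theorem ext_injective (H : Subgroup G) : Function.Injective (ext (k := k) H) := by
  intro a b h
  ext x
  rw [← coeff_ext H a, ← coeff_ext H b, h]

/-! ### Conjugation -/

/-- Conjugation by `x` on the group algebra. -/
noncomputable def conjA (x : G) : MonoidAlgebra k G ≃ₐ[k] MonoidAlgebra k G :=
  MonoidAlgebra.domCongr k k (MulAut.conj x)

omit [Finite G] in
theorem coeff_conjA (x : G) (a : MonoidAlgebra k G) (g : G) :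
    (conjA x a).coeff g = a.coeff (x⁻¹ * g * x) := by
  induction a using MonoidAlgebra.induction_linear with
  | zero => simp
  | add f h hf hh => simp [hf, hh]
  | single m r =>
    rw [conjA, domCongr_single, coeff_single, coeff_single, MulAut.conj_apply]
    classical
    simp only [Finsupp.single_apply]
    refine if_congr ⟨fun e => ?_, fun e => ?_⟩ rfl rfl
    · rw [← e]; simp [mul_assoc]
    · rw [e]; simp [mul_assoc]

omit [Finite G] in
theorem coeff_conjA_conj (x : G) (a : MonoidAlgebra k G) (g : G) :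
    (conjA x a).coeff (x * g * x⁻¹) = a.coeff g := by
  rw [coeff_conjA]; simp [mul_assoc]

omit [Finite G] in
theorem conjA_one (a : MonoidAlgebra k G) : conjA 1 a = a := by
  ext g; simp [coeff_conjA]

omit [Finite G] in
theorem conjA_mul (x y : G) (a : MonoidAlgebra k G) : conjA (x * y) a = conjA x (conjA y a) := by
  ext g; simp [coeff_conjA, mul_assoc]

theorem isFixedBy_iff (P : Subgroup G) (a : MonoidAlgebra k G) :
    IsFixedBy P a ↔ ∀ u ∈ P, conjA u a = a := by
  constructor
  · intro h u hu
    ext g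
    rw [coeff_conjA]
    simpa using h u⁻¹ (inv_mem hu) g
  · intro h u hu g
    conv_lhs => rw [← h u hu]
    rw [coeff_conjA_conj]

theorem isFixedBy_mul {P : Subgroup G} {a b : MonoidAlgebra k G} (ha : IsFixedBy P a)
    (hb : IsFixedBy P b) : IsFixedBy P (a * b) := by
  rw [isFixedBy_iff] at *
  intro u hu
  rw [map_mul, ha u hu, hb u hu]

theorem isFixedBy_one (P : Subgroup G) : IsFixedBy P (1 : MonoidAlgebra k G) := by
  rw [isFixedBy_iff]
  intro u _
  rw [map_one]

theorem isFixedBy_zero (P : Subgroup G) : IsFixedBy P (0 : MonoidAlgebra k G) := by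
  rw [isFixedBy_iff]
  intro u _
  rw [map_zero]

theorem isFixedBy_sum {ι : Type*} {P : Subgroup G} (s : Finset ι) (f : ι → MonoidAlgebra k G)
    (h : ∀ i ∈ s, IsFixedBy P (f i)) : IsFixedBy P (∑ i ∈ s, f i) := by
  rw [isFixedBy_iff]
  intro u hu
  rw [map_sum]
  exact Finset.sum_congr rfl fun i hi => (isFixedBy_iff P _).mp (h i hi) u hu

omit [Finite G] in
theorem isFixedBy_mono {P R : Subgroup G} (h : P ≤ R) {a : MonoidAlgebra k G}
    (ha : IsFixedBy R a) : IsFixedBy P a := fun u hu => ha u (h hu)

theorem isFixedBy_sup {P R : Subgroup G} {a : MonoidAlgebra k G} (hP : IsFixedBy P a)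
    (hR : IsFixedBy R a) : IsFixedBy (P ⊔ R) a := by
  rw [isFixedBy_iff] at *
  let S : Subgroup G :=
    { carrier := {u | conjA u a = a}
      one_mem' := conjA_one a
      mul_mem' := fun {x y} hx hy => by
        show conjA (x * y) a = a
        rw [conjA_mul, hy, hx]
      inv_mem' := fun {x} hx => by
        show conjA x⁻¹ a = a
        conv_lhs => rw [← (hx : conjA x a = a)]
        rw [← conjA_mul, inv_mul_cancel, conjA_one] }
  exact fun u hu => (sup_le hP hR : P ⊔ R ≤ S) hu

/-! ### Truncation to the centralizer -/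

/-- The truncation at `P`: the part supported on the centralizer of `P`. -/
noncomputable def br (P : Subgroup G) (a : MonoidAlgebra k G) :
    MonoidAlgebra k (Subgroup.centralizer (P : Set G)) :=
  brauerTo P C[P] a

theorem coeff_br (P : Subgroup G) (a : MonoidAlgebra k G) (h : C[P]) :
    (br P a).coeff h = a.coeff (h : G) := by
  rw [br, coeff_brauerTo, if_pos h.2]

theorem br_one (P : Subgroup G) : br P (1 : MonoidAlgebra k G) = 1 := brauerTo_one P _

theorem br_zero (P : Subgroup G) : br P (0 : MonoidAlgebra k G) = 0 := by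
  ext h; simp [coeff_br]

theorem br_add (P : Subgroup G) (a b : MonoidAlgebra k G) : br P (a + b) = br P a + br P b :=
  brauerTo_add P _ a b

theorem br_sum {ι : Type*} (P : Subgroup G) (s : Finset ι) (f : ι → MonoidAlgebra k G) :
    br P (∑ i ∈ s, f i) = ∑ i ∈ s, br P (f i) := by
  classical
  induction s using Finset.induction_on with
  | empty => simp [br_zero]
  | insert i t hi ih => rw [Finset.sum_insert hi, Finset.sum_insert hi, br_add, ih]

theorem br_mul {p : ℕ} [Fact p.Prime] [CharP k p] {P : Subgroup G} (hP : IsPGroup p P)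
    {a b : MonoidAlgebra k G} (ha : IsFixedBy P a) (hb : IsFixedBy P b) :
    br P (a * b) = br P a * br P b :=
  brauerTo_mul hP le_rfl ha hb

theorem br_mem_center {P : Subgroup G} {a : MonoidAlgebra k G} (ha : IsFixedBy C[P] a) :
    br P a ∈ Subalgebra.center k (MonoidAlgebra k C[P]) := by
  rw [mem_center_iff_coeff]
  intro u h
  rw [coeff_br, coeff_br, Subgroup.coe_mul, Subgroup.coe_mul, Subgroup.coe_inv]
  exact ha u u.2 _

theorem isFixedBy_ext_of_center {H : Subgroup G} {z : MonoidAlgebra k H}
    (hz : z ∈ Subalgebra.center k (MonoidAlgebra k H)) : IsFixedBy H (ext H z) := by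
  intro u hu g
  by_cases hg : g ∈ H
  · exact (coeff_ext H z (⟨u, hu⟩ * ⟨g, hg⟩ * (⟨u, hu⟩ : H)⁻¹)).trans
      (((mem_center_iff_coeff z).1 hz _ _).trans (coeff_ext H z ⟨g, hg⟩).symm)
  · rw [coeff_ext_of_notMem H z hg, coeff_ext_of_notMem H z]
    intro h
    apply hg
    simpa [mul_assoc] using mul_mem (mul_mem (inv_mem hu) h) hu

omit [Finite G] in
theorem centralizer_anti {Q P : Subgroup G} (h : Q ≤ P) : C[P] ≤ C[Q] :=
  Subgroup.centralizer_le h

/-- Truncation in two steps. -/
theorem br_ext_br {Q P : Subgroup G} (h : Q ≤ P) (a : MonoidAlgebra k G) :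
    br P (ext C[Q] (br Q a)) = br P a := by
  ext x
  rw [coeff_br, coeff_br, show (x : G) = ((⟨x, centralizer_anti h x.2⟩ : C[Q]) : G) from rfl,
    coeff_ext, coeff_br]

/-! ### The value of a block of `C(P)` on the truncation at `P` -/

open scoped Classical in
/-- The value of the block `ω` of `C(P)` at the truncation of `a`. -/
noncomputable def val (P : Subgroup G) (ω : Blk k C[P]) (a : MonoidAlgebra k G) : k :=
  if h : br P a ∈ Subalgebra.center k (MonoidAlgebra k C[P]) then ω ⟨br P a, h⟩ else 0

theorem val_eq {P : Subgroup G} (ω : Blk k C[P]) {a : MonoidAlgebra k G}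
    (ha : IsFixedBy C[P] a) : val P ω a = ω ⟨br P a, br_mem_center ha⟩ := by
  classical
  rw [val, dif_pos (br_mem_center ha)]

theorem val_congr {P : Subgroup G} (ω : Blk k C[P]) {a b : MonoidAlgebra k G}
    (h : br P a = br P b) : val P ω a = val P ω b := by
  classical
  unfold val
  simp only [h]

theorem val_one (P : Subgroup G) (ω : Blk k C[P]) : val P ω 1 = 1 := by
  rw [val_eq ω (isFixedBy_one _)]
  rw [show (⟨br P (1 : MonoidAlgebra k G), _⟩ : ZAlg k C[P]) = 1 from Subtype.ext (br_one P),
    map_one]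

theorem val_zero (P : Subgroup G) (ω : Blk k C[P]) : val P ω 0 = 0 := by
  rw [val_eq ω (isFixedBy_zero _)]
  rw [show (⟨br P (0 : MonoidAlgebra k G), _⟩ : ZAlg k C[P]) = 0 from Subtype.ext (br_zero P),
    map_zero]

theorem val_mul {p : ℕ} [Fact p.Prime] [CharP k p] {P : Subgroup G} (hP : IsPGroup p P)
    (ω : Blk k C[P]) {a b : MonoidAlgebra k G} (ha : IsFixedBy P a) (hb : IsFixedBy P b)
    (ha' : IsFixedBy C[P] a) (hb' : IsFixedBy C[P] b) :
    val P ω (a * b) = val P ω a * val P ω b := by
  rw [val_eq ω ha', val_eq ω hb', val_eq ω (isFixedBy_mul ha' hb'), ← map_mul]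
  exact congrArg ω (Subtype.ext (br_mul hP ha hb))

theorem val_sum {ι : Type*} {P : Subgroup G} (ω : Blk k C[P]) (s : Finset ι)
    (f : ι → MonoidAlgebra k G) (h : ∀ i ∈ s, IsFixedBy C[P] (f i)) :
    val P ω (∑ i ∈ s, f i) = ∑ i ∈ s, val P ω (f i) := by
  refine (val_eq ω (isFixedBy_sum s f h)).trans ?_
  refine Eq.trans ?_ (Finset.sum_attach s (fun i => val P ω (f i)))
  refine Eq.trans ?_ (Finset.sum_congr rfl (fun i _ => (val_eq ω (h i.1 i.2)).symm))
  rw [← map_sum]
  refine congrArg ω (Subtype.ext ?_)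
  rw [AddSubmonoidClass.coe_finsetSum]
  exact (br_sum P s f).trans (Finset.sum_attach _ _).symm

theorem val_zero_or_one {p : ℕ} [Fact p.Prime] [CharP k p] {P : Subgroup G} (hP : IsPGroup p P)
    (ω : Blk k C[P]) {a : MonoidAlgebra k G} (hi : IsIdempotentElem a) (ha : IsFixedBy P a)
    (ha' : IsFixedBy C[P] a) : val P ω a = 0 ∨ val P ω a = 1 := by
  have h : val P ω a * val P ω a = val P ω a := by rw [← val_mul hP ω ha ha ha' ha', hi.eq]
  rcases eq_or_ne (val P ω a) 0 with h0 | h0
  · exact Or.inl h0
  · exact Or.inr (mul_left_cancel₀ h0 (h.trans (mul_one _).symm))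

theorem br_isIdem {p : ℕ} [Fact p.Prime] [CharP k p] {P : Subgroup G} (hP : IsPGroup p P)
    {a : MonoidAlgebra k G} (hi : IsIdempotentElem a) (ha : IsFixedBy P a) :
    IsIdempotentElem (br P a) := by
  show br P a * br P a = br P a
  rw [← br_mul hP ha ha, hi.eq]

end Cfsg.Agent.Lib.BrauerPairs.Trunc
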