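import Mathlib
import Cfsg.Agent.Lib.BrauerPairs.Trunc

/-!
# Conjugation of blocks between subgroups
-/

set_option autoImplicit false
set_option linter.style.haveILetI false

namespace Cfsg.Agent.Lib.BrauerPairs.Conj

open MonoidAlgebra Cfsg.Agent.Lib.BrauerMap.Basic
open Cfsg.Agent.Lib.BrauerPairs.Center Cfsg.Agent.Lib.BrauerPairs.Trunc

universe u v w

variable {k : Type v} [Field k]

/-- Transport of the centre of the group algebra along an isomorphism. -/
noncomputable def zMap {H : Type u} {H' : Type w} [Group H] [Group H'] (θ : H ≃* H') :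
    ZAlg k H →ₐ[k] ZAlg k H' :=
  (((MonoidAlgebra.domCongr k k θ).toAlgHom.comp (Subalgebra.center k _).val)).codRestrict
    (Subalgebra.center k _) fun z => by
      rw [Subalgebra.mem_center_iff]
      intro b
      obtain ⟨a, rfl⟩ := (MonoidAlgebra.domCongr k k θ).surjective b
      show MonoidAlgebra.domCongr k k θ a * MonoidAlgebra.domCongr k k θ (z : MonoidAlgebra k H) =
        MonoidAlgebra.domCongr k k θ (z : MonoidAlgebra k H) * MonoidAlgebra.domCongr k k θ a
      rw [← map_mul, ← map_mul, Subalgebra.mem_center_iff.mp z.2 a]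

theorem coe_zMap {H : Type u} {H' : Type w} [Group H] [Group H'] (θ : H ≃* H') (z : ZAlg k H) :
    ((zMap θ z : ZAlg k H') : MonoidAlgebra k H') = MonoidAlgebra.domCongr k k θ z := rfl

theorem zMap_symm {H : Type u} {H' : Type w} [Group H] [Group H'] (θ : H ≃* H') (z : ZAlg k H) :
    zMap θ.symm (zMap θ z) = z := by
  apply Subtype.ext
  rw [coe_zMap, coe_zMap, ← domCongr_symm, AlgEquiv.symm_apply_apply]

theorem zMap_idem [IsAlgClosed k] {H : Type u} {H' : Type w} [Group H] [Group H'] [Finite H]
    [Finite H'] (θ : H ≃* H') (ω : Blk k H) :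
    zMap θ (idem ω) = idem (ω.comp (zMap θ.symm)) := by
  refine idem_ext (k := k) ((idem_isIdem ω).map _) (idem_isIdem _) fun φ => ?_
  rw [apply_idem]
  by_cases h : φ = ω.comp (zMap θ.symm)
  · rw [if_pos h, h]
    show ω (zMap θ.symm (zMap θ (idem ω))) = 1
    rw [zMap_symm, apply_idem_self]
  · rw [if_neg h]
    show (φ.comp (zMap θ)) (idem ω) = 0
    refine apply_idem_ne fun e => h (AlgHom.ext fun z => ?_)
    rw [← e]
    show φ z = φ (zMap θ (zMap θ.symm z))
    conv_lhs => rw [← zMap_symm θ.symm z]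
    rfl

variable {G : Type u} [Group G] [Finite G] [IsAlgClosed k]

/-- The extension of the block idempotent of `ω` to `k[G]`. -/
noncomputable def bext (H : Subgroup G) (ω : Blk k H) : MonoidAlgebra k G := ext H (bidem ω)

theorem bext_isIdem (H : Subgroup G) (ω : Blk k H) : IsIdempotentElem (bext H ω) :=
  (bidem_isIdem ω).map (ext H)

theorem bext_injective (H : Subgroup G) : Function.Injective (bext (k := k) H) := fun _ _ h =>
  bidem_injective (ext_injective H h)

theorem isFixedBy_bext (H : Subgroup G) (ω : Blk k H) : IsFixedBy H (bext H ω) :=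
  isFixedBy_ext_of_center (bidem_mem ω)

theorem sum_bext (H : Subgroup G) [Fintype (Blk k H)] : ∑ ω : Blk k H, bext H ω = 1 := by
  simp only [bext]
  rw [← map_sum, sum_bidem, map_one]

theorem bext_mul_bext (H : Subgroup G) {ω ν : Blk k H} (h : ω ≠ ν) :
    bext H ω * bext H ν = 0 := by
  rw [bext, bext, ← map_mul]
  have : bidem ω * bidem ν = 0 := congrArg Subtype.val (idem_mul_idem h)
  rw [this, map_zero]

omit [Finite G] [IsAlgClosed k] in
/-- The isomorphism `H ≃* H'` given by conjugation. -/
def conjEquiv (x : G) (H H' : Subgroup G) (h : ∀ g, g ∈ H ↔ x * g * x⁻¹ ∈ H') : H ≃* H' where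
  toFun a := ⟨x * a * x⁻¹, (h a).mp a.2⟩
  invFun b := ⟨x⁻¹ * b * x, (h _).mpr (by simp [mul_assoc])⟩
  left_inv a := Subtype.ext (by simp [mul_assoc])
  right_inv b := Subtype.ext (by simp [mul_assoc])
  map_mul' a b := Subtype.ext (by simp [mul_assoc])

/-- The conjugate of a block. -/
noncomputable def cBlk (x : G) (H H' : Subgroup G) (h : ∀ g, g ∈ H ↔ x * g * x⁻¹ ∈ H')
    (ω : Blk k H) : Blk k H' :=
  ω.comp (zMap (conjEquiv x H H' h).symm)

theorem bext_cBlk (x : G) (H H' : Subgroup G) (h : ∀ g, g ∈ H ↔ x * g * x⁻¹ ∈ H')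
    (ω : Blk k H) : bext H' (cBlk x H H' h ω) = conjA x (bext H ω) := by
  have e : bidem (cBlk x H H' h ω) = MonoidAlgebra.domCongr k k (conjEquiv x H H' h) (bidem ω) := by
    show ((idem (cBlk x H H' h ω) : ZAlg k H') : MonoidAlgebra k H') = _
    rw [cBlk, ← zMap_idem, coe_zMap]
    rfl
  rw [bext, e, bext]
  generalize bidem ω = z
  induction z using MonoidAlgebra.induction_linear with
  | zero => simp
  | add f g hf hg => simp only [map_add, hf, hg]
  | single a r =>
    rw [domCongr_single, ext_single, ext_single, conjA, domCongr_single]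
    rfl

end Cfsg.Agent.Lib.BrauerPairs.Conj
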