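import Mathlib
import Cfsg.Agent.Lib.BrauerPairs.Conj

/-!
# Brauer pairs over an algebraically closed field: existence and uniqueness of subpairs

A pair is a subgroup `P` with a block of `k[C(P)]`, given as a homomorphism of the centre to `k`.
`Step` is normal inclusion and `Le` its reflexive transitive closure.  Below a pair there is
exactly one pair on each subgroup (`le_unique`).
-/

set_option autoImplicit false
set_option linter.style.haveILetI false

namespace Cfsg.Agent.Lib.BrauerPairs.Pairs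

open MonoidAlgebra Cfsg.Agent.Lib.BrauerMap.Basic
open Cfsg.Agent.Lib.BrauerPairs.Center Cfsg.Agent.Lib.BrauerPairs.Trunc
open Cfsg.Agent.Lib.BrauerPairs.Conj

universe u v

variable {k : Type v} [Field k] [IsAlgClosed k] {G : Type u} [Group G] [Finite G]

local notation "C[" P "]" => Subgroup.centralizer ((P : Subgroup G) : Set G)

omit [Finite G] in
theorem mem_centralizer_map_iff (x : G) (Q : Subgroup G) (g : G) :
    g ∈ C[Q] ↔ x * g * x⁻¹ ∈ C[Q.map (MulAut.conj x).toMonoidHom] := by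
  simp only [Subgroup.mem_centralizer_iff, SetLike.mem_coe, Subgroup.mem_map]
  constructor
  · rintro h _ ⟨q, hq, rfl⟩
    show x * q * x⁻¹ * (x * g * x⁻¹) = x * g * x⁻¹ * (x * q * x⁻¹)
    have := h q hq
    calc x * q * x⁻¹ * (x * g * x⁻¹) = x * (q * g) * x⁻¹ := by group
      _ = x * (g * q) * x⁻¹ := by rw [this]
      _ = _ := by group
  · intro h q hq
    have := h (x * q * x⁻¹) ⟨q, hq, rfl⟩
    have h2 : x * (q * g) * x⁻¹ = x * (g * q) * x⁻¹ := by
      calc x * (q * g) * x⁻¹ = x * q * x⁻¹ * (x * g * x⁻¹) := by group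
        _ = x * g * x⁻¹ * (x * q * x⁻¹) := this
        _ = _ := by group
    exact mul_left_cancel (mul_right_cancel h2)

omit [Finite G] in
theorem map_conj_eq_of_mem {Q : Subgroup G} {x : G} (hx : x ∈ Subgroup.normalizer (Q : Set G)) :
    Q.map (MulAut.conj x).toMonoidHom = Q :=
  Subgroup.mem_normalizer_iff_map_conj_eq.mp hx

omit [Finite G] in
theorem mem_centralizer_conj_iff {Q : Subgroup G} {x : G}
    (hx : x ∈ Subgroup.normalizer (Q : Set G)) (g : G) : g ∈ C[Q] ↔ x * g * x⁻¹ ∈ C[Q] := by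
  have h := mem_centralizer_map_iff x Q g
  rwa [map_conj_eq_of_mem hx] at h

omit [Finite G] in
theorem le_normalizer_centralizer {Q : Subgroup G} {R : Subgroup G}
    (hR : R ≤ Subgroup.normalizer (Q : Set G)) : R ≤ Subgroup.normalizer (C[Q] : Set G) := by
  intro x hx
  rw [Subgroup.mem_normalizer_iff]
  exact mem_centralizer_conj_iff (hR hx)

/-- Conjugation of blocks of `C(Q)` by an element normalizing `Q`. -/
noncomputable def act (Q : Subgroup G) {x : G} (hx : x ∈ Subgroup.normalizer (Q : Set G))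
    (ω : Blk k C[Q]) : Blk k C[Q] :=
  cBlk x C[Q] C[Q] (mem_centralizer_conj_iff hx) ω

theorem bext_act (Q : Subgroup G) {x : G} (hx : x ∈ Subgroup.normalizer (Q : Set G))
    (ω : Blk k C[Q]) : bext C[Q] (act Q hx ω) = conjA x (bext C[Q] ω) :=
  bext_cBlk _ _ _ _ _

/-- The action of a subgroup of the normalizer of `Q` on the blocks of `C(Q)`. -/
@[reducible] noncomputable def blkAction (Q R : Subgroup G)
    (hR : R ≤ Subgroup.normalizer (Q : Set G)) : MulAction R (Blk k C[Q]) where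
  smul u ω := act Q (hR u.2) ω
  one_smul ω := bext_injective _ (by
    show bext C[Q] (act Q (hR (1 : R).2) ω) = _
    rw [bext_act, Subgroup.coe_one, conjA_one])
  mul_smul u w ω := bext_injective _ (by
    show bext C[Q] (act Q (hR (u * w : R).2) ω) = bext C[Q] (act Q (hR u.2) (act Q (hR w.2) ω))
    rw [bext_act, bext_act, bext_act, Subgroup.coe_mul, conjA_mul])

theorem act_eq_iff {Q : Subgroup G} {x : G} (hx : x ∈ Subgroup.normalizer (Q : Set G))
    (ω : Blk k C[Q]) : act Q hx ω = ω ↔ conjA x (bext C[Q] ω) = bext C[Q] ω := by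
  constructor
  · intro h; rw [← bext_act Q hx, h]
  · intro h; exact bext_injective _ (by rw [bext_act, h])

theorem isFixedBy_bext_of_le {Q R : Subgroup G} (h : R ≤ C[Q]) (ω : Blk k C[Q]) :
    IsFixedBy R (bext C[Q] ω) :=
  isFixedBy_mono h (isFixedBy_bext _ ω)

theorem isFixedBy_centralizer_bext {Q P : Subgroup G} (h : Q ≤ P) (ω : Blk k C[Q]) :
    IsFixedBy C[P] (bext C[Q] ω) :=
  isFixedBy_bext_of_le (centralizer_anti h) ω

variable {p : ℕ} [Fact p.Prime] [CharP k p]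

open scoped Classical in
/-- Only the fixed blocks of an invariant set survive truncation. -/
theorem br_sum_fixed {Q P : Subgroup G} [Fintype (Blk k C[Q])] (hP : IsPGroup p P)
    (hPN : P ≤ Subgroup.normalizer (Q : Set G)) (S : Finset (Blk k C[Q]))
    (hS : ∀ (x : G) (hx : x ∈ P), ∀ ω ∈ S, act Q (hPN hx) ω ∈ S) :
    br P (∑ ω ∈ S, bext C[Q] ω) =
      br P (∑ ω ∈ S.filter (fun ω => IsFixedBy P (bext C[Q] ω)), bext C[Q] ω) := by
  letI := blkAction (k := k) Q P hPN
  have hfix : ∀ ω : Blk k C[Q], IsFixedBy P (bext C[Q] ω) ↔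
      ω ∈ MulAction.fixedPoints P (Blk k C[Q]) := by
    intro ω
    rw [isFixedBy_iff]
    constructor
    · intro h u
      exact (act_eq_iff (hPN u.2) ω).mpr (h u u.2)
    · intro h u hu
      exact (act_eq_iff (hPN hu) ω).mp (h ⟨u, hu⟩)
  ext g
  rw [coeff_br, coeff_br]
  simp only [MonoidAlgebra.coeff_sum, Finsupp.finsetSum_apply]
  have key := sum_eq_sum_fixed hP
    (fun ω : Blk k C[Q] => if ω ∈ S then (bext C[Q] ω).coeff (g : G) else 0) (by
      intro u ω
      have hmem : u • ω ∈ S ↔ ω ∈ S := by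
        refine ⟨fun h => ?_, fun h => hS u u.2 ω h⟩
        have := hS (u⁻¹ : P) (u⁻¹ : P).2 _ h
        rwa [show act Q (hPN (u⁻¹ : P).2) (u • ω) = u⁻¹ • (u • ω) from rfl, inv_smul_smul] at this
      refine if_congr hmem ?_ rfl
      show (bext C[Q] (act Q (hPN u.2) ω)).coeff (g : G) = _
      rw [bext_act, coeff_conjA]
      congr 1
      rw [mul_assoc, ← g.2 (u : G) u.2, ← mul_assoc, inv_mul_cancel, one_mul])
  rw [← Finset.sum_filter, ← Finset.sum_filter, Finset.filter_filter] at key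
  refine Eq.trans ?_ (key.trans ?_)
  · exact Finset.sum_congr (by ext; simp) fun _ _ => rfl
  · exact Finset.sum_congr (by ext ω; simp [hfix, and_comm]) fun _ _ => rfl

/-- The normal inclusion of pairs. -/
def Step (p : ℕ) (Q : Subgroup G) (ω : Blk k C[Q]) (P : Subgroup G) (ν : Blk k C[P]) : Prop :=
  IsPGroup p P ∧ Q ≤ P ∧ P ≤ Subgroup.normalizer (Q : Set G) ∧
    IsFixedBy P (bext C[Q] ω) ∧ val P ν (bext C[Q] ω) = 1

open scoped Classical in
theorem sum_val_fixed {Q P : Subgroup G} [Fintype (Blk k C[Q])] (hP : IsPGroup p P) (hQP : Q ≤ P)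
    (hPN : P ≤ Subgroup.normalizer (Q : Set G)) (ν : Blk k C[P]) (S : Finset (Blk k C[Q]))
    (hS : ∀ (x : G) (hx : x ∈ P), ∀ ω ∈ S, act Q (hPN hx) ω ∈ S) :
    val P ν (∑ ω ∈ S, bext C[Q] ω) =
      ∑ ω ∈ S.filter (fun ω => IsFixedBy P (bext C[Q] ω)), val P ν (bext C[Q] ω) := by
  rw [val_congr ν (br_sum_fixed hP hPN S hS),
    val_sum ν _ _ fun ω _ => isFixedBy_centralizer_bext hQP ω]

theorem existsUnique_step {Q P : Subgroup G} (hP : IsPGroup p P) (hQP : Q ≤ P)
    (hPN : P ≤ Subgroup.normalizer (Q : Set G)) (ν : Blk k C[P]) :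
    ∃! ω : Blk k C[Q], Step p Q ω P ν := by
  classical
  haveI := Fintype.ofFinite (Blk k C[Q])
  have h1 := sum_val_fixed (k := k) hP hQP hPN ν Finset.univ (fun _ _ _ _ => Finset.mem_univ _)
  rw [sum_bext, val_one] at h1
  obtain ⟨ω, hω, hne⟩ := Finset.exists_ne_zero_of_sum_ne_zero
    (h1.symm ▸ one_ne_zero : (∑ ω ∈ Finset.univ.filter
      (fun ω => IsFixedBy P (bext C[Q] ω)), val P ν (bext C[Q] ω)) ≠ 0)
  have hωf := (Finset.mem_filter.mp hω).2
  have hv1 : val P ν (bext C[Q] ω) = 1 :=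
    (val_zero_or_one hP ν (bext_isIdem _ ω) hωf (isFixedBy_centralizer_bext hQP ω)).resolve_left hne
  refine ⟨ω, ⟨hP, hQP, hPN, hωf, hv1⟩, fun μ hμ => ?_⟩
  by_contra hne
  have h2 := val_mul hP ν hμ.2.2.2.1 hωf (isFixedBy_centralizer_bext hQP μ)
    (isFixedBy_centralizer_bext hQP ω)
  rw [bext_mul_bext _ hne, val_zero, hμ.2.2.2.2, hv1, one_mul] at h2
  exact zero_ne_one h2

/-- An idempotent passes along a normal inclusion. -/
theorem val_iff_of_step {R R' : Subgroup G} {μ : Blk k C[R]} {μ' : Blk k C[R']}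
    (h : Step p R μ R' μ') {a : MonoidAlgebra k G} (hi : IsIdempotentElem a)
    (hR' : IsFixedBy R' a) (hC : IsFixedBy C[R] a) :
    val R μ a = 1 ↔ val R' μ' a = 1 := by
  classical
  obtain ⟨hp', hRR', hN, hfix, hval⟩ := h
  haveI := Fintype.ofFinite (Blk k C[R])
  have hp : IsPGroup p R := hp'.to_le hRR'
  set y : ZAlg k C[R] := ⟨br R a, br_mem_center hC⟩ with hy
  have hyi : IsIdempotentElem y := Subtype.ext (br_isIdem hp hi (isFixedBy_mono hRR' hR'))
  set S := Finset.univ.filter (fun ψ : Blk k C[R] => ψ y = 1) with hSdef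
  have hy2 : ext C[R] (br R a) = ∑ ψ ∈ S, bext C[R] ψ := by
    have := congrArg (fun z : ZAlg k C[R] => ext C[R] (z : MonoidAlgebra k C[R]))
      (eq_sum_idem (k := k) hyi)
    simp only [AddSubmonoidClass.coe_finsetSum, map_sum] at this
    exact this
  have hconj : ∀ x ∈ R', conjA x (ext C[R] (br R a)) = ext C[R] (br R a) := by
    intro x hx
    ext g
    rw [coeff_conjA]
    have hm : x⁻¹ * g * x ∈ C[R] ↔ g ∈ C[R] := by
      rw [mem_centralizer_conj_iff (hN hx) (x⁻¹ * g * x)]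
      simp [mul_assoc]
    by_cases hg : g ∈ C[R]
    · have hg' := hm.mpr hg
      refine (coeff_ext C[R] _ ⟨_, hg'⟩).trans (Eq.trans ?_ (coeff_ext C[R] _ ⟨g, hg⟩).symm)
      rw [coeff_br, coeff_br]
      have := hR' x⁻¹ (inv_mem hx) g
      simpa using this
    · rw [coeff_ext_of_notMem _ _ hg, coeff_ext_of_notMem _ _ (fun h' => hg (hm.mp h'))]
  have hS : ∀ (x : G) (hx : x ∈ R'), ∀ ψ ∈ S, act R (hN hx) ψ ∈ S := by
    intro x hx ψ hψ
    rw [hSdef, Finset.mem_filter] at hψ ⊢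
    refine ⟨Finset.mem_univ _, ?_⟩
    have h1 : ext C[R] ((y * idem ψ : ZAlg k C[R]) : MonoidAlgebra k C[R]) = bext C[R] ψ := by
      rw [mul_idem_eq ψ hyi hψ.2]
      rfl
    have h2 : ext C[R] ((y * idem (act R (hN hx) ψ) : ZAlg k C[R]) : MonoidAlgebra k C[R]) =
        bext C[R] (act R (hN hx) ψ) := by
      rw [MulMemClass.coe_mul, map_mul]
      show ext C[R] (br R a) * bext C[R] (act R (hN hx) ψ) = _
      rw [bext_act]
      conv_rhs => rw [← h1, MulMemClass.coe_mul, map_mul, map_mul, hconj x hx]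
      rfl
    have h3 : y * idem (act R (hN hx) ψ) = idem (act R (hN hx) ψ) :=
      Subtype.ext (ext_injective _ h2)
    have h4 := congrArg (act R (hN hx) ψ) h3
    rwa [map_mul, apply_idem_self, mul_one] at h4
  have key : val R' μ' a = ∑ ψ ∈ S.filter (fun ψ => IsFixedBy R' (bext C[R] ψ)),
      val R' μ' (bext C[R] ψ) := by
    rw [← sum_val_fixed hp' hRR' hN μ' S hS, ← hy2]
    exact val_congr μ' (br_ext_br hRR' a).symm
  have huniq : ∀ ψ, IsFixedBy R' (bext C[R] ψ) → val R' μ' (bext C[R] ψ) ≠ 0 → ψ = μ := by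
    intro ψ hψ hne
    refine (existsUnique_step hp' hRR' hN μ').unique ⟨hp', hRR', hN, hψ, ?_⟩
      ⟨hp', hRR', hN, hfix, hval⟩
    exact (val_zero_or_one hp' μ' (bext_isIdem _ ψ) hψ
      (isFixedBy_centralizer_bext hRR' ψ)).resolve_left hne
  have hval_eq : val R μ a = μ y := val_eq μ hC
  rw [hval_eq]
  constructor
  · intro hμ
    rw [key, Finset.sum_eq_single μ]
    · exact hval
    · intro ψ hψ hne
      by_contra h0
      exact hne (huniq ψ (Finset.mem_filter.mp hψ).2 h0)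
    · intro hmem
      refine absurd ?_ hmem
      rw [hSdef, Finset.mem_filter, Finset.mem_filter]
      exact ⟨⟨Finset.mem_univ _, hμ⟩, hfix⟩
  · intro h1
    obtain ⟨ψ, hψ, hne⟩ := Finset.exists_ne_zero_of_sum_ne_zero
      ((key.symm.trans h1).symm ▸ one_ne_zero : (∑ ψ ∈ S.filter
        (fun ψ => IsFixedBy R' (bext C[R] ψ)), val R' μ' (bext C[R] ψ)) ≠ 0)
    obtain ⟨hψS, hψf⟩ := Finset.mem_filter.mp hψ
    rw [huniq ψ hψf hne] at hψS
    exact (Finset.mem_filter.mp hψS).2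

/-! ### Chains -/

/-- The index type of pairs. -/
abbrev Idx (k : Type v) [Field k] (G : Type u) [Group G] : Type max u v :=
  Σ Q : Subgroup G, Blk k (Subgroup.centralizer (Q : Set G))

/-- Inclusion of pairs. -/
def Le (p : ℕ) (a b : Idx k G) : Prop :=
  Relation.ReflTransGen (fun a b : Idx k G => Step p a.1 a.2 b.1 b.2) a b

omit [Fact p.Prime] [CharP k p] in
theorem Le.subgroup_le {a b : Idx k G} (h : Le p a b) : a.1 ≤ b.1 := by
  induction h with
  | refl => exact le_rfl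
  | tail _ h2 ih => exact ih.trans h2.2.1

theorem step_self_iff {P : Subgroup G} (hP : IsPGroup p P) (ω ν : Blk k C[P]) :
    Step p P ω P ν ↔ ω = ν := by
  classical
  have hb : ∀ ω : Blk k C[P], br P (bext C[P] ω) = bidem ω := by
    intro ω
    ext g
    rw [coeff_br]
    exact coeff_ext _ _ g
  have hv : ∀ ω ν : Blk k C[P], val P ν (bext C[P] ω) = ν (idem ω) := by
    intro ω ν
    rw [val_eq ν (isFixedBy_bext _ ω)]
    exact congrArg ν (Subtype.ext (hb ω))
  constructor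
  · rintro ⟨-, -, -, -, h⟩
    rw [hv] at h
    exact (eq_of_apply_idem_ne_zero (h ▸ one_ne_zero)).symm
  · rintro rfl
    refine ⟨hP, le_rfl, Subgroup.le_normalizer, ?_, by rw [hv, apply_idem_self]⟩
    intro u hu g
    by_cases hg : g ∈ C[P]
    · have hc : u * g * u⁻¹ = g := by rw [hg u hu, mul_inv_cancel_right]
      rw [hc]
    · rw [bext, coeff_ext_of_notMem _ _ hg, coeff_ext_of_notMem]
      rwa [← mem_centralizer_conj_iff (Subgroup.le_normalizer hu) g]

omit [Fact p.Prime] [CharP k p] in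
/-- A nontrivial chain has a first proper step. -/
theorem exists_first_step [Fact p.Prime] [CharP k p] {a b : Idx k G} (h : Le p a b) :
    a = b ∨ ∃ c : Idx k G, a.1 < c.1 ∧ Step p a.1 a.2 c.1 c.2 ∧ Le p c b := by
  induction h using Relation.ReflTransGen.head_induction_on with
  | refl => exact Or.inl rfl
  | @head a c hac hcb ih =>
    rcases eq_or_lt_of_le hac.2.1 with heq | hlt
    · obtain ⟨Q, ω⟩ := a
      obtain ⟨R, μ⟩ := c
      simp only at heq
      subst heq
      obtain rfl := (step_self_iff hac.1 ω μ).mp hac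
      exact ih
    · exact Or.inr ⟨c, hlt, hac, hcb⟩

/-- An idempotent passes along a chain. -/
theorem val_iff_of_le {a b : Idx k G} (h : Le p a b) {x : MonoidAlgebra k G}
    (hi : IsIdempotentElem x) (hb : IsFixedBy b.1 x) (hC : IsFixedBy C[a.1] x) :
    val a.1 a.2 x = 1 ↔ val b.1 b.2 x = 1 := by
  induction h using Relation.ReflTransGen.head_induction_on with
  | refl => exact Iff.rfl
  | @head a c hac hcb ih =>
    rw [val_iff_of_step hac hi (isFixedBy_mono (Le.subgroup_le hcb) hb) hC]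
    exact ih (isFixedBy_mono (centralizer_anti hac.2.1) hC)

omit [Finite G] in
theorem lt_normalizer_inf [Finite G] {P Q : Subgroup G} (hP : IsPGroup p P) (hlt : Q < P) :
    Q < P ⊓ Subgroup.normalizer (Q : Set G) := by
  haveI := hP.isNilpotent
  have h1 : Q.subgroupOf P < ⊤ := by
    rw [lt_top_iff_ne_top, Ne, Subgroup.subgroupOf_eq_top]
    exact not_le_of_gt hlt
  have h2 := Group.normalizerCondition_of_isNilpotent (G := P) (Q.subgroupOf P) h1
  obtain ⟨x, hx, hxQ⟩ := SetLike.exists_of_lt h2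
  refine SetLike.lt_iff_le_and_exists.mpr
    ⟨le_inf hlt.le Subgroup.le_normalizer, (x : G), Subgroup.mem_inf.mpr ⟨x.2, ?_⟩, hxQ⟩
  rw [Subgroup.mem_normalizer_iff] at hx ⊢
  intro g
  constructor
  · intro hg
    exact (hx ⟨g, hlt.le hg⟩).mp hg
  · intro hg
    have hgP : g ∈ P := by
      have := P.mul_mem (P.mul_mem (P.inv_mem x.2) (hlt.le hg)) x.2
      simpa [mul_assoc] using this
    exact (hx ⟨g, hgP⟩).mpr hg

theorem exists_le_of_le {P : Subgroup G} (hP : IsPGroup p P) (ν : Blk k C[P]) :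
    ∀ Q : Subgroup G, Q ≤ P → ∃ ω : Blk k C[Q], Le p ⟨Q, ω⟩ ⟨P, ν⟩ := by
  suffices ∀ (n : ℕ) (Q : Subgroup G), Q ≤ P → Nat.card P ≤ Nat.card Q + n →
      ∃ ω : Blk k C[Q], Le p ⟨Q, ω⟩ ⟨P, ν⟩ from
    fun Q hQ => this (Nat.card P) Q hQ (Nat.le_add_left _ _)
  intro n
  induction n with
  | zero =>
    intro Q hQ hn
    obtain rfl := Subgroup.eq_of_le_of_card_ge hQ (by omega)
    exact ⟨ν, Relation.ReflTransGen.refl⟩
  | succ n ih =>
    intro Q hQ hn
    rcases eq_or_lt_of_le hQ with rfl | hlt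
    · exact ⟨ν, Relation.ReflTransGen.refl⟩
    have hlt' := lt_normalizer_inf hP hlt
    have hc : Nat.card Q < Nat.card ↥(P ⊓ Subgroup.normalizer (Q : Set G)) := by
      by_contra hle
      exact hlt'.ne (Subgroup.eq_of_le_of_card_ge hlt'.le (Nat.not_lt.mp hle))
    obtain ⟨μ, hμ⟩ := ih (P ⊓ Subgroup.normalizer (Q : Set G)) inf_le_left (by omega)
    obtain ⟨ω, hω, -⟩ := existsUnique_step (hP.to_le inf_le_left) hlt'.le inf_le_right μ
    exact ⟨ω, Relation.ReflTransGen.head hω hμ⟩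

theorem le_unique {P : Subgroup G} (hP : IsPGroup p P) (ν : Blk k C[P]) {Q : Subgroup G}
    {ω₁ ω₂ : Blk k C[Q]} (h1 : Le p ⟨Q, ω₁⟩ ⟨P, ν⟩) (h2 : Le p ⟨Q, ω₂⟩ ⟨P, ν⟩) : ω₁ = ω₂ := by
  suffices ∀ (n : ℕ) (Q : Subgroup G), Nat.card P ≤ Nat.card Q + n → ∀ ω₁ ω₂ : Blk k C[Q],
      Le p ⟨Q, ω₁⟩ ⟨P, ν⟩ → Le p ⟨Q, ω₂⟩ ⟨P, ν⟩ → ω₁ = ω₂ from
    this (Nat.card P) Q (Nat.le_add_left _ _) ω₁ ω₂ h1 h2
  clear h1 h2 ω₁ ω₂ Q
  intro n
  induction n with
  | zero =>
    intro Q hn ω₁ ω₂ h1 h2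
    obtain rfl := Subgroup.eq_of_le_of_card_ge (Le.subgroup_le h1) (by show Nat.card P ≤ _; omega)
    have : ∀ ω : Blk k C[Q], Le p ⟨Q, ω⟩ ⟨Q, ν⟩ → ω = ν := by
      intro ω h
      rcases exists_first_step h with he | ⟨c, hlt, -, hc⟩
      · exact eq_of_heq (Sigma.mk.inj_iff.mp he).2
      · exact absurd (Le.subgroup_le hc) hlt.not_ge
    rw [this _ h1, this _ h2]
  | succ n ih =>
    intro Q hn ω₁ ω₂ h1 h2
    have hQP : Q ≤ P := Le.subgroup_le h1
    rcases eq_or_lt_of_le hQP with rfl | hlt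
    · have : ∀ ω : Blk k C[Q], Le p ⟨Q, ω⟩ ⟨Q, ν⟩ → ω = ν := by
        intro ω h
        rcases exists_first_step h with he | ⟨c, hlt, -, hc⟩
        · exact eq_of_heq (Sigma.mk.inj_iff.mp he).2
        · exact absurd (Le.subgroup_le hc) hlt.not_ge
      rw [this _ h1, this _ h2]
    set N := P ⊓ Subgroup.normalizer (Q : Set G) with hN
    have hNp : IsPGroup p N := hP.to_le inf_le_left
    have hQN : Q ≤ N := le_inf hQP Subgroup.le_normalizer
    obtain ⟨μN, hμN⟩ := exists_le_of_le hP ν N inf_le_left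
    obtain ⟨ω₀, hω₀, -⟩ := existsUnique_step hNp hQN inf_le_right μN
    suffices ∀ ω : Blk k C[Q], Le p ⟨Q, ω⟩ ⟨P, ν⟩ → ω = ω₀ by rw [this _ h1, this _ h2]
    intro ω h
    rcases exists_first_step h with he | ⟨⟨R, μ⟩, hlt', hstep, hle⟩
    · exact absurd (congrArg Sigma.fst he) hlt.ne
    have hRN : R ≤ N := le_inf (Le.subgroup_le hle) hstep.2.2.1
    have hc : Nat.card Q < Nat.card R := by
      by_contra hle'
      exact hlt'.ne (Subgroup.eq_of_le_of_card_ge hlt'.le (Nat.not_lt.mp hle'))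
    obtain ⟨μ', hμ'⟩ := exists_le_of_le hNp μN R hRN
    obtain rfl := ih R (by omega) μ μ' hle (hμ'.trans hμN)
    refine (existsUnique_step hstep.1 hstep.2.1 hstep.2.2.1 μ).unique hstep
      ⟨hstep.1, hstep.2.1, hstep.2.2.1, isFixedBy_mono hRN hω₀.2.2.2.1, ?_⟩
    exact (val_iff_of_le hμ' (bext_isIdem _ ω₀) hω₀.2.2.2.1
      (isFixedBy_centralizer_bext hstep.2.1 ω₀)).mpr hω₀.2.2.2.2

theorem existsUnique_le {P : Subgroup G} (hP : IsPGroup p P) (ν : Blk k C[P]) {Q : Subgroup G}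
    (hQ : Q ≤ P) : ∃! ω : Blk k C[Q], Le p ⟨Q, ω⟩ ⟨P, ν⟩ := by
  obtain ⟨ω, hω⟩ := exists_le_of_le hP ν Q hQ
  exact ⟨ω, hω, fun ω' h => le_unique hP ν h hω⟩

/-- The block of a pair of `G`: pairs below one another have the same block. -/
theorem val_center_iff_of_le {a b : Idx k G} (h : Le p a b) {x : MonoidAlgebra k G}
    (hi : IsIdempotentElem x) (hx : x ∈ Subalgebra.center k (MonoidAlgebra k G)) :
    val a.1 a.2 x = 1 ↔ val b.1 b.2 x = 1 :=
  val_iff_of_le h hi (isFixedBy_of_mem_center _ hx) (isFixedBy_of_mem_center _ hx)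

end Cfsg.Agent.Lib.BrauerPairs.Pairs
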