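import Mathlib
import Cfsg.Agent.Lib.BrauerPairs.Pairs

/-!
# Conjugation invariance of pairs, values and chains
-/

set_option autoImplicit false
set_option linter.style.haveILetI false

namespace Cfsg.Agent.Lib.BrauerPairs.Transport

open MonoidAlgebra Cfsg.Agent.Lib.BrauerMap.Basic
open Cfsg.Agent.Lib.BrauerPairs.Center Cfsg.Agent.Lib.BrauerPairs.Trunc
open Cfsg.Agent.Lib.BrauerPairs.Conj Cfsg.Agent.Lib.BrauerPairs.Pairs

universe u v

variable {k : Type v} [Field k] {G : Type u} [Group G] [Finite G]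

local notation "C[" P "]" => Subgroup.centralizer ((P : Subgroup G) : Set G)

omit [Finite G] in
theorem mem_map_conj_iff (x : G) (Q : Subgroup G) (g : G) :
    g ∈ Q.map (MulAut.conj x).toMonoidHom ↔ x⁻¹ * g * x ∈ Q := by
  constructor
  · rintro ⟨q, hq, rfl⟩
    show x⁻¹ * (x * q * x⁻¹) * x ∈ Q
    simpa [mul_assoc] using hq
  · intro h
    exact ⟨_, h, by show x * (x⁻¹ * g * x) * x⁻¹ = g; simp [mul_assoc]⟩

omit [Finite G] in
theorem conj_mem_map (x : G) (Q : Subgroup G) {q : G} (h : q ∈ Q) :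
    x * q * x⁻¹ ∈ Q.map (MulAut.conj x).toMonoidHom := ⟨q, h, rfl⟩

omit [Finite G] in
theorem conj_mem_normalizer {x n : G} {Q : Subgroup G}
    (hn : n ∈ Subgroup.normalizer (Q : Set G)) :
    x * n * x⁻¹ ∈ Subgroup.normalizer ((Q.map (MulAut.conj x).toMonoidHom : Subgroup G) : Set G) :=
  Subgroup.le_normalizer_map _ ⟨n, hn, rfl⟩

theorem isFixedBy_conjA {R : Subgroup G} {a : MonoidAlgebra k G} (h : IsFixedBy R a) (x : G) :
    IsFixedBy (R.map (MulAut.conj x).toMonoidHom) (conjA x a) := by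
  rw [isFixedBy_iff] at *
  intro u hu
  have h1 := h _ ((mem_map_conj_iff x R u).mp hu)
  rw [← conjA_mul, show u * x = x * (x⁻¹ * u * x) by simp [mul_assoc], conjA_mul, h1]

theorem br_conjA (x : G) (P P' : Subgroup G) (h : ∀ g, g ∈ C[P] ↔ x * g * x⁻¹ ∈ C[P'])
    (a : MonoidAlgebra k G) :
    br P' (conjA x a) = MonoidAlgebra.domCongr k k (conjEquiv x C[P] C[P'] h) (br P a) := by
  apply ext_injective C[P']
  have e : ∀ z : MonoidAlgebra k C[P],
      ext C[P'] (MonoidAlgebra.domCongr k k (conjEquiv x C[P] C[P'] h) z) =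
        conjA x (ext C[P] z) := by
    intro z
    induction z using MonoidAlgebra.induction_linear with
    | zero => simp
    | add f g hf hg => simp only [map_add, hf, hg]
    | single b r =>
      rw [domCongr_single, ext_single, ext_single, conjA, domCongr_single]
      rfl
  rw [e]
  ext g
  rw [coeff_conjA]
  by_cases hg : g ∈ C[P']
  · have hg' : x⁻¹ * g * x ∈ C[P] := (h _).mpr (by simpa [mul_assoc] using hg)
    exact (coeff_ext _ _ ⟨g, hg⟩).trans ((coeff_br _ _ _).trans ((coeff_conjA x a g).trans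
      ((coeff_ext _ (br P a) ⟨_, hg'⟩).trans (coeff_br _ _ _)).symm))
  · rw [coeff_ext_of_notMem _ _ hg, coeff_ext_of_notMem]
    intro h'
    apply hg
    have := (h _).mp h'
    simpa [mul_assoc] using this

theorem val_cBlk (x : G) (P P' : Subgroup G) (h : ∀ g, g ∈ C[P] ↔ x * g * x⁻¹ ∈ C[P'])
    (ω : Blk k C[P]) (a : MonoidAlgebra k G) (ha : IsFixedBy C[P] a)
    (ha' : IsFixedBy C[P'] (conjA x a)) :
    val P' (cBlk x C[P] C[P'] h ω) (conjA x a) = val P ω a := by
  rw [val_eq _ ha, val_eq _ ha']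
  have : (⟨br P' (conjA x a), br_mem_center ha'⟩ : ZAlg k C[P']) =
      zMap (conjEquiv x C[P] C[P'] h) ⟨br P a, br_mem_center ha⟩ := by
    apply Subtype.ext
    rw [coe_zMap]
    exact br_conjA x P P' h a
  rw [this]
  show ω (zMap (conjEquiv x C[P] C[P'] h).symm (zMap (conjEquiv x C[P] C[P'] h) _)) = _
  rw [zMap_symm]

theorem conjA_eq_of_mem_center {z : MonoidAlgebra k G}
    (hz : z ∈ Subalgebra.center k (MonoidAlgebra k G)) (x : G) : conjA x z = z := by
  ext g
  rw [coeff_conjA]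
  simpa using (mem_center_iff_coeff z).1 hz x⁻¹ g

variable [IsAlgClosed k]

/-- The conjugate pair. -/
noncomputable def cPair (x : G) (a : Idx k G) : Idx k G :=
  ⟨a.1.map (MulAut.conj x).toMonoidHom,
    cBlk x C[a.1] _ (mem_centralizer_map_iff x a.1) a.2⟩

theorem bext_cPair (x : G) (a : Idx k G) :
    bext C[(cPair x a).1] (cPair x a).2 = conjA x (bext C[a.1] a.2) :=
  bext_cBlk _ _ _ _ _

omit [IsAlgClosed k] in
theorem sigma_ext_of_bext [IsAlgClosed k] {a b : Idx k G} (h1 : a.1 = b.1)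
    (h2 : bext C[a.1] a.2 = bext C[b.1] b.2) : a = b := by
  obtain ⟨Q, ω⟩ := a
  obtain ⟨R, μ⟩ := b
  simp only at h1
  subst h1
  exact Sigma.ext rfl (heq_of_eq (bext_injective _ h2))

theorem cPair_one (a : Idx k G) : cPair 1 a = a := by
  refine sigma_ext_of_bext ?_ (by rw [bext_cPair, conjA_one])
  show a.1.map (MulAut.conj (1 : G)).toMonoidHom = a.1
  exact Subgroup.mem_normalizer_iff_map_conj_eq.mp (one_mem _)

theorem cPair_mul (x y : G) (a : Idx k G) : cPair (x * y) a = cPair x (cPair y a) := by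
  refine sigma_ext_of_bext ?_ (by rw [bext_cPair, bext_cPair, bext_cPair, conjA_mul])
  show a.1.map (MulAut.conj (x * y)).toMonoidHom =
    (a.1.map (MulAut.conj y).toMonoidHom).map (MulAut.conj x).toMonoidHom
  rw [Subgroup.map_map]
  congr 1
  ext g
  simp [mul_assoc]

theorem cPair_of_mem_centralizer {a : Idx k G} {x : G}
    (hx : x ∈ C[a.1]) : cPair x a = a := by
  refine sigma_ext_of_bext ?_ ?_
  · exact Subgroup.mem_normalizer_iff_map_conj_eq.mp (Subgroup.centralizer_le_normalizer _ hx)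
  · rw [bext_cPair]
    exact (isFixedBy_iff _ _).mp (isFixedBy_bext _ _) x hx

variable {p : ℕ}

theorem step_cPair (x : G) {a b : Idx k G} (h : Step p a.1 a.2 b.1 b.2) :
    Step p (cPair x a).1 (cPair x a).2 (cPair x b).1 (cPair x b).2 := by
  obtain ⟨hp, hle, hn, hfix, hval⟩ := h
  refine ⟨hp.map _, Subgroup.map_mono hle, ?_, ?_, ?_⟩
  · rintro _ ⟨n, hn', rfl⟩
    exact conj_mem_normalizer (hn hn')
  · rw [bext_cPair]
    exact isFixedBy_conjA hfix x
  · rw [bext_cPair]
    exact (val_cBlk x b.1 _ (mem_centralizer_map_iff x b.1) b.2 _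
      (isFixedBy_centralizer_bext hle a.2) (by
        rw [← bext_cPair]
        exact isFixedBy_centralizer_bext (Subgroup.map_mono hle) _)).trans hval

theorem le_cPair (x : G) {a b : Idx k G} (h : Le p a b) : Le p (cPair x a) (cPair x b) := by
  induction h with
  | refl => exact Relation.ReflTransGen.refl
  | tail _ hs ih => exact Relation.ReflTransGen.tail ih (step_cPair x hs)

theorem val_cPair_center (x : G) (a : Idx k G) {z : MonoidAlgebra k G}
    (hz : z ∈ Subalgebra.center k (MonoidAlgebra k G)) :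
    val (cPair x a).1 (cPair x a).2 z = val a.1 a.2 z := by
  have h := val_cBlk x a.1 _ (mem_centralizer_map_iff x a.1) a.2 z (isFixedBy_of_mem_center _ hz)
    (by rw [conjA_eq_of_mem_center hz]; exact isFixedBy_of_mem_center _ hz)
  rwa [conjA_eq_of_mem_center hz] at h

end Cfsg.Agent.Lib.BrauerPairs.Transport
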