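import Mathlib
import Cfsg.Agent.Lib.BrauerPairs.Transport

/-!
# Blocks of pairs, defect groups, maximal pairs

Every pair has one block.  Maximal pairs (`Top`) of a block are conjugate, and their subgroups are
the defect groups of the block.
-/

set_option autoImplicit false
set_option linter.style.haveILetI false

namespace Cfsg.Agent.Lib.BrauerPairs.Maximal

open MonoidAlgebra Cfsg.Agent.Lib.BrauerMap.Basic Cfsg.Agent.Lib.BrauerMap.ClassSum
open Cfsg.Agent.Lib.BrauerPairs.Center Cfsg.Agent.Lib.BrauerPairs.Trunc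
open Cfsg.Agent.Lib.BrauerPairs.Conj Cfsg.Agent.Lib.BrauerPairs.Pairs
open Cfsg.Agent.Lib.BrauerPairs.Transport

universe u v

variable {k : Type v} [Field k] [IsAlgClosed k] {G : Type u} [Group G] [Finite G]
variable {p : ℕ} [Fact p.Prime] [CharP k p]

local notation "C[" P "]" => Subgroup.centralizer ((P : Subgroup G) : Set G)

/-- The pair `(Q, ω)` is a pair of the block `ψ`. -/
def PairOf (p : ℕ) (ψ : Blk k G) (a : Idx k G) : Prop :=
  IsPGroup p a.1 ∧ val a.1 a.2 (bidem ψ) = 1

/-- The block of a pair, as a homomorphism. -/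
noncomputable def pairBlk {a : Idx k G} (ha : IsPGroup p a.1) : Blk k G :=
  a.2.comp (brauerHom ha le_rfl (Subgroup.centralizer_le_normalizer _))

theorem pairBlk_apply {a : Idx k G} (ha : IsPGroup p a.1) (z : ZAlg k G) :
    pairBlk ha z = val a.1 a.2 (z : MonoidAlgebra k G) := by
  rw [val_eq a.2 (isFixedBy_of_mem_center _ z.2)]
  exact congrArg a.2 (Subtype.ext (brauerHom_apply ha le_rfl (Subgroup.centralizer_le_normalizer _) z))

theorem pairOf_iff {ψ : Blk k G} {a : Idx k G} :
    PairOf p ψ a ↔ ∃ ha : IsPGroup p a.1, pairBlk ha = ψ := by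
  constructor
  · rintro ⟨ha, h⟩
    refine ⟨ha, eq_of_apply_idem_ne_zero ?_⟩
    rw [pairBlk_apply]
    exact h ▸ one_ne_zero
  · rintro ⟨ha, rfl⟩
    refine ⟨ha, ?_⟩
    rw [show bidem (pairBlk ha) = ((idem (pairBlk ha) : ZAlg k G) : MonoidAlgebra k G) from rfl,
      ← pairBlk_apply ha, apply_idem_self]

theorem PairOf.apply_eq {ψ : Blk k G} {a : Idx k G} (h : PairOf p ψ a) (z : ZAlg k G) :
    val a.1 a.2 (z : MonoidAlgebra k G) = ψ z := by
  obtain ⟨ha, rfl⟩ := pairOf_iff.mp h
  exact (pairBlk_apply ha z).symm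

/-- Every pair is a pair of exactly one block. -/
theorem existsUnique_pairOf (a : Idx k G) (ha : IsPGroup p a.1) :
    ∃! ψ : Blk k G, PairOf p ψ a :=
  ⟨pairBlk ha, pairOf_iff.mpr ⟨ha, rfl⟩, fun ψ h => by
    obtain ⟨_, rfl⟩ := pairOf_iff.mp h; rfl⟩

/-- A pair and a pair below it have the same block. -/
theorem pairOf_iff_of_le {a b : Idx k G} (hb : IsPGroup p b.1) (h : Le p a b) (ψ : Blk k G) :
    PairOf p ψ a ↔ PairOf p ψ b := by
  have hv := val_center_iff_of_le h (bidem_isIdem ψ) (bidem_mem ψ)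
  exact ⟨fun h' => ⟨hb, hv.mp h'.2⟩, fun h' => ⟨hb.to_le h.subgroup_le, hv.mpr h'.2⟩⟩

theorem pairOf_cPair {ψ : Blk k G} {a : Idx k G} (h : PairOf p ψ a) (x : G) :
    PairOf p ψ (cPair x a) :=
  ⟨h.1.map _, (val_cPair_center x a (bidem_mem ψ)).trans h.2⟩

/-- An element of the support of the idempotent gives pairs at the subgroups centralizing it. -/
theorem exists_pairOf {ψ : Blk k G} {Q : Subgroup G} (hQ : IsPGroup p Q) {g : G} (hg : g ∈ C[Q])
    (hne : (bidem ψ).coeff g ≠ 0) : ∃ ω : Blk k C[Q], PairOf p ψ ⟨Q, ω⟩ := by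
  have hC : IsFixedBy C[Q] (bidem ψ) := isFixedBy_of_mem_center _ (bidem_mem ψ)
  set y : ZAlg k C[Q] := ⟨br Q (bidem ψ), br_mem_center hC⟩
  have hy : IsIdempotentElem y :=
    Subtype.ext (br_isIdem hQ (bidem_isIdem ψ) (isFixedBy_of_mem_center _ (bidem_mem ψ)))
  have hy0 : y ≠ 0 := by
    intro h
    apply hne
    have h2 := congrArg (fun z : ZAlg k C[Q] => (z : MonoidAlgebra k C[Q]).coeff ⟨g, hg⟩) h
    simpa [y, coeff_br] using h2
  obtain ⟨ω, hω⟩ := exists_apply_eq_one (k := k) hy hy0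
  exact ⟨ω, hQ, (val_eq ω hC).trans hω⟩

omit [IsAlgClosed k] [Fact p.Prime] [CharP k p] in
theorem br_classSum_eq_zero {Q : Subgroup G} {h : G} (hh : ∀ c : G, c * h * c⁻¹ ∉ C[Q]) :
    br Q (classSum k h) = 0 := by
  classical
  ext u
  rw [coeff_br, coeff_classSum, if_neg]
  · rfl
  · intro hc
    obtain ⟨c, hc⟩ := isConj_iff.mp hc
    exact hh c (hc ▸ u.2)

/-- A class where the block is nonzero meets the centralizer of every pair. -/
theorem exists_conj_mem {ψ : Blk k G} {a : Idx k G} (ha : PairOf p ψ a) {h : G}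
    (hne : ψ (classSumC k h) ≠ 0) : ∃ c : G, c * h * c⁻¹ ∈ C[a.1] := by
  by_contra hcon
  apply hne
  rw [← ha.apply_eq]
  show val a.1 a.2 (classSum k h) = 0
  rw [← val_zero a.1 a.2]
  apply val_congr
  rw [br_classSum_eq_zero (not_exists.mp hcon), br_zero]

/-- `D` is a defect group of the block. -/
def IsDef (p : ℕ) (ψ : Blk k G) (D : Subgroup G) : Prop :=
  ∃ g : G, (bidem ψ).coeff g ≠ 0 ∧ ψ (classSumC k g) ≠ 0 ∧
    ∃ P : Sylow p (Subgroup.centralizer ({g} : Set G)),
      D = (P : Subgroup (Subgroup.centralizer ({g} : Set G))).map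
        (Subgroup.centralizer ({g} : Set G)).subtype

omit [Finite G] in
theorem mem_centralizer_singleton_of {Q : Subgroup G} {g : G} (hg : g ∈ C[Q]) :
    Q ≤ Subgroup.centralizer ({g} : Set G) := by
  intro q hq
  rw [Subgroup.mem_centralizer_singleton_iff]
  exact hg q hq

omit [Finite G] in
theorem mem_centralizer_of_le {Q : Subgroup G} {g : G}
    (h : Q ≤ Subgroup.centralizer ({g} : Set G)) : g ∈ C[Q] := by
  intro q hq
  exact Subgroup.mem_centralizer_singleton_iff.mp (h hq)

/-- A p-subgroup of `H` is conjugate in `H` into any given Sylow subgroup of `H`. -/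
theorem exists_map_le_sylow {H A : Subgroup G} (hA : IsPGroup p A) (hAH : A ≤ H) (P : Sylow p H) :
    ∃ c ∈ H, A.map (MulAut.conj c).toMonoidHom ≤ (P : Subgroup H).map H.subtype := by
  obtain ⟨R, hR⟩ := (hA.comap_of_injective H.subtype H.subtype_injective :
    IsPGroup p (A.subgroupOf H)).exists_le_sylow
  obtain ⟨c, hc⟩ := MulAction.exists_smul_eq H R P
  refine ⟨c, c.2, ?_⟩
  rintro _ ⟨a, ha, rfl⟩
  refine ⟨c * ⟨a, hAH ha⟩ * c⁻¹, ?_, rfl⟩
  rw [← hc, Sylow.coe_subgroup_smul]
  exact ⟨_, hR (show (⟨a, hAH ha⟩ : H) ∈ A.subgroupOf H from ha), rfl⟩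

omit [Finite G] in
theorem card_map_conj (x : G) (A : Subgroup G) :
    Nat.card (A.map (MulAut.conj x).toMonoidHom) = Nat.card A :=
  (Nat.card_congr (A.equivMapOfInjective _ (MulAut.conj x).injective).toEquiv).symm

omit [Finite G] in
theorem map_conj_map_conj (x y : G) (A : Subgroup G) :
    (A.map (MulAut.conj y).toMonoidHom).map (MulAut.conj x).toMonoidHom =
      A.map (MulAut.conj (x * y)).toMonoidHom := by
  rw [Subgroup.map_map]
  congr 1
  ext g
  simp [mul_assoc]

theorem exists_isDef (ψ : Blk k G) : ∃ D : Subgroup G, IsDef p ψ D := by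
  classical
  haveI : Finite (ConjClasses G) := Quotient.finite _
  haveI := Fintype.ofFinite (ConjClasses G)
  have hx : idem ψ = ∑ c : ConjClasses G, (bidem ψ).coeff c.out • classSumC k c.out := by
    refine Subtype.ext ?_
    rw [AddSubmonoidClass.coe_finsetSum]
    exact eq_sum_classSum (bidem_mem ψ)
  have h1 : ψ (idem ψ) = 1 := apply_idem_self ψ
  rw [hx, map_sum] at h1
  obtain ⟨c, -, hc⟩ := Finset.exists_ne_zero_of_sum_ne_zero
    (h1.symm ▸ one_ne_zero : (∑ c : ConjClasses G,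
      ψ ((bidem ψ).coeff c.out • classSumC k c.out)) ≠ 0)
  rw [map_smul, smul_eq_mul] at hc
  exact ⟨_, c.out, left_ne_zero_of_mul hc, right_ne_zero_of_mul hc,
    Classical.arbitrary _, rfl⟩

theorem IsDef.isPGroup {ψ : Blk k G} {D : Subgroup G} (h : IsDef p ψ D) : IsPGroup p D := by
  obtain ⟨g, -, -, P, rfl⟩ := h
  exact P.2.map _

/-- The subgroup of a pair lies in a conjugate of each defect group. -/
theorem exists_map_le_isDef {ψ : Blk k G} {a : Idx k G} (ha : PairOf p ψ a) {D : Subgroup G}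
    (hD : IsDef p ψ D) : ∃ x : G, a.1.map (MulAut.conj x).toMonoidHom ≤ D := by
  obtain ⟨g, -, hne, P, rfl⟩ := hD
  obtain ⟨c, hc⟩ := exists_conj_mem ha hne
  have hle : a.1.map (MulAut.conj c⁻¹).toMonoidHom ≤ Subgroup.centralizer ({g} : Set G) := by
    apply mem_centralizer_singleton_of
    have := (mem_centralizer_map_iff c⁻¹ a.1 (c * g * c⁻¹)).mp hc
    simpa [mul_assoc] using this
  obtain ⟨d, -, hd⟩ := exists_map_le_sylow (ha.1.map _) hle P
  exact ⟨d * c⁻¹, (map_conj_map_conj d c⁻¹ a.1) ▸ hd⟩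

theorem exists_pairOf_isDef {ψ : Blk k G} {D : Subgroup G} (hD : IsDef p ψ D) :
    ∃ ω : Blk k C[D], PairOf p ψ ⟨D, ω⟩ := by
  have hp := hD.isPGroup
  obtain ⟨g, hne, -, P, rfl⟩ := hD
  exact exists_pairOf hp (mem_centralizer_of_le (Subgroup.map_subtype_le _)) hne

/-- Defect groups are invariant under conjugation. -/
theorem IsDef.map_conj {ψ : Blk k G} {D : Subgroup G} (h : IsDef p ψ D) (x : G) :
    IsDef p ψ (D.map (MulAut.conj x).toMonoidHom) := by
  obtain ⟨g, h1, h2, P, rfl⟩ := h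
  have hcong : IsConj g (x * g * x⁻¹) := isConj_iff.mpr ⟨x, rfl⟩
  refine ⟨x * g * x⁻¹, ?_, ?_, ?_⟩
  · have := conjA_eq_of_mem_center (bidem_mem ψ) x
    rw [← this, coeff_conjA_conj]
    exact h1
  · have : classSumC k (x * g * x⁻¹) = classSumC k g :=
      Subtype.ext (classSum_eq_of_isConj hcong.symm)
    rwa [this]
  let C : Subgroup G := Subgroup.centralizer ({g} : Set G)
  let C' : Subgroup G := Subgroup.centralizer ({x * g * x⁻¹} : Set G)
  have hmem : ∀ a, a ∈ C ↔ x * a * x⁻¹ ∈ C' := by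
    intro a
    simp only [C, C', Subgroup.mem_centralizer_singleton_iff]
    constructor
    · intro e
      calc x * a * x⁻¹ * (x * g * x⁻¹) = x * (a * g) * x⁻¹ := by group
        _ = x * (g * a) * x⁻¹ := by rw [e]
        _ = _ := by group
    · intro e
      have : x * (a * g) * x⁻¹ = x * (g * a) * x⁻¹ := by
        calc x * (a * g) * x⁻¹ = x * a * x⁻¹ * (x * g * x⁻¹) := by group
          _ = x * g * x⁻¹ * (x * a * x⁻¹) := e
          _ = _ := by group
      exact mul_left_cancel (mul_right_cancel this)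
  let θ := conjEquiv x C C' hmem
  have hidx : ¬ p ∣ ((P : Subgroup C).map θ.toMonoidHom).index := by
    show ¬ p ∣ ((P : Subgroup C).map (θ : C →* C')).index
    rw [Subgroup.index_map_equiv]
    exact P.not_dvd_index
  refine ⟨(P.2.map θ.toMonoidHom).toSylow hidx, ?_⟩
  rw [IsPGroup.toSylow_coe]
  show ((P : Subgroup C).map C.subtype).map (MulAut.conj x).toMonoidHom =
    ((P : Subgroup C).map θ.toMonoidHom).map C'.subtype
  rw [Subgroup.map_map, Subgroup.map_map]
  rfl

/-! ### Maximal pairs -/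

/-- No proper normal inclusion starts at the pair. -/
def Top (p : ℕ) (a : Idx k G) : Prop :=
  IsPGroup p a.1 ∧ ∀ b : Idx k G, Step p a.1 a.2 b.1 b.2 → b.1 = a.1

theorem exists_top_above (a : Idx k G) (ha : IsPGroup p a.1) :
    ∃ b : Idx k G, Top p b ∧ Le p a b := by
  suffices ∀ (n : ℕ) (a : Idx k G), IsPGroup p a.1 → Nat.card G ≤ Nat.card a.1 + n →
      ∃ b : Idx k G, Top p b ∧ Le p a b from
    this (Nat.card G) a ha (Nat.le_add_left _ _)
  clear ha a
  intro n
  induction n with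
  | zero =>
    intro a ha hn
    refine ⟨a, ⟨ha, fun b hb => (Subgroup.eq_of_le_of_card_ge hb.2.1 ?_).symm⟩,
      Relation.ReflTransGen.refl⟩
    have := Subgroup.card_le_card_group b.1
    omega
  | succ n ih =>
    intro a ha hn
    by_cases ht : Top p a
    · exact ⟨a, ht, Relation.ReflTransGen.refl⟩
    obtain ⟨b, hb, hne⟩ : ∃ b : Idx k G, Step p a.1 a.2 b.1 b.2 ∧ b.1 ≠ a.1 := by
      by_contra hcon
      exact ht ⟨ha, fun b hb => Classical.byContradiction fun h => hcon ⟨b, hb, h⟩⟩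
    have hlt : Nat.card a.1 < Nat.card b.1 := by
      by_contra hle
      exact hne (Subgroup.eq_of_le_of_card_ge hb.2.1 (Nat.not_lt.mp hle)).symm
    obtain ⟨c, hc, hbc⟩ := ih b hb.1 (by omega)
    exact ⟨c, hc, Relation.ReflTransGen.head hb hbc⟩

theorem eq_of_top_le {a b : Idx k G} (ha : Top p a) (h : Le p a b) : a = b := by
  rcases exists_first_step h with he | ⟨c, hlt, hs, -⟩
  · exact he
  · exact absurd (ha.2 c hs) hlt.ne'

/-- The truncation at a larger subgroup kills a maximal pair. -/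
theorem br_bext_eq_zero_of_top {a : Idx k G} (ha : Top p a) {R : Subgroup G} (hR : IsPGroup p R)
    (hlt : a.1 < R) (hN : R ≤ Subgroup.normalizer (a.1 : Set G))
    (hfix : IsFixedBy R (bext C[a.1] a.2)) : br R (bext C[a.1] a.2) = 0 := by
  have hC := isFixedBy_centralizer_bext (k := k) hlt.le a.2
  set y : ZAlg k C[R] := ⟨br R (bext C[a.1] a.2), br_mem_center hC⟩
  have hy : IsIdempotentElem y := Subtype.ext (br_isIdem hR (bext_isIdem _ _) hfix)
  by_contra h0
  obtain ⟨μ, hμ⟩ := exists_apply_eq_one (k := k) hy (fun h => h0 (congrArg Subtype.val h))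
  exact hlt.ne' (ha.2 ⟨R, μ⟩ ⟨hR, hlt.le, hN, hfix, (val_eq μ hC).trans hμ⟩)

open scoped Classical in
/-- The sum of the conjugates under the normalizer of the idempotent of a pair. -/
noncomputable def orbitSum (a : Idx k G) [Fintype (Blk k C[a.1])] : MonoidAlgebra k G :=
  ∑ ν ∈ Finset.univ.filter (fun ν : Blk k C[a.1] =>
    ∃ (x : G) (hx : x ∈ Subgroup.normalizer (a.1 : Set G)), act a.1 hx a.2 = ν), bext C[a.1] ν

/-- The heart of the conjugacy of maximal pairs. -/
theorem top_key {ψ : Blk k G} {a : Idx k G} (ha : Top p a) (hψ : PairOf p ψ a) :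
    (∃ y : G, ψ (classSumC k y) ≠ 0 ∧ a.1 ≤ Subgroup.centralizer ({y} : Set G) ∧
      ∀ R : Subgroup G, IsPGroup p R → a.1 ≤ R → R ≤ Subgroup.centralizer ({y} : Set G) →
        R = a.1) ∧
    ∀ ν : Blk k C[a.1], PairOf p ψ ⟨a.1, ν⟩ →
      ∃ x ∈ Subgroup.normalizer (a.1 : Set G), cPair x a = ⟨a.1, ν⟩ := by
  classical
  obtain ⟨Q, ω⟩ := a
  haveI := Fintype.ofFinite (Blk k C[Q])
  haveI : Finite (ConjClasses G) := Quotient.finite _
  haveI := Fintype.ofFinite (ConjClasses G)
  set N := Subgroup.normalizer (Q : Set G) with hNdef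
  set S := Finset.univ.filter (fun ν : Blk k C[Q] =>
    ∃ (x : G) (hx : x ∈ N), act Q hx ω = ν) with hSdef
  set z : MonoidAlgebra k G := ∑ ν ∈ S, bext C[Q] ν with hz
  have hSinv : ∀ (x : G) (hx : x ∈ N), ∀ ν ∈ S, act Q hx ν ∈ S := by
    intro x hx ν hν
    rw [hSdef, Finset.mem_filter] at hν ⊢
    obtain ⟨-, y, hy, rfl⟩ := hν
    refine ⟨Finset.mem_univ _, x * y, mul_mem hx hy, bext_injective _ ?_⟩
    rw [bext_act, bext_act, bext_act, conjA_mul]
  have hzN : IsFixedBy N z := by
    rw [isFixedBy_iff]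
    intro x hx
    rw [hz, map_sum]
    refine Finset.sum_bij' (fun ν _ => act Q hx ν) (fun ν _ => act Q (inv_mem hx) ν)
      (fun ν h => hSinv x hx ν h) (fun ν h => hSinv _ (inv_mem hx) ν h) ?_ ?_ ?_
    · intro ν _
      apply bext_injective
      rw [bext_act, bext_act, ← conjA_mul, inv_mul_cancel, conjA_one]
    · intro ν _
      apply bext_injective
      rw [bext_act, bext_act, ← conjA_mul, mul_inv_cancel, conjA_one]
    · intro ν _
      exact (bext_act Q hx ν).symm
  have hzC : IsFixedBy C[Q] z := isFixedBy_sum _ _ fun ν _ => isFixedBy_bext _ ν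
  -- the truncations at larger subgroups vanish
  have hvan : ∀ R : Subgroup G, IsPGroup p R → Q < R → R ≤ N → br R z = 0 := by
    intro R hR hlt hRN
    rw [hz, br_sum_fixed hR hRN S (fun x hx => hSinv x (hRN hx)), br_sum]
    refine Finset.sum_eq_zero fun ν hν => ?_
    obtain ⟨hνS, hνfix⟩ := Finset.mem_filter.mp hν
    obtain ⟨-, x, hx, rfl⟩ := Finset.mem_filter.mp hνS
    set R' := R.map (MulAut.conj x⁻¹).toMonoidHom with hR'
    have hQ' : Q.map (MulAut.conj x⁻¹).toMonoidHom = Q := map_conj_eq_of_mem (inv_mem hx)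
    have hlt' : Q < R' := by
      refine lt_of_le_of_ne (hQ' ▸ Subgroup.map_mono hlt.le) fun e => hlt.ne ?_
      apply Subgroup.eq_of_le_of_card_ge hlt.le
      rw [e, hR', card_map_conj]
    have hfix' : IsFixedBy R' (bext C[Q] ω) := by
      have := isFixedBy_conjA hνfix x⁻¹
      rwa [bext_act, ← conjA_mul, inv_mul_cancel, conjA_one] at this
    have hN' : R' ≤ N := by
      rintro _ ⟨r, hr, rfl⟩
      exact mul_mem (mul_mem (inv_mem hx) (hRN hr)) (by simpa using hx)
    have h0 := br_bext_eq_zero_of_top ha (R := R') (hR.map _) hlt' hN' hfix'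
    ext g
    rw [coeff_br, bext_act, coeff_conjA]
    have hg : x⁻¹ * (g : G) * x ∈ C[R'] := by
      have := (mem_centralizer_map_iff x⁻¹ R (g : G)).mp g.2
      rwa [inv_inv] at this
    have h1 := congrArg (fun w : MonoidAlgebra k C[R'] => w.coeff ⟨_, hg⟩) h0
    simpa [coeff_br] using h1
  have hsupp : ∀ g : G, z.coeff g ≠ 0 → g ∈ C[Q] := by
    intro g hg
    by_contra hgC
    apply hg
    rw [hz, MonoidAlgebra.coeff_sum, Finsupp.finsetSum_apply]
    exact Finset.sum_eq_zero fun ν _ => coeff_ext_of_notMem _ _ hgC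
  have hmaxN : ∀ g : G, z.coeff g ≠ 0 → ∀ R : Subgroup G, IsPGroup p R → Q ≤ R →
      R ≤ Subgroup.centralizer ({g} : Set G) → R = Q := by
    intro g hg R hR hQR hRC
    by_contra hne
    have hlt : Q < R := lt_of_le_of_ne hQR (Ne.symm hne)
    have h2 := lt_normalizer_inf hR hlt
    have hgR : g ∈ C[R ⊓ N] := mem_centralizer_of_le (inf_le_left.trans hRC)
    have h3 := congrArg (fun w : MonoidAlgebra k C[R ⊓ N] => w.coeff ⟨g, hgR⟩)
      (hvan (R ⊓ N) (hR.to_le inf_le_left) h2 inf_le_right)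
    apply hg
    simp only [coeff_br] at h3
    simpa using h3
  -- conjugate elements of the support are conjugate under `N`
  have hsame : ∀ x y : G, x ∈ C[Q] → IsConj x y → z.coeff y ≠ 0 → z.coeff x = z.coeff y := by
    intro x y hx hc hy
    obtain ⟨c, hc⟩ := isConj_iff.mp hc
    -- `c⁻¹ Q c` is a maximal p-subgroup of the centralizer of `x`
    set Q' := Q.map (MulAut.conj c⁻¹).toMonoidHom with hQ'
    have hQ'C : Q' ≤ Subgroup.centralizer ({x} : Set G) := by
      apply mem_centralizer_singleton_of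
      have := (mem_centralizer_map_iff c⁻¹ Q y).mp (hsupp y hy)
      rwa [← hc, show c⁻¹ * (c * x * c⁻¹) * c⁻¹⁻¹ = x by group] at this
    have hmax' : ∀ R : Subgroup G, IsPGroup p R → Q' ≤ R →
        R ≤ Subgroup.centralizer ({x} : Set G) → R = Q' := by
      intro R hR hQR hRC
      have h1 : Q ≤ R.map (MulAut.conj c).toMonoidHom := by
        refine le_trans (le_of_eq ?_) (Subgroup.map_mono hQR)
        rw [hQ', map_conj_map_conj, mul_inv_cancel]
        exact (map_conj_eq_of_mem (one_mem _)).symm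
      have h2 : R.map (MulAut.conj c).toMonoidHom ≤ Subgroup.centralizer ({y} : Set G) := by
        apply mem_centralizer_singleton_of
        have := (mem_centralizer_map_iff c R x).mp (mem_centralizer_of_le hRC)
        rwa [hc] at this
      refine (Subgroup.eq_of_le_of_card_ge hQR ?_).symm
      rw [hQ', card_map_conj, ← card_map_conj c R, hmaxN y hy _ (hR.map _) h1 h2]
    set C := Subgroup.centralizer ({x} : Set G)
    have hQ'p : IsPGroup p Q' := ha.1.map _
    let T : Sylow p C :=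
      { toSubgroup := Q'.subgroupOf C
        isPGroup' := hQ'p.comap_of_injective C.subtype C.subtype_injective
        is_maximal' := by
          intro R hR hle
          have h1 := hmax' (R.map C.subtype) (hR.map _) (by
            intro q hq
            exact ⟨⟨q, hQ'C hq⟩, hle hq, rfl⟩) (Subgroup.map_subtype_le _)
          apply Subgroup.map_injective C.subtype_injective
          rw [h1, Subgroup.map_subgroupOf_eq_of_le hQ'C] }
    obtain ⟨d, hdC, hd⟩ := exists_map_le_sylow ha.1 (mem_centralizer_singleton_of hx) T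
    have hd' : Q.map (MulAut.conj d).toMonoidHom ≤ Q' := by
      have : (T : Subgroup C).map C.subtype = Q' := Subgroup.map_subgroupOf_eq_of_le hQ'C
      rwa [this] at hd
    have heq : Q.map (MulAut.conj d).toMonoidHom = Q' :=
      Subgroup.eq_of_le_of_card_ge hd' (by rw [hQ', card_map_conj, card_map_conj])
    have hmemN : c * d ∈ N := by
      rw [hNdef, Subgroup.mem_normalizer_iff_map_conj_eq]
      show Q.map (MulAut.conj (c * d)).toMonoidHom = Q
      rw [← map_conj_map_conj, heq, hQ', map_conj_map_conj, mul_inv_cancel]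
      exact map_conj_eq_of_mem (one_mem _)
    have hxd : d * x * d⁻¹ = x := by
      rw [Subgroup.mem_centralizer_singleton_iff.mp hdC, mul_inv_cancel_right]
    have hy' : y = c * d * x * (c * d)⁻¹ := by
      rw [← hc]
      calc c * x * c⁻¹ = c * (d * x * d⁻¹) * c⁻¹ := by rw [hxd]
        _ = _ := by group
    rw [hy', hzN _ hmemN]
  -- the central element
  let A : G → k := fun g => if h : ∃ c : G, z.coeff (c * g * c⁻¹) ≠ 0 then
    z.coeff (h.choose * g * h.choose⁻¹) else 0
  let aa : MonoidAlgebra k G := ofCoeff (Finsupp.equivFunOnFinite.symm A)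
  have hA : ∀ g c : G, z.coeff (c * g * c⁻¹) ≠ 0 → A g = z.coeff (c * g * c⁻¹) := by
    intro g c hne
    have hex : ∃ c : G, z.coeff (c * g * c⁻¹) ≠ 0 := ⟨c, hne⟩
    simp only [A]
    rw [dif_pos hex]
    exact hsame _ _ (hsupp _ hex.choose_spec)
      ((isConj_iff.mpr ⟨hex.choose, rfl⟩ : IsConj g _).symm.trans (isConj_iff.mpr ⟨c, rfl⟩)) hne
  have hA0 : ∀ g : G, (∀ c : G, z.coeff (c * g * c⁻¹) = 0) → A g = 0 := by
    intro g h
    simp only [A]
    rw [dif_neg]
    rintro ⟨c, hc⟩
    exact hc (h c)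
  have haC : aa ∈ Subalgebra.center k (MonoidAlgebra k G) := by
    rw [mem_center_iff_coeff]
    intro u g
    show A (u * g * u⁻¹) = A g
    by_cases hex : ∃ c : G, z.coeff (c * g * c⁻¹) ≠ 0
    · obtain ⟨c, hc⟩ := hex
      have hc' : z.coeff ((c * u⁻¹) * (u * g * u⁻¹) * (c * u⁻¹)⁻¹) ≠ 0 := by
        simpa [mul_assoc] using hc
      rw [hA g c hc, hA _ _ hc']
      simp [mul_assoc]
    · have hall : ∀ c : G, z.coeff (c * g * c⁻¹) = 0 :=
        fun c => Classical.byContradiction fun h => hex ⟨c, h⟩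
      rw [hA0 g hall, hA0]
      intro c
      have := hall (c * u)
      simpa [mul_assoc] using this
  have hbr : br Q aa = br Q z := by
    ext g
    rw [coeff_br, coeff_br]
    show A (g : G) = z.coeff g
    by_cases hg : z.coeff (g : G) = 0
    · rw [hg]
      refine hA0 _ fun c => Classical.byContradiction fun hc => hc ?_
      rw [← hsame _ _ g.2 (isConj_iff.mpr ⟨c, rfl⟩) hc, hg]
    · have h1 : z.coeff (1 * (g : G) * 1⁻¹) ≠ 0 := by simpa using hg
      rw [hA _ 1 h1]
      simp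
  have hbrz : ∀ ν : Blk k C[Q], val Q ν z = if ν ∈ S then 1 else 0 := by
    intro ν
    rw [hz, val_sum ν _ _ fun μ _ => isFixedBy_bext _ μ]
    have hb : ∀ μ : Blk k C[Q], val Q ν (bext C[Q] μ) = ν (idem μ) := by
      intro μ
      rw [val_eq ν (isFixedBy_bext _ μ)]
      refine congrArg ν (Subtype.ext ?_)
      ext g
      rw [coeff_br]
      exact coeff_ext _ _ g
    simp only [hb, apply_idem]
    rw [Finset.sum_ite_eq]
  have hωS : ω ∈ S := by
    rw [hSdef, Finset.mem_filter]
    exact ⟨Finset.mem_univ _, 1, one_mem _, bext_injective _ (by rw [bext_act, conjA_one])⟩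
  have hψa : ψ ⟨aa, haC⟩ = 1 := by
    rw [← hψ.apply_eq]
    show val Q ω aa = 1
    rw [val_congr ω hbr, hbrz, if_pos hωS]
  constructor
  · have hx : (⟨aa, haC⟩ : ZAlg k G) = ∑ c : ConjClasses G, aa.coeff c.out • classSumC k c.out := by
      refine Subtype.ext ?_
      rw [AddSubmonoidClass.coe_finsetSum]
      exact eq_sum_classSum haC
    rw [hx, map_sum] at hψa
    obtain ⟨c, -, hc⟩ := Finset.exists_ne_zero_of_sum_ne_zero
      (hψa.symm ▸ one_ne_zero : (∑ c : ConjClasses G,
        ψ (aa.coeff c.out • classSumC k c.out)) ≠ 0)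
    rw [map_smul, smul_eq_mul] at hc
    have hAne : A c.out ≠ 0 := left_ne_zero_of_mul hc
    obtain ⟨d, hd⟩ : ∃ d : G, z.coeff (d * c.out * d⁻¹) ≠ 0 :=
      Classical.byContradiction fun hcon =>
        hAne (hA0 _ fun d => Classical.byContradiction fun h => hcon ⟨d, h⟩)
    refine ⟨d * c.out * d⁻¹, ?_, mem_centralizer_singleton_of (hsupp _ hd), hmaxN _ hd⟩
    have : classSumC k (d * c.out * d⁻¹) = classSumC k c.out :=
      Subtype.ext (classSum_eq_of_isConj (isConj_iff.mpr ⟨d, rfl⟩).symm)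
    rw [this]
    exact right_ne_zero_of_mul hc
  · intro ν hν
    have h1 : val Q ν z = 1 := by
      rw [← val_congr ν hbr]
      exact (hν.apply_eq ⟨aa, haC⟩).trans hψa
    rw [hbrz] at h1
    by_cases hm : ν ∈ S
    · obtain ⟨-, x, hx, rfl⟩ := Finset.mem_filter.mp hm
      refine ⟨x, hx, sigma_ext_of_bext (map_conj_eq_of_mem hx) ?_⟩
      rw [bext_cPair, bext_act]
    · rw [if_neg hm] at h1
      exact absurd h1 zero_ne_one

theorem top_card {ψ : Blk k G} {a : Idx k G} (ha : Top p a) (hψ : PairOf p ψ a) {D : Subgroup G}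
    (hD : IsDef p ψ D) : ∃ x : G, a.1.map (MulAut.conj x).toMonoidHom = D := by
  obtain ⟨x, hx⟩ := exists_map_le_isDef hψ hD
  refine ⟨x, Subgroup.eq_of_le_of_card_ge hx ?_⟩
  rw [card_map_conj]
  obtain ⟨⟨y, hy, hle, hmax⟩, -⟩ := top_key ha hψ
  obtain ⟨ν, hν⟩ := exists_pairOf_isDef hD
  obtain ⟨c, hc⟩ := exists_conj_mem hν hy
  set C := Subgroup.centralizer ({y} : Set G)
  have h2 : D.map (MulAut.conj c⁻¹).toMonoidHom ≤ C := by
    apply mem_centralizer_singleton_of
    have := (mem_centralizer_map_iff c⁻¹ D (c * y * c⁻¹)).mp hc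
    simpa [mul_assoc] using this
  let T : Sylow p C :=
    { toSubgroup := a.1.subgroupOf C
      isPGroup' := ha.1.comap_of_injective C.subtype C.subtype_injective
      is_maximal' := by
        intro R hR hle'
        have h1 := hmax (R.map C.subtype) (hR.map _) (by
          intro q hq
          exact ⟨⟨q, hle hq⟩, hle' hq, rfl⟩) (Subgroup.map_subtype_le _)
        apply Subgroup.map_injective C.subtype_injective
        rw [h1, Subgroup.map_subgroupOf_eq_of_le hle] }
  obtain ⟨d, -, hd⟩ := exists_map_le_sylow (hD.isPGroup.map _) h2 T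
  rw [show (T : Subgroup C).map C.subtype = a.1 from Subgroup.map_subgroupOf_eq_of_le hle,
    map_conj_map_conj] at hd
  have := Subgroup.card_dvd_of_le hd
  rw [card_map_conj] at this
  exact Nat.le_of_dvd Nat.card_pos this

/-- The subgroup of a maximal pair is a defect group. -/
theorem isDef_of_top {ψ : Blk k G} {a : Idx k G} (ha : Top p a) (hψ : PairOf p ψ a) :
    IsDef p ψ a.1 := by
  obtain ⟨D, hD⟩ := exists_isDef (p := p) ψ
  obtain ⟨x, rfl⟩ := top_card ha hψ hD
  have := hD.map_conj x⁻¹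
  rw [map_conj_map_conj, inv_mul_cancel] at this
  rwa [map_conj_eq_of_mem (one_mem _)] at this

/-- A pair whose subgroup is a defect group is maximal. -/
theorem top_of_isDef {ψ : Blk k G} {a : Idx k G} (hψ : PairOf p ψ a) (hD : IsDef p ψ a.1) :
    Top p a := by
  refine ⟨hψ.1, fun b hb => ?_⟩
  have hb' : PairOf p ψ b :=
    (pairOf_iff_of_le hb.1 (Relation.ReflTransGen.single hb) ψ).mp hψ
  obtain ⟨x, hx⟩ := exists_map_le_isDef hb' hD
  refine (Subgroup.eq_of_le_of_card_ge hb.2.1 ?_).symm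
  rw [← card_map_conj x b.1]
  exact Nat.le_of_dvd Nat.card_pos (Subgroup.card_dvd_of_le hx)

/-- Defect groups are conjugate. -/
theorem isDef_conj {ψ : Blk k G} {D D' : Subgroup G} (hD : IsDef p ψ D) (hD' : IsDef p ψ D') :
    ∃ x : G, D.map (MulAut.conj x).toMonoidHom = D' := by
  obtain ⟨ω, hω⟩ := exists_pairOf_isDef hD
  exact top_card (top_of_isDef hω hD) hω hD'

/-- Maximal pairs are conjugate. -/
theorem top_conj {ψ : Blk k G} {a b : Idx k G} (ha : Top p a) (hb : Top p b)
    (hψa : PairOf p ψ a) (hψb : PairOf p ψ b) : ∃ x : G, cPair x a = b := by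
  obtain ⟨x, hx⟩ := top_card ha hψa (isDef_of_top hb hψb)
  have h1 : Top p (cPair x a) :=
    top_of_isDef (pairOf_cPair hψa x) (by
      show IsDef p ψ (a.1.map (MulAut.conj x).toMonoidHom)
      rw [hx]; exact isDef_of_top hb hψb)
  have h2 : PairOf p ψ (cPair x a) := pairOf_cPair hψa x
  obtain ⟨Q, ν⟩ := b
  obtain ⟨R, μ⟩ := a
  simp only at hx
  subst hx
  obtain ⟨y, -, hy⟩ := (top_key h1 h2).2 ν hψb
  refine ⟨y * x, ?_⟩
  rw [cPair_mul]
  exact hy

/-- Every pair of a block lies below a conjugate of any given maximal pair. -/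
theorem exists_le_conj_top {ψ : Blk k G} {a b : Idx k G} (ha : PairOf p ψ a) (hb : Top p b)
    (hψb : PairOf p ψ b) : ∃ x : G, Le p (cPair x a) b := by
  obtain ⟨c, hc, hac⟩ := exists_top_above a ha.1
  obtain ⟨x, hx⟩ := top_conj hc hb ((pairOf_iff_of_le hc.1 hac ψ).mp ha) hψb
  exact ⟨x, hx ▸ le_cPair x hac⟩

end Cfsg.Agent.Lib.BrauerPairs.Maximal
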