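import Mathlib
import Cfsg.Agent.Lib.BrauerPairs.Maximal

/-!
# The principal block: its pairs and its defect groups
-/

set_option autoImplicit false
set_option linter.style.haveILetI false

namespace Cfsg.Agent.Lib.BrauerPairs.Principal

open MonoidAlgebra Cfsg.Agent.Lib.BrauerMap.Basic Cfsg.Agent.Lib.BrauerMap.ClassSum
open Cfsg.Agent.Lib.BrauerPairs.Center Cfsg.Agent.Lib.BrauerPairs.Trunc
open Cfsg.Agent.Lib.BrauerPairs.Conj Cfsg.Agent.Lib.BrauerPairs.Pairs
open Cfsg.Agent.Lib.BrauerPairs.Transport Cfsg.Agent.Lib.BrauerPairs.Maximal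

universe u v w

variable {k : Type v} [Field k]

/-- The augmentation, restricted to the centre: the principal block. -/
noncomputable def princ (k : Type v) [Field k] (H : Type w) [Group H] : Blk k H :=
  (MonoidAlgebra.lift k k H (1 : H →* k)).comp (Subalgebra.center k (MonoidAlgebra k H)).val

theorem aug_apply {H : Type w} [Group H] [Fintype H] (a : MonoidAlgebra k H) :
    MonoidAlgebra.lift k k H (1 : H →* k) a = ∑ h, a.coeff h := by
  induction a using MonoidAlgebra.induction_linear with
  | zero => simp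
  | add f g hf hg => simp [map_add, hf, hg, Finset.sum_add_distrib]
  | single m r =>
    classical
    rw [MonoidAlgebra.lift_single, coeff_single]
    simp [Finsupp.single_apply]

theorem princ_apply {H : Type w} [Group H] [Fintype H] (z : ZAlg k H) :
    princ k H z = ∑ h, (z : MonoidAlgebra k H).coeff h := aug_apply _

theorem princ_comp_zMap {H : Type w} {H' : Type u} [Group H] [Group H'] [Finite H] [Finite H']
    (θ : H ≃* H') : (princ k H').comp (zMap θ) = princ k H := by
  refine AlgHom.ext fun z => ?_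
  show MonoidAlgebra.lift k k H' (1 : H' →* k) (MonoidAlgebra.domCongr k k θ (z : MonoidAlgebra k H))
    = MonoidAlgebra.lift k k H (1 : H →* k) (z : MonoidAlgebra k H)
  generalize (z : MonoidAlgebra k H) = a
  induction a using MonoidAlgebra.induction_linear with
  | zero => simp
  | add f g hf hg => simp only [map_add, hf, hg]
  | single m r => simp

variable [IsAlgClosed k] {G : Type u} [Group G] [Finite G] {p : ℕ} [Fact p.Prime] [CharP k p]

local notation "C[" P "]" => Subgroup.centralizer ((P : Subgroup G) : Set G)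

open scoped Classical in
/-- The sum of the coefficients of an element fixed by `P` is that of its truncation. -/
theorem sum_coeff_centralizer [Fintype G] {P : Subgroup G} (hP : IsPGroup p P)
    {a : MonoidAlgebra k G} (ha : IsFixedBy P a) :
    ∑ g : G with g ∈ C[P], a.coeff g = ∑ g : G, a.coeff g := by
  letI : MulAction P G := MulAction.compHom G (MulAut.conj.comp P.subtype)
  have hsm : ∀ (u : P) (x : G), u • x = u * x * (u : G)⁻¹ := fun _ _ => rfl
  have hfix : ∀ x : G, x ∈ MulAction.fixedPoints P G ↔ x ∈ C[P] := by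
    intro x
    rw [Subgroup.mem_centralizer_iff]
    constructor
    · intro hx u hu
      have := hx ⟨u, hu⟩
      rw [hsm, mul_inv_eq_iff_eq_mul] at this
      exact this
    · intro hx u
      rw [hsm, hx u u.2, mul_inv_cancel_right]
  rw [sum_eq_sum_fixed hP (fun g => a.coeff g) fun u x => by rw [hsm]; exact ha u u.2 x]
  exact Finset.sum_congr (by ext x; simp [hfix]) fun _ _ => rfl

open scoped Classical in
theorem val_princ [Fintype G] {P : Subgroup G} (hP : IsPGroup p P) {a : MonoidAlgebra k G}
    (ha : IsFixedBy P a) (hC : IsFixedBy C[P] a) :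
    val P (princ k C[P]) a = ∑ g : G, a.coeff g := by
  rw [val_eq _ hC, princ_apply, ← sum_coeff_centralizer hP ha]
  rw [Finset.sum_subtype (p := fun g => g ∈ C[P]) _ (fun g => by simp)]
  exact Finset.sum_congr rfl fun g _ => coeff_br _ _ g

/-- The principal pair at every p-subgroup is a pair of the principal block. -/
theorem pairOf_princ {Q : Subgroup G} (hQ : IsPGroup p Q) :
    PairOf p (princ k G) (⟨Q, princ k C[Q]⟩ : Idx k G) := by
  classical
  haveI := Fintype.ofFinite G
  refine ⟨hQ, ?_⟩
  show val Q (princ k C[Q]) (bidem (princ k G)) = 1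
  rw [val_princ hQ (isFixedBy_of_mem_center _ (bidem_mem _))
    (isFixedBy_of_mem_center _ (bidem_mem _))]
  show ∑ g : G, ((idem (princ k G) : ZAlg k G) : MonoidAlgebra k G).coeff g = 1
  rw [← princ_apply, apply_idem_self]

theorem cBlk_princ (x : G) (H H' : Subgroup G) (h : ∀ g, g ∈ H ↔ x * g * x⁻¹ ∈ H') :
    cBlk x H H' h (princ k H) = princ k H' :=
  princ_comp_zMap _

theorem cPair_princ (x : G) (Q : Subgroup G) :
    cPair x (⟨Q, princ k C[Q]⟩ : Idx k G) =
      ⟨Q.map (MulAut.conj x).toMonoidHom, princ k C[Q.map (MulAut.conj x).toMonoidHom]⟩ :=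
  Sigma.ext rfl (heq_of_eq (cBlk_princ x C[Q] _ (mem_centralizer_map_iff x Q)))

theorem step_princ {Q P : Subgroup G} (hP : IsPGroup p P) (hQP : Q ≤ P)
    (hPN : P ≤ Subgroup.normalizer (Q : Set G)) :
    Step p Q (princ k C[Q]) P (princ k C[P]) := by
  classical
  haveI := Fintype.ofFinite G
  have hfix : IsFixedBy P (bext C[Q] (princ k C[Q])) := by
    rw [isFixedBy_iff]
    intro u hu
    rw [← bext_act Q (hPN hu)]
    exact congrArg _ (cBlk_princ u _ _ _)
  refine ⟨hP, hQP, hPN, hfix, ?_⟩
  rw [val_princ hP hfix (isFixedBy_centralizer_bext hQP _),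
    ← aug_apply (bext C[Q] (princ k C[Q])), bext]
  have : ∀ z : MonoidAlgebra k C[Q], MonoidAlgebra.lift k k G (1 : G →* k) (ext C[Q] z) =
      MonoidAlgebra.lift k k C[Q] (1 : C[Q] →* k) z := by
    intro z
    induction z using MonoidAlgebra.induction_linear with
    | zero => simp
    | add f g hf hg => simp only [map_add, hf, hg]
    | single m r => rw [ext_single]; simp
  rw [this]
  exact apply_idem_self (princ k C[Q])

theorem le_princ {P : Subgroup G} (hP : IsPGroup p P) :
    ∀ {Q : Subgroup G}, Q ≤ P →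
      Le p (⟨Q, princ k C[Q]⟩ : Idx k G) ⟨P, princ k C[P]⟩ := by
  suffices ∀ (n : ℕ) (Q : Subgroup G), Q ≤ P → Nat.card P ≤ Nat.card Q + n →
      Le p (⟨Q, princ k C[Q]⟩ : Idx k G) ⟨P, princ k C[P]⟩ from
    fun {Q} hQ => this (Nat.card P) Q hQ (Nat.le_add_left _ _)
  intro n
  induction n with
  | zero =>
    intro Q hQ hn
    obtain rfl := Subgroup.eq_of_le_of_card_ge hQ (by omega)
    exact Relation.ReflTransGen.refl
  | succ n ih =>
    intro Q hQ hn
    rcases eq_or_lt_of_le hQ with rfl | hlt
    · exact Relation.ReflTransGen.refl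
    have hlt' := lt_normalizer_inf hP hlt
    have hc : Nat.card Q < Nat.card ↥(P ⊓ Subgroup.normalizer (Q : Set G)) := by
      by_contra hle
      exact hlt'.ne (Subgroup.eq_of_le_of_card_ge hlt'.le (Nat.not_lt.mp hle))
    exact Relation.ReflTransGen.head
      (step_princ (hP.to_le inf_le_left) hlt'.le inf_le_right)
      (ih (P ⊓ Subgroup.normalizer (Q : Set G)) inf_le_left (by omega))

theorem top_princ (S : Sylow p G) :
    Top p (⟨(S : Subgroup G), princ k C[(S : Subgroup G)]⟩ : Idx k G) :=
  ⟨S.2, fun _ hb => S.3 hb.1 hb.2.1⟩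

/-- The pairs of the principal block are the principal pairs. -/
theorem pairOf_princ_iff {Q : Subgroup G} (hQ : IsPGroup p Q) (ω : Blk k C[Q]) :
    PairOf p (princ k G) (⟨Q, ω⟩ : Idx k G) ↔ ω = princ k C[Q] := by
  refine ⟨fun h => ?_, fun h => h ▸ pairOf_princ hQ⟩
  obtain ⟨S⟩ : Nonempty (Sylow p G) := inferInstance
  obtain ⟨x, hx⟩ := exists_le_conj_top h (top_princ S) (pairOf_princ S.2)
  have hle : Q.map (MulAut.conj x).toMonoidHom ≤ (S : Subgroup G) := hx.subgroup_le
  have he : cPair x (⟨Q, ω⟩ : Idx k G) = cPair x ⟨Q, princ k C[Q]⟩ := by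
    rw [cPair_princ]
    exact Sigma.ext rfl (heq_of_eq
      (le_unique S.2 (princ k C[(S : Subgroup G)]) hx
        (le_princ S.2 hle)))
  have h2 := congrArg (cPair x⁻¹) he
  rw [← cPair_mul, ← cPair_mul, inv_mul_cancel, cPair_one, cPair_one] at h2
  exact eq_of_heq (Sigma.mk.inj_iff.mp h2).2

/-- The defect groups of the principal block are the Sylow subgroups. -/
theorem isDef_princ_iff (D : Subgroup G) :
    IsDef p (princ k G) D ↔ ∃ S : Sylow p G, (S : Subgroup G) = D := by
  constructor
  · intro h
    obtain ⟨S⟩ : Nonempty (Sylow p G) := inferInstance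
    obtain ⟨x, hx⟩ := isDef_conj (isDef_of_top (top_princ S) (pairOf_princ S.2)) h
    exact ⟨x • S, by rw [Sylow.coe_subgroup_smul]; exact hx⟩
  · rintro ⟨S, rfl⟩
    exact isDef_of_top (top_princ S) (pairOf_princ S.2)

end Cfsg.Agent.Lib.BrauerPairs.Principal
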