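import Mathlib
import Cfsg.Prelude.Def_BrauerPairs
import Cfsg.Agent.Lib.Blocks.Basic
import Cfsg.Agent.Lib.BrauerPairs.Principal

/-!
# The character-theoretic block predicates in algebraic form

Translates `Def_Blocks` and `Def_BrauerPairs` to homomorphisms of centres of group algebras over
the residue field `AlgInt ⧸ M`.
-/

set_option autoImplicit false
set_option linter.style.haveILetI false

namespace Cfsg.Agent.Lib.BrauerPairs.Bridge

open MonoidAlgebra Cfsg.Agent.Lib.BrauerMap.Basic Cfsg.Agent.Lib.BrauerMap.ClassSum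
open Cfsg.Agent.Lib.Blocks (localRing residue omegaBar ccR omegaR)
open Cfsg.Agent.Lib.BrauerPairs.Center Cfsg.Agent.Lib.BrauerPairs.Trunc
open Cfsg.Agent.Lib.BrauerPairs.Conj Cfsg.Agent.Lib.BrauerPairs.Pairs
open Cfsg.Agent.Lib.BrauerPairs.Transport Cfsg.Agent.Lib.BrauerPairs.Maximal
open Cfsg.Agent.Lib.BrauerPairs.Principal
open Cfsg.Agent.Lib.Characters.Basic

universe u v

attribute [local instance] Ideal.Quotient.field

variable {M : Ideal Cfsg.AlgInt} [M.IsMaximal]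

/-- The residue field. -/
abbrev Res (M : Ideal Cfsg.AlgInt) : Type := Cfsg.AlgInt ⧸ M

instance res_isAlgClosed : IsAlgClosed (Res M) :=
  Cfsg.Agent.Lib.Blocks.isAlgClosed_residueField (M := M)

theorem charP_res {p : ℕ} (hM : Cfsg.IsPModular p M) : CharP (Res M) p :=
  Cfsg.Agent.Lib.Blocks.charP_residue hM

section Single

variable {G : Type u} [Group G] [Finite G]

variable (M) in
/-- The homomorphism of a character. -/
noncomputable def blkOf (χ : Cfsg.IrrCharacter G) : Blk (Res M) G := omegaBar M χ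

/-- The characters belonging to a homomorphism. -/
def toSet (ψ : Blk (Res M) G) : Set (Cfsg.IrrCharacter G) := {χ | blkOf M χ = ψ}

theorem mem_toSet {ψ : Blk (Res M) G} {χ : Cfsg.IrrCharacter G} :
    χ ∈ toSet ψ ↔ blkOf M χ = ψ := Iff.rfl

theorem exists_blkOf_eq (ψ : Blk (Res M) G) : ∃ χ : Cfsg.IrrCharacter G, blkOf M χ = ψ := by
  obtain ⟨χ, h⟩ := Cfsg.Agent.Lib.Blocks.exists_omegaBar_eq ψ
  exact ⟨χ, h.symm⟩

theorem blockOf_eq_toSet (χ : Cfsg.IrrCharacter G) :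
    Cfsg.blockOf M (χ : G → ℂ) = toSet (blkOf M χ) := by
  ext θ
  show Cfsg.SameBlock M (χ : G → ℂ) (θ : G → ℂ) ↔ _
  rw [Cfsg.Agent.Lib.Blocks.sameBlock_iff_omegaBar]
  exact eq_comm

theorem isPBlock_iff {B : Set (Cfsg.IrrCharacter G)} :
    Cfsg.IsPBlock M B ↔ ∃ ψ : Blk (Res M) G, B = toSet ψ := by
  constructor
  · rintro ⟨χ, rfl⟩
    exact ⟨_, blockOf_eq_toSet χ⟩
  · rintro ⟨ψ, rfl⟩
    obtain ⟨χ, rfl⟩ := exists_blkOf_eq ψ
    exact ⟨χ, (blockOf_eq_toSet χ).symm⟩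

theorem isPBlock_toSet (ψ : Blk (Res M) G) : Cfsg.IsPBlock M (toSet ψ) :=
  isPBlock_iff.mpr ⟨ψ, rfl⟩

theorem toSet_injective : Function.Injective (toSet (M := M) (G := G)) := by
  intro ψ φ h
  obtain ⟨χ, rfl⟩ := exists_blkOf_eq ψ
  exact (h ▸ (mem_toSet.mpr rfl) : χ ∈ toSet φ)

/-- The homomorphism of a block. -/
noncomputable def blk {B : Set (Cfsg.IrrCharacter G)} (hB : Cfsg.IsPBlock M B) :
    Blk (Res M) G :=
  (isPBlock_iff.mp hB).choose

theorem toSet_blk {B : Set (Cfsg.IrrCharacter G)} (hB : Cfsg.IsPBlock M B) :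
    toSet (blk hB) = B := (isPBlock_iff.mp hB).choose_spec.symm

theorem blk_toSet (ψ : Blk (Res M) G) (h : Cfsg.IsPBlock M (toSet ψ)) : blk h = ψ :=
  toSet_injective (toSet_blk h)

theorem blkOf_of_mem {B : Set (Cfsg.IrrCharacter G)} (hB : Cfsg.IsPBlock M B)
    {χ : Cfsg.IrrCharacter G} (h : χ ∈ B) : blkOf M χ = blk hB := by
  rw [← toSet_blk hB] at h
  exact h

theorem exists_mem (ψ : Blk (Res M) G) : ∃ χ, χ ∈ toSet ψ := exists_blkOf_eq ψ

/-! ### Idempotents -/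

theorem idem_eq_blockIdemBar {B : Set (Cfsg.IrrCharacter G)} (hB : Cfsg.IsPBlock M B) :
    idem (blk hB) = Cfsg.Agent.Lib.Blocks.blockIdemBar hB := by
  classical
  refine idem_ext (k := Res M) (idem_isIdem _) (Cfsg.Agent.Lib.Blocks.blockIdemBar_mul_self hB)
    fun φ => ?_
  obtain ⟨χ, rfl⟩ := exists_blkOf_eq φ
  rw [apply_idem]
  refine Eq.trans ?_ (Cfsg.Agent.Lib.Blocks.omegaBar_blockIdemBar hB χ).symm
  refine if_congr ?_ rfl rfl
  rw [← mem_toSet, toSet_blk]

theorem blockCoeff_mem_localRing {B : Set (Cfsg.IrrCharacter G)} (hB : Cfsg.IsPBlock M B) (g : G) :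
    Cfsg.blockCoeff B g ∈ localRing M :=
  Cfsg.Agent.Lib.Blocks.memLocalRing_blockCoeff hB g

theorem coeff_bidem {B : Set (Cfsg.IrrCharacter G)} (hB : Cfsg.IsPBlock M B) (g : G) :
    (bidem (blk hB)).coeff g =
      residue M ⟨Cfsg.blockCoeff B g, blockCoeff_mem_localRing hB g⟩ := by
  rw [bidem, idem_eq_blockIdemBar hB, Cfsg.Agent.Lib.Blocks.blockIdemBar,
    Cfsg.Agent.Lib.Blocks.coeff_mapCenter]
  rfl

theorem coeff_bidem_ne_zero_iff {B : Set (Cfsg.IrrCharacter G)} (hB : Cfsg.IsPBlock M B) (g : G) :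
    (bidem (blk hB)).coeff g ≠ 0 ↔ ¬ Cfsg.MemLocalIdeal M (Cfsg.blockCoeff B g) := by
  rw [coeff_bidem, Ne, Cfsg.Agent.Lib.Blocks.residue_eq_zero_iff]

theorem blkOf_classSumC (χ : Cfsg.IrrCharacter G) (g : G) :
    blkOf M χ (classSumC (Res M) g) = residue M (ccR M χ g) :=
  Cfsg.Agent.Lib.Blocks.omegaBar_classSumC χ g

/-! ### Defect groups -/

theorem isDefectClass_iff {B : Set (Cfsg.IrrCharacter G)} (hB : Cfsg.IsPBlock M B) (g : G) :
    Cfsg.IsDefectClass M B g ↔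
      (bidem (blk hB)).coeff g ≠ 0 ∧ blk hB (classSumC (Res M) g) ≠ 0 := by
  have key : ∀ χ ∈ B, (¬ Cfsg.MemLocalIdeal M (Cfsg.centralChar (χ : G → ℂ) g) ↔
      blk hB (classSumC (Res M) g) ≠ 0) := by
    intro χ hχ
    rw [← blkOf_of_mem hB hχ, blkOf_classSumC, Ne, Cfsg.Agent.Lib.Blocks.residue_eq_zero_iff]
    rfl
  rw [Cfsg.IsDefectClass, coeff_bidem_ne_zero_iff]
  constructor
  · rintro ⟨-, h1, h2⟩
    obtain ⟨χ, hχ⟩ := exists_mem (blk hB)
    rw [toSet_blk] at hχ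
    exact ⟨h1, (key χ hχ).mp (h2 χ hχ)⟩
  · rintro ⟨h1, h2⟩
    exact ⟨blockCoeff_mem_localRing hB g, h1, fun χ hχ => (key χ hχ).mpr h2⟩

theorem isDefectGroup_iff {p : ℕ} {B : Set (Cfsg.IrrCharacter G)} (hB : Cfsg.IsPBlock M B)
    (D : Subgroup G) : Cfsg.IsDefectGroup p M B D ↔ IsDef p (blk hB) D := by
  simp only [Cfsg.IsDefectGroup, IsDef, isDefectClass_iff hB, and_assoc]

theorem isPBlock_principalBlock : Cfsg.IsPBlock M (Cfsg.principalBlock M G) := ⟨oneChar G, rfl⟩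

theorem blkOf_oneChar : blkOf M (oneChar G) = princ (Res M) G := by
  classical
  haveI := Fintype.ofFinite G
  refine algHom_ext fun g => ?_
  rw [blkOf_classSumC, princ_apply]
  have h1 : ccR M (oneChar G) g =
      ((Subgroup.centralizer ({g} : Set G)).index : localRing M) := by
    apply Subtype.ext
    show Cfsg.centralChar (fun _ : G => (1 : ℂ)) g = _
    simp [Cfsg.centralChar]
  rw [h1, map_natCast]
  show _ = ∑ h, (classSum (Res M) g).coeff h
  simp only [coeff_classSum]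
  rw [← card_isConj, Nat.card_eq_fintype_card, Fintype.card_subtype]
  convert (Finset.sum_boole (R := Res M) (fun h => IsConj g h) Finset.univ).symm

theorem blk_principalBlock :
    blk (isPBlock_principalBlock (M := M) (G := G)) = princ (Res M) G := by
  rw [← blkOf_oneChar]
  exact (blkOf_of_mem _ (Cfsg.Agent.Lib.Blocks.mem_blockOf_self (oneChar G))).symm

/-! ### The Brauer map on a coefficient function -/

theorem exists_brauerOmega_residue {P : Subgroup G} (β : G → ℂ) (hβ : ∀ g, β g ∈ localRing M)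
    (hinv : ∀ u ∈ Subgroup.centralizer (P : Set G), ∀ g, β (u * g * u⁻¹) = β g)
    (a : MonoidAlgebra (Res M) G) (ha : ∀ g, a.coeff g = residue M ⟨β g, hβ g⟩)
    (ξ : Cfsg.IrrCharacter (Subgroup.centralizer (P : Set G))) :
    ∃ r : localRing M, (r : ℂ) = Cfsg.brauerOmega P β (ξ : _ → ℂ) ∧
      residue M r = val P (blkOf M ξ) a := by
  classical
  let C : Subgroup G := Subgroup.centralizer (P : Set G)
  haveI : Fintype (Subgroup.centralizer (P : Set G)) := Fintype.ofFinite _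
  let z : Subalgebra.center (localRing M) (MonoidAlgebra (localRing M) C) :=
    Cfsg.Agent.Lib.Blocks.ofClassFun (fun c : C => (⟨β c, hβ c⟩ : localRing M))
      (fun u c => Subtype.ext (hinv u u.2 c))
  refine ⟨omegaR M ξ z, ?_, ?_⟩
  · rw [Cfsg.Agent.Lib.Blocks.coe_omegaR, Cfsg.Agent.Lib.Blocks.omega_apply,
      Cfsg.Agent.Lib.Blocks.lin_apply, Cfsg.brauerOmega, finsum_eq_sum_of_fintype, Finset.sum_div]
    refine Finset.sum_congr rfl fun c _ => ?_
    rw [Cfsg.Agent.Lib.Blocks.coeff_mapCenter, Cfsg.Agent.Lib.Blocks.coeff_ofClassFun]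
    rfl
  · have hfix : IsFixedBy C a := by
      intro u hu g
      rw [ha, ha]
      exact congrArg (residue M) (Subtype.ext (hinv u hu g))
    rw [val_eq _ hfix, ← Cfsg.Agent.Lib.Blocks.omegaBar_mapCenter]
    refine congrArg (blkOf M ξ) (Subtype.ext ?_)
    ext c
    rw [Cfsg.Agent.Lib.Blocks.coeff_mapCenter, Cfsg.Agent.Lib.Blocks.coeff_ofClassFun, coeff_br, ha]

theorem memLocalIdeal_brauerOmega_iff {P : Subgroup G} (β : G → ℂ)
    (hβ : ∀ g, β g ∈ localRing M)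
    (hinv : ∀ u ∈ Subgroup.centralizer (P : Set G), ∀ g, β (u * g * u⁻¹) = β g)
    (a : MonoidAlgebra (Res M) G) (ha : ∀ g, a.coeff g = residue M ⟨β g, hβ g⟩)
    (ξ : Cfsg.IrrCharacter (Subgroup.centralizer (P : Set G))) :
    Cfsg.MemLocalIdeal M (Cfsg.brauerOmega P β (ξ : _ → ℂ) - 1) ↔
      val P (blkOf M ξ) a = 1 := by
  obtain ⟨r, hr, hr'⟩ := exists_brauerOmega_residue β hβ hinv a ha ξ
  rw [← hr, ← hr', show (1 : ℂ) = ((1 : localRing M) : ℂ) from rfl,
    Cfsg.Agent.Lib.Blocks.memLocalIdeal_sub_iff, map_one]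

theorem blockCoeff_inv_conj {B : Set (Cfsg.IrrCharacter G)} (u g : G) :
    Cfsg.blockCoeff B (u * g * u⁻¹) = Cfsg.blockCoeff B g :=
  (Cfsg.Agent.Lib.Blocks.blockCoeff_eq_of_isConj B (isConj_iff.mpr ⟨u, rfl⟩)).symm

theorem isBrauerPairOf_iff {p : ℕ} {B : Set (Cfsg.IrrCharacter G)} (hB : Cfsg.IsPBlock M B)
    {Q : Subgroup G} {e : Set (Cfsg.IrrCharacter (Subgroup.centralizer (Q : Set G)))}
    (he : Cfsg.IsPBlock M e) :
    Cfsg.IsBrauerPairOf p M B Q e ↔ PairOf p (blk hB) (⟨Q, blk he⟩ : Idx (Res M) G) := by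
  have key : ∀ ξ ∈ e, (Cfsg.MemLocalIdeal M
      (Cfsg.brauerOmega Q (Cfsg.blockCoeff B) (ξ : _ → ℂ) - 1) ↔
        val Q (blk he) (bidem (blk hB)) = 1) := by
    intro ξ hξ
    rw [← blkOf_of_mem he hξ]
    exact memLocalIdeal_brauerOmega_iff _ (blockCoeff_mem_localRing hB)
      (fun u _ g => blockCoeff_inv_conj u g) _ (coeff_bidem hB) ξ
  constructor
  · rintro ⟨⟨hQ, -⟩, -, h⟩
    obtain ⟨ξ, hξ⟩ := exists_mem (blk he)
    rw [toSet_blk] at hξ
    exact ⟨hQ, (key ξ hξ).mp (h ξ hξ)⟩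
  · rintro ⟨hQ, h⟩
    exact ⟨⟨hQ, he⟩, hB, fun ξ hξ => (key ξ hξ).mpr h⟩

/-! ### Subgroup block idempotents and conjugate blocks -/

theorem subgroupBlockCoeff_mem {H : Subgroup G} {f : Set (Cfsg.IrrCharacter H)}
    (hf : Cfsg.IsPBlock M f) (g : G) : Cfsg.subgroupBlockCoeff H f g ∈ localRing M := by
  classical
  rw [Cfsg.subgroupBlockCoeff]
  split_ifs with h
  · exact blockCoeff_mem_localRing hf ⟨g, h⟩
  · exact zero_mem _

theorem subgroupBlockCoeff_of_mem {H : Subgroup G} (f : Set (Cfsg.IrrCharacter H)) (h : H) :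
    Cfsg.subgroupBlockCoeff H f (h : G) = Cfsg.blockCoeff f h := by
  classical
  simp [Cfsg.subgroupBlockCoeff]

theorem subgroupBlockCoeff_of_notMem {H : Subgroup G} (f : Set (Cfsg.IrrCharacter H)) {g : G}
    (hg : g ∉ H) : Cfsg.subgroupBlockCoeff H f g = 0 := by
  classical
  simp [Cfsg.subgroupBlockCoeff, hg]

theorem coeff_bext {H : Subgroup G} {f : Set (Cfsg.IrrCharacter H)} (hf : Cfsg.IsPBlock M f)
    (g : G) : (bext H (blk hf)).coeff g =
      residue M ⟨Cfsg.subgroupBlockCoeff H f g, subgroupBlockCoeff_mem hf g⟩ := by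
  by_cases hg : g ∈ H
  · refine ((coeff_ext H _ ⟨g, hg⟩).trans (coeff_bidem hf ⟨g, hg⟩)).trans ?_
    exact congrArg (residue M) (Subtype.ext (subgroupBlockCoeff_of_mem f ⟨g, hg⟩).symm)
  · rw [bext, coeff_ext_of_notMem _ _ hg]
    rw [show (⟨Cfsg.subgroupBlockCoeff H f g, subgroupBlockCoeff_mem hf g⟩ : localRing M) = 0 from
      Subtype.ext (subgroupBlockCoeff_of_notMem f hg), map_zero]

theorem subgroupBlockCoeff_conj {H : Subgroup G} (f : Set (Cfsg.IrrCharacter H)) {u : G}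
    (hu : u ∈ H) (g : G) :
    Cfsg.subgroupBlockCoeff H f (u * g * u⁻¹) = Cfsg.subgroupBlockCoeff H f g := by
  by_cases hg : g ∈ H
  · have h1 := subgroupBlockCoeff_of_mem f (⟨u, hu⟩ * ⟨g, hg⟩ * (⟨u, hu⟩ : H)⁻¹)
    have h2 := subgroupBlockCoeff_of_mem f ⟨g, hg⟩
    rw [blockCoeff_inv_conj, Subgroup.coe_mul, Subgroup.coe_mul, Subgroup.coe_inv] at h1
    simp only at h1 h2
    rw [h1, h2]
  · rw [subgroupBlockCoeff_of_notMem f hg, subgroupBlockCoeff_of_notMem f]
    intro h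
    apply hg
    simpa [mul_assoc] using mul_mem (mul_mem (inv_mem hu) h) hu

end Single

section TwoGroups

variable {H H' : Type u} [Group H] [Group H'] [Finite H] [Finite H']

/-- Transport of an irreducible character along an isomorphism. -/
noncomputable def pushIrr (θ : H ≃* H') (χ : Cfsg.IrrCharacter H) : Cfsg.IrrCharacter H' :=
  ⟨(χ : H → ℂ) ∘ θ.symm.toMonoidHom, isIrrCharacter_comp _ θ.symm.surjective χ.2⟩

omit [Finite H] [Finite H'] in
theorem pushIrr_apply (θ : H ≃* H') (χ : Cfsg.IrrCharacter H) (h : H') :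
    (pushIrr θ χ : H' → ℂ) h = (χ : H → ℂ) (θ.symm h) := rfl

theorem zMap_classSumC {k : Type v} [Field k] (θ : H ≃* H') (h : H) :
    zMap θ (classSumC k h) = classSumC k (θ h) := by
  classical
  apply Subtype.ext
  rw [coe_zMap]
  have key : ∀ (a : MonoidAlgebra k H) (x : H),
      (MonoidAlgebra.domCongr k k θ a).coeff (θ x) = a.coeff x := by
    intro a x
    induction a using MonoidAlgebra.induction_linear with
    | zero => simp
    | add f g hf hg => simp [map_add, hf, hg]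
    | single m r =>
      rw [domCongr_single, coeff_single, coeff_single]
      simp [Finsupp.single_apply]
  ext x
  obtain ⟨x, rfl⟩ := θ.surjective x
  rw [key]
  simp only [classSumC, coeff_classSum]
  refine if_congr ⟨fun e => θ.toMonoidHom.map_isConj e, fun e => ?_⟩ rfl rfl
  have := θ.symm.toMonoidHom.map_isConj e
  simpa using this

theorem blkOf_pushIrr (θ : H ≃* H') (χ : Cfsg.IrrCharacter H) :
    blkOf M (pushIrr θ χ) = (blkOf M χ).comp (zMap θ.symm) := by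
  refine algHom_ext fun g => ?_
  rw [blkOf_classSumC, AlgHom.comp_apply, zMap_classSumC, blkOf_classSumC]
  refine congrArg (residue M) (Subtype.ext ?_)
  show Cfsg.centralChar (pushIrr θ χ : H' → ℂ) g = Cfsg.centralChar (χ : H → ℂ) (θ.symm g)
  simp only [Cfsg.centralChar, pushIrr_apply, map_one]
  congr 3
  rw [← card_isConj, ← card_isConj]
  refine Nat.card_congr (Equiv.subtypeEquiv θ.symm.toEquiv fun a => ?_)
  exact ⟨fun e => θ.symm.toMonoidHom.map_isConj e, fun e => by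
    simpa using θ.toMonoidHom.map_isConj e⟩

end TwoGroups

/-! ### Conjugation in a fixed group -/

section Conjugation

variable {G : Type u} [Group G] [Finite G]

theorem blkOf_pushIrr_conj (x : G) (H H' : Subgroup G)
    (h : ∀ g, g ∈ H ↔ x * g * x⁻¹ ∈ H') (χ : Cfsg.IrrCharacter H) :
    blkOf M (pushIrr (conjEquiv x H H' h) χ) = cBlk x H H' h (blkOf M χ) :=
  blkOf_pushIrr _ χ

omit [Finite G] in
theorem isConjCharOf_iff {K : Subgroup G} {x : G} (hK : ∀ g, g ∈ K ↔ x * g * x⁻¹ ∈ K)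
    (χ χ' : Cfsg.IrrCharacter K) :
    Cfsg.IsConjCharOf K x (χ : K → ℂ) (χ' : K → ℂ) ↔ χ' = pushIrr (conjEquiv x K K hK) χ := by
  constructor
  · intro h
    refine Subtype.ext (funext fun k' => ?_)
    rw [pushIrr_apply]
    refine h _ _ ?_
    show (k' : G) = x * (x⁻¹ * k' * x) * x⁻¹
    simp [mul_assoc]
  · rintro rfl k k' hk
    rw [pushIrr_apply]
    refine congrArg (χ : K → ℂ) (Subtype.ext ?_)
    show x⁻¹ * (k' : G) * x = k
    rw [hk]
    simp [mul_assoc]

theorem stabilizesBlock_iff {Q : Subgroup G}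
    {f : Set (Cfsg.IrrCharacter (Subgroup.centralizer (Q : Set G)))} (hf : Cfsg.IsPBlock M f)
    {x : G} (hx : x ∈ Subgroup.normalizer (Q : Set G)) :
    Cfsg.StabilizesBlock (Subgroup.centralizer (Q : Set G)) f x ↔ act Q hx (blk hf) = blk hf := by
  constructor
  · rintro ⟨-, h⟩
    obtain ⟨χ, hχ⟩ := exists_mem (blk hf)
    rw [toSet_blk] at hχ
    obtain ⟨χ', hχ', hconj⟩ := h χ hχ
    rw [(isConjCharOf_iff (mem_centralizer_conj_iff hx) χ χ').mp hconj] at hχ'
    have h2 := blkOf_of_mem hf hχ'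
    rw [blkOf_pushIrr_conj, blkOf_of_mem hf hχ] at h2
    exact h2
  · intro h
    refine ⟨Subgroup.mem_normalizer_iff.mpr (mem_centralizer_conj_iff hx), fun χ hχ =>
      ⟨pushIrr (conjEquiv x _ _ (mem_centralizer_conj_iff hx)) χ, ?_,
        (isConjCharOf_iff _ _ _).mpr rfl⟩⟩
    rw [← toSet_blk hf, mem_toSet, blkOf_pushIrr_conj, blkOf_of_mem hf hχ]
    exact h

theorem isFixedBy_bext_iff {Q P : Subgroup G} (hPN : P ≤ Subgroup.normalizer (Q : Set G))
    {f : Set (Cfsg.IrrCharacter (Subgroup.centralizer (Q : Set G)))} (hf : Cfsg.IsPBlock M f) :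
    (∀ x ∈ P, Cfsg.StabilizesBlock (Subgroup.centralizer (Q : Set G)) f x) ↔
      IsFixedBy P (bext (Subgroup.centralizer (Q : Set G)) (blk hf)) := by
  rw [isFixedBy_iff]
  exact forall₂_congr fun x hx => by rw [stabilizesBlock_iff hf (hPN hx), act_eq_iff]

theorem isNormalSubpair_iff {p : ℕ} {Q P : Subgroup G}
    {f : Set (Cfsg.IrrCharacter (Subgroup.centralizer (Q : Set G)))} (hf : Cfsg.IsPBlock M f)
    {e : Set (Cfsg.IrrCharacter (Subgroup.centralizer (P : Set G)))} (he : Cfsg.IsPBlock M e) :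
    Cfsg.IsNormalSubpair p M Q f P e ↔ Step p Q (blk hf) P (blk he) := by
  have key : Q ≤ P → ∀ ξ ∈ e, (Cfsg.MemLocalIdeal M
      (Cfsg.brauerOmega P (Cfsg.subgroupBlockCoeff (Subgroup.centralizer (Q : Set G)) f)
        (ξ : _ → ℂ) - 1) ↔
      val P (blk he) (bext (Subgroup.centralizer (Q : Set G)) (blk hf)) = 1) := by
    intro hQP ξ hξ
    rw [← blkOf_of_mem he hξ]
    exact memLocalIdeal_brauerOmega_iff _ (subgroupBlockCoeff_mem hf)
      (fun u hu g => subgroupBlockCoeff_conj f (Subgroup.centralizer_le hQP hu) g) _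
      (coeff_bext hf) ξ
  constructor
  · rintro ⟨-, ⟨hP, -⟩, hQP, hPN, hst, h⟩
    obtain ⟨ξ, hξ⟩ := exists_mem (blk he)
    rw [toSet_blk] at hξ
    exact ⟨hP, hQP, hPN, (isFixedBy_bext_iff hPN hf).mp hst, (key hQP ξ hξ).mp (h ξ hξ)⟩
  · rintro ⟨hP, hQP, hPN, hfix, hval⟩
    exact ⟨⟨hP.to_le hQP, hf⟩, ⟨hP, he⟩, hQP, hPN, (isFixedBy_bext_iff hPN hf).mpr hfix,
      fun ξ hξ => (key hQP ξ hξ).mpr hval⟩

theorem subpairLE_of_le {p : ℕ} {a b : Idx (Res M) G} (h : Le p a b) :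
    Cfsg.SubpairLE p M a.1 (toSet a.2) b.1 (toSet b.2) := by
  induction h with
  | refl => exact Relation.ReflTransGen.refl
  | @tail c d _ hs ih =>
    refine Relation.ReflTransGen.tail ih ?_
    show Cfsg.IsNormalSubpair p M c.1 (toSet c.2) d.1 (toSet d.2)
    rw [isNormalSubpair_iff (isPBlock_toSet _) (isPBlock_toSet _), blk_toSet, blk_toSet]
    exact hs

theorem exists_le_of_subpairLE {p : ℕ} {Q P : Subgroup G}
    {f : Set (Cfsg.IrrCharacter (Subgroup.centralizer (Q : Set G)))}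
    {e : Set (Cfsg.IrrCharacter (Subgroup.centralizer (P : Set G)))} (he : Cfsg.IsPBlock M e)
    (h : Cfsg.SubpairLE p M Q f P e) :
    ∃ hf : Cfsg.IsPBlock M f, Le p (⟨Q, blk hf⟩ : Idx (Res M) G) ⟨P, blk he⟩ := by
  suffices ∀ (a : Cfsg.BrauerPairIdx G),
      Relation.ReflTransGen (Cfsg.NormalSubpairRel p M) a ⟨P, e⟩ →
      ∃ hf : Cfsg.IsPBlock M a.2, Le p (⟨a.1, blk hf⟩ : Idx (Res M) G) ⟨P, blk he⟩ from
    this ⟨Q, f⟩ h
  intro a ha
  induction ha using Relation.ReflTransGen.head_induction_on with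
  | refl => exact ⟨he, Relation.ReflTransGen.refl⟩
  | @head b c hbc _ ih =>
    obtain ⟨hc, hle⟩ := ih
    exact ⟨hbc.1.2, Relation.ReflTransGen.head
      (show Step p (⟨b.1, blk hbc.1.2⟩ : Idx (Res M) G).1 _ (⟨c.1, blk hc⟩ : Idx (Res M) G).1 _
        from (isNormalSubpair_iff hbc.1.2 hc).mp hbc) hle⟩

theorem subpairLE_iff {p : ℕ} {Q P : Subgroup G}
    {f : Set (Cfsg.IrrCharacter (Subgroup.centralizer (Q : Set G)))} (hf : Cfsg.IsPBlock M f)
    {e : Set (Cfsg.IrrCharacter (Subgroup.centralizer (P : Set G)))} (he : Cfsg.IsPBlock M e) :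
    Cfsg.SubpairLE p M Q f P e ↔ Le p (⟨Q, blk hf⟩ : Idx (Res M) G) ⟨P, blk he⟩ := by
  constructor
  · intro h
    obtain ⟨_, h'⟩ := exists_le_of_subpairLE he h
    exact h'
  · intro h
    have := subpairLE_of_le h
    rwa [toSet_blk, toSet_blk] at this

theorem conjBlock_eq {Q : Subgroup G}
    {f : Set (Cfsg.IrrCharacter (Subgroup.centralizer (Q : Set G)))} (hf : Cfsg.IsPBlock M f)
    (x : G) :
    Cfsg.conjBlock Q x f = toSet (cPair x (⟨Q, blk hf⟩ : Idx (Res M) G)).2 := by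
  have hm := mem_centralizer_map_iff x Q
  set θ := conjEquiv x _ _ hm
  ext ξ'
  show _ ↔ blkOf M ξ' = cBlk x _ _ hm (blk hf)
  constructor
  · rintro ⟨ξ, hξ, h⟩
    have e : ξ' = pushIrr θ ξ := by
      refine Subtype.ext (funext fun c' => ?_)
      rw [pushIrr_apply]
      refine h (θ.symm c') c' ?_
      show (c' : G) = x * (x⁻¹ * c' * x) * x⁻¹
      simp [mul_assoc]
    rw [e, blkOf_pushIrr_conj, blkOf_of_mem hf hξ]
  · intro h
    have e : pushIrr θ (pushIrr θ.symm ξ') = ξ' := by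
      refine Subtype.ext (funext fun c' => ?_)
      rw [pushIrr_apply, pushIrr_apply, MulEquiv.symm_symm, MulEquiv.apply_symm_apply]
    refine ⟨pushIrr θ.symm ξ', ?_, fun c c' hc => ?_⟩
    · rw [← toSet_blk hf, mem_toSet]
      have h2 := h
      rw [← e, blkOf_pushIrr_conj] at h2
      refine AlgHom.ext fun z => ?_
      have h3 := DFunLike.congr_fun h2 (zMap θ z)
      simp only [cBlk, AlgHom.comp_apply] at h3
      rwa [zMap_symm] at h3
    · rw [pushIrr_apply]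
      refine congrArg ξ'.1 (Subtype.ext ?_)
      show (c' : G) = x * c * x⁻¹
      exact hc

theorem isMaximalBrauerPair_iff {p : ℕ} [Fact p.Prime] [CharP (Res M) p]
    {B : Set (Cfsg.IrrCharacter G)} (hB : Cfsg.IsPBlock M B) {P : Subgroup G}
    {e : Set (Cfsg.IrrCharacter (Subgroup.centralizer (P : Set G)))} (he : Cfsg.IsPBlock M e) :
    Cfsg.IsMaximalBrauerPair p M B P e ↔
      PairOf p (blk hB) (⟨P, blk he⟩ : Idx (Res M) G) ∧
        Top p (⟨P, blk he⟩ : Idx (Res M) G) := by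
  rw [Cfsg.IsMaximalBrauerPair, isBrauerPairOf_iff hB he]
  constructor
  · rintro ⟨h1, h2⟩
    refine ⟨h1, h1.1, fun b hb => ?_⟩
    have hb' : PairOf p (blk hB) b :=
      (pairOf_iff_of_le hb.1 (Relation.ReflTransGen.single hb) _).mp h1
    refine h2 b.1 (toSet b.2) ?_ ?_
    · rw [isBrauerPairOf_iff hB (isPBlock_toSet _), blk_toSet]
      exact hb'
    · rw [subpairLE_iff he (isPBlock_toSet _), blk_toSet]
      exact Relation.ReflTransGen.single hb
  · rintro ⟨h1, h2⟩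
    refine ⟨h1, fun R g hR hle => ?_⟩
    rw [subpairLE_iff he hR.1.2] at hle
    exact congrArg Sigma.fst (eq_of_top_le h2 hle).symm

end Conjugation

end Cfsg.Agent.Lib.BrauerPairs.Bridge
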