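import Mathlib
import Cfsg.Agent.Lib.BrauerPairs.Maximal

/-!
# Pairs of a subgroup and pairs of the group

For `Q ≤ H` with `C(Q) ≤ H` the blocks of the centralizer of `Q` taken in `H` and in `G` correspond
(`down`, `up`), compatibly with idempotents and values.
-/

set_option autoImplicit false
set_option linter.style.haveILetI false

namespace Cfsg.Agent.Lib.BrauerPairs.Embed

open MonoidAlgebra Cfsg.Agent.Lib.BrauerMap.Basic
open Cfsg.Agent.Lib.BrauerPairs.Center Cfsg.Agent.Lib.BrauerPairs.Trunc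
open Cfsg.Agent.Lib.BrauerPairs.Conj Cfsg.Agent.Lib.BrauerPairs.Pairs
open Cfsg.Agent.Lib.BrauerPairs.Maximal

universe u v

variable {k : Type v} [Field k] {G : Type u} [Group G] [Finite G] {H : Subgroup G}

local notation "C[" P "]" => Subgroup.centralizer ((P : Subgroup G) : Set G)

omit [Finite G] in
theorem mem_centralizer_subgroupOf_iff {Q : Subgroup G} (hQ : Q ≤ H) (h : H) :
    h ∈ Subgroup.centralizer ((Q.subgroupOf H : Subgroup H) : Set H) ↔ (h : G) ∈ C[Q] := by
  constructor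
  · intro hc q hq
    exact congrArg Subtype.val (hc ⟨q, hQ hq⟩ hq)
  · intro hc q hq
    exact Subtype.ext (hc q hq)

theorem isFixedBy_ext_iff {R : Subgroup G} (hR : R ≤ H) (a : MonoidAlgebra k H) :
    IsFixedBy (R.subgroupOf H) a ↔ IsFixedBy R (ext H a) := by
  constructor
  · intro h u hu g
    by_cases hg : g ∈ H
    · have h1 := h ⟨u, hR hu⟩ hu ⟨g, hg⟩
      rw [← coeff_ext H a, ← coeff_ext H a ⟨g, hg⟩] at h1
      simpa using h1
    · rw [coeff_ext_of_notMem H a hg, coeff_ext_of_notMem H a]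
      intro h'
      apply hg
      have h2 := mul_mem (mul_mem (inv_mem (hR hu)) h') (hR hu)
      simpa [mul_assoc] using h2
  · intro h u hu g
    have h1 := h (u : G) hu (g : G)
    rw [← Subgroup.coe_inv, ← Subgroup.coe_mul, ← Subgroup.coe_mul, coeff_ext, coeff_ext] at h1
    exact h1

theorem coeff_eq_zero_iff_br {R : Subgroup G} (a : MonoidAlgebra k G) :
    br R a = 0 ↔ ∀ g ∈ C[R], a.coeff g = 0 := by
  constructor
  · intro h g hg
    have h2 := congrArg (fun z : MonoidAlgebra k C[R] => z.coeff ⟨g, hg⟩) h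
    simpa [coeff_br] using h2
  · intro h
    ext g
    rw [coeff_br, h g g.2]
    simp

variable {Q : Subgroup G}

/-- The identification of the centralizer in `H` with the centralizer in `G`. -/
def embEquiv (hQ : Q ≤ H) (hC : C[Q] ≤ H) :
    Subgroup.centralizer ((Q.subgroupOf H : Subgroup H) : Set H) ≃* C[Q] where
  toFun h := ⟨((h : H) : G), (mem_centralizer_subgroupOf_iff hQ h).mp h.2⟩
  invFun g := ⟨⟨g, hC g.2⟩, (mem_centralizer_subgroupOf_iff hQ _).mpr g.2⟩
  left_inv _ := rfl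
  right_inv _ := rfl
  map_mul' _ _ := rfl

/-- The block of the centralizer in `H` attached to a block of the centralizer in `G`. -/
noncomputable def down (hQ : Q ≤ H) (hC : C[Q] ≤ H) (f : Blk k C[Q]) :
    Blk k (Subgroup.centralizer ((Q.subgroupOf H : Subgroup H) : Set H)) :=
  f.comp (zMap (embEquiv hQ hC))

/-- The inverse of `down`. -/
noncomputable def up (hQ : Q ≤ H) (hC : C[Q] ≤ H)
    (μ : Blk k (Subgroup.centralizer ((Q.subgroupOf H : Subgroup H) : Set H))) : Blk k C[Q] :=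
  μ.comp (zMap (embEquiv hQ hC).symm)

theorem down_up (hQ : Q ≤ H) (hC : C[Q] ≤ H)
    (μ : Blk k (Subgroup.centralizer ((Q.subgroupOf H : Subgroup H) : Set H))) :
    down hQ hC (up hQ hC μ) = μ := by
  refine AlgHom.ext fun z => ?_
  show μ (zMap (embEquiv hQ hC).symm (zMap (embEquiv hQ hC) z)) = μ z
  rw [zMap_symm]

theorem up_down (hQ : Q ≤ H) (hC : C[Q] ≤ H) (f : Blk k C[Q]) :
    up hQ hC (down hQ hC f) = f := by
  refine AlgHom.ext fun z => ?_
  show f (zMap (embEquiv hQ hC) (zMap (embEquiv hQ hC).symm z)) = f z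
  have := zMap_symm (embEquiv hQ hC).symm z
  rw [MulEquiv.symm_symm] at this
  rw [this]

omit [Finite G] in
theorem ext_ext_eq (hQ : Q ≤ H) (hC : C[Q] ≤ H)
    (z : MonoidAlgebra k (Subgroup.centralizer ((Q.subgroupOf H : Subgroup H) : Set H))) :
    ext H (ext (Subgroup.centralizer ((Q.subgroupOf H : Subgroup H) : Set H)) z) =
      ext C[Q] (MonoidAlgebra.domCongr k k (embEquiv hQ hC) z) := by
  induction z using MonoidAlgebra.induction_linear with
  | zero => simp
  | add f g hf hg => simp only [map_add, hf, hg]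
  | single a r =>
    rw [domCongr_single, ext_single, ext_single, ext_single]
    rfl

theorem ext_bext_down [IsAlgClosed k] (hQ : Q ≤ H) (hC : C[Q] ≤ H) (f : Blk k C[Q]) :
    ext H (bext (Subgroup.centralizer ((Q.subgroupOf H : Subgroup H) : Set H)) (down hQ hC f)) =
      bext C[Q] f := by
  rw [bext, bext, ext_ext_eq hQ hC]
  congr 1
  show MonoidAlgebra.domCongr k k (embEquiv hQ hC)
    ((idem (down hQ hC f) : ZAlg k _) : MonoidAlgebra k _) = ((idem f : ZAlg k C[Q]) : MonoidAlgebra k _)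
  rw [← coe_zMap, zMap_idem]
  exact congrArg (fun φ => ((idem φ : ZAlg k C[Q]) : MonoidAlgebra k C[Q])) (up_down hQ hC f)

theorem val_down (hQ : Q ≤ H) (hC : C[Q] ≤ H) (f : Blk k C[Q]) {a : MonoidAlgebra k H}
    (ha : IsFixedBy (Subgroup.centralizer ((Q.subgroupOf H : Subgroup H) : Set H)) a) :
    val (Q.subgroupOf H) (down hQ hC f) a = val Q f (ext H a) := by
  have ha' : IsFixedBy C[Q] (ext H a) := by
    refine (isFixedBy_ext_iff hC a).mp fun u hu g => ha u ?_ g
    exact (mem_centralizer_subgroupOf_iff hQ u).mpr hu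
  rw [val_eq _ ha, val_eq _ ha']
  refine congrArg f (Subtype.ext ?_)
  show MonoidAlgebra.domCongr k k (embEquiv hQ hC) (br (Q.subgroupOf H) a) = br Q (ext H a)
  apply ext_injective C[Q]
  rw [← ext_ext_eq hQ hC]
  ext g
  by_cases hg : g ∈ C[Q]
  · refine Eq.trans ?_ ((coeff_ext C[Q] (br Q (ext H a)) ⟨g, hg⟩).trans (coeff_br _ _ _)).symm
    refine (coeff_ext H _ ⟨g, hC hg⟩).trans ?_
    refine (coeff_ext _ (br (Q.subgroupOf H) a)
      ⟨⟨g, hC hg⟩, (mem_centralizer_subgroupOf_iff hQ _).mpr hg⟩).trans ?_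
    rw [coeff_br]
    exact (coeff_ext H a ⟨g, hC hg⟩).symm
  · rw [coeff_ext_of_notMem C[Q] _ hg]
    by_cases hgH : g ∈ H
    · refine (coeff_ext H _ ⟨g, hgH⟩).trans (coeff_ext_of_notMem _ _ ?_)
      exact fun h => hg ((mem_centralizer_subgroupOf_iff hQ _).mp h)
    · exact coeff_ext_of_notMem H _ hgH

variable [IsAlgClosed k] {p : ℕ} [Fact p.Prime] [CharP k p]

/-- Maximality of a pair in terms of truncations of its idempotent. -/
theorem top_iff (a : Idx k G) :
    Top p a ↔ IsPGroup p a.1 ∧ ∀ R : Subgroup G, IsPGroup p R → a.1 < R →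
      R ≤ Subgroup.normalizer (a.1 : Set G) → IsFixedBy R (bext C[a.1] a.2) →
      br R (bext C[a.1] a.2) = 0 := by
  constructor
  · exact fun h => ⟨h.1, fun R hR hlt hN hfix => br_bext_eq_zero_of_top h hR hlt hN hfix⟩
  · rintro ⟨hp, h⟩
    refine ⟨hp, fun b hb => ?_⟩
    by_contra hne
    have h0 := h b.1 hb.1 (lt_of_le_of_ne hb.2.1 (Ne.symm hne)) hb.2.2.1 hb.2.2.2.1
    have h1 := hb.2.2.2.2
    rw [val_congr b.2 (h0.trans (br_zero b.1).symm), val_zero] at h1
    exact zero_ne_one h1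

omit [Finite G] in
theorem subgroupOf_le_normalizer {R Q : Subgroup G} (hQ : Q ≤ H) (hRH : R ≤ H) :
    R.subgroupOf H ≤ Subgroup.normalizer ((Q.subgroupOf H : Subgroup H) : Set H) ↔
      R ≤ Subgroup.normalizer (Q : Set G) := by
  constructor
  · intro h r hr
    rw [Subgroup.mem_normalizer_iff]
    intro g
    constructor
    · intro hg
      exact (Subgroup.mem_normalizer_iff.mp (h (x := ⟨r, hRH hr⟩) hr) ⟨g, hQ hg⟩).mp hg
    · intro hg
      have hgH : g ∈ H := by
        have h2 := mul_mem (mul_mem (inv_mem (hRH hr)) (hQ hg)) (hRH hr)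
        simpa [mul_assoc] using h2
      exact (Subgroup.mem_normalizer_iff.mp (h (x := ⟨r, hRH hr⟩) hr) ⟨g, hgH⟩).mpr hg
  · intro h r hr
    rw [Subgroup.mem_normalizer_iff]
    intro g
    exact Subgroup.mem_normalizer_iff.mp (h hr) g

/-- A pair is maximal in `H` exactly when it is maximal in `G`, provided `N(Q) ≤ H`. -/
theorem top_down_iff (hQ : Q ≤ H) (hN : Subgroup.normalizer (Q : Set G) ≤ H) (f : Blk k C[Q]) :
    Top p (⟨Q.subgroupOf H, down hQ ((Subgroup.centralizer_le_normalizer _).trans hN) f⟩ :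
      Idx k H) ↔ Top p (⟨Q, f⟩ : Idx k G) := by
  have hC := (Subgroup.centralizer_le_normalizer (Q : Set G)).trans hN
  rw [top_iff, top_iff]
  refine and_congr ⟨fun h => h.of_equiv (Subgroup.subgroupOfEquivOfLe hQ),
    fun h => h.of_equiv (Subgroup.subgroupOfEquivOfLe hQ).symm⟩ ⟨fun h R hR hlt hRN hfix => ?_,
    fun h R hR hlt hRN hfix => ?_⟩
  · have hRH : R ≤ H := hRN.trans hN
    have hlt' : Q.subgroupOf H < R.subgroupOf H := by
      refine lt_of_le_of_ne (fun x hx => hlt.le hx) fun e => hlt.ne ?_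
      have e2 := congrArg (Subgroup.map H.subtype) e
      rwa [Subgroup.map_subgroupOf_eq_of_le hQ, Subgroup.map_subgroupOf_eq_of_le hRH] at e2
    have h0 := h (R.subgroupOf H) (hR.of_equiv (Subgroup.subgroupOfEquivOfLe hRH).symm) hlt'
      ((subgroupOf_le_normalizer hQ hRH).mpr hRN)
      ((isFixedBy_ext_iff hRH _).mpr (by rw [ext_bext_down]; exact hfix))
    rw [coeff_eq_zero_iff_br] at h0 ⊢
    intro g hg
    have hgH : g ∈ H := hC (centralizer_anti hlt.le hg)
    have h1 := h0 ⟨g, hgH⟩ ((mem_centralizer_subgroupOf_iff hRH _).mpr hg)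
    rw [← ext_bext_down hQ hC]
    exact (coeff_ext H _ ⟨g, hgH⟩).trans h1
  · set R' := R.map H.subtype with hR'
    have hR'H : R' ≤ H := Subgroup.map_subtype_le R
    have hRR' : R'.subgroupOf H = R := Subgroup.comap_map_eq_self_of_injective H.subtype_injective R
    have hlt' : Q < R' := by
      refine lt_of_le_of_ne (fun q hq => ⟨⟨q, hQ hq⟩, hlt.le hq, rfl⟩) fun e => hlt.ne ?_
      rw [← hRR']
      exact congrArg (fun S : Subgroup G => S.subgroupOf H) e
    rw [← hRR'] at hRN hfix ⊢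
    have h0 := h R' (hR.map _) hlt' ((subgroupOf_le_normalizer hQ hR'H).mp hRN)
      (by rw [← ext_bext_down hQ hC]; exact (isFixedBy_ext_iff hR'H _).mp hfix)
    rw [coeff_eq_zero_iff_br] at h0 ⊢
    intro g hg
    have h1 := h0 (g : G) ((mem_centralizer_subgroupOf_iff hR'H g).mp hg)
    rw [← ext_bext_down hQ hC, coeff_ext] at h1
    exact h1

end Cfsg.Agent.Lib.BrauerPairs.Embed
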