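import Mathlib
import Cfsg.Agent.Lib.BrauerMap.Induced
import Cfsg.Agent.Lib.BrauerPairs.Bridge
import Cfsg.Agent.Lib.BrauerPairs.Embed

/-!
# Block induction from the centraliser of a p-subgroup, in the language of pairs
-/

set_option autoImplicit false
set_option linter.style.haveILetI false

namespace Cfsg.Agent.Lib.BrauerPairs.InducedPair

open MonoidAlgebra Cfsg.Agent.Lib.BrauerMap.Basic Cfsg.Agent.Lib.BrauerMap.ClassSum
open Cfsg.Agent.Lib.BrauerMap.Induced
open Cfsg.Agent.Lib.Blocks (localRing residue omegaBar ccR)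
open Cfsg.Agent.Lib.BrauerPairs.Center Cfsg.Agent.Lib.BrauerPairs.Trunc
open Cfsg.Agent.Lib.BrauerPairs.Conj Cfsg.Agent.Lib.BrauerPairs.Pairs
open Cfsg.Agent.Lib.BrauerPairs.Maximal Cfsg.Agent.Lib.BrauerPairs.Bridge
open Cfsg.Agent.Lib.BrauerPairs.Embed

universe u

attribute [local instance] Ideal.Quotient.field

variable {M : Ideal Cfsg.AlgInt} [M.IsMaximal] {G : Type u} [Group G] [Finite G]
variable {p : ℕ} [Fact p.Prime] [CharP (Res M) p]

/-- The reduced induced central character from `C(Q)` is the value at the pair. -/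
theorem residue_icR_eq {Q : Subgroup G} (hQ : IsPGroup p Q)
    (ξ : Cfsg.IrrCharacter (Subgroup.centralizer (Q : Set G))) (g : G) :
    residue M (icR M (Subgroup.centralizer (Q : Set G)) ξ g) =
      pairBlk (a := (⟨Q, blkOf M ξ⟩ : Idx (Res M) G)) hQ (classSumC (Res M) g) := by
  rw [← inducedBar_classSumC, pairBlk_apply,
    val_eq _ (isFixedBy_of_mem_center _ (classSumC (Res M) g).2)]
  show omegaBar M ξ _ = omegaBar M ξ _
  refine congrArg _ (Subtype.ext ?_)
  ext h
  rw [coeff_brauerTo, if_pos (by rw [centralizer_bot]; exact Subgroup.mem_top _), coeff_br]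

/-- Induction from `C(Q)` is the pair relation. -/
theorem isInducedBlock_iff {Q : Subgroup G} (hQ : IsPGroup p Q)
    {e : Set (Cfsg.IrrCharacter (Subgroup.centralizer (Q : Set G)))} (he : Cfsg.IsPBlock M e)
    {B : Set (Cfsg.IrrCharacter G)} (hB : Cfsg.IsPBlock M B) :
    Cfsg.IsInducedBlock M (Subgroup.centralizer (Q : Set G)) e B ↔
      PairOf p (blk hB) (⟨Q, blk he⟩ : Idx (Res M) G) := by
  have key : ∀ ξ ∈ e, ∀ χ ∈ B, (∀ g : G, Cfsg.MemLocalIdeal M
      (Cfsg.inducedCentralChar (Subgroup.centralizer (Q : Set G)) (ξ : _ → ℂ) g -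
        Cfsg.centralChar (χ : G → ℂ) g)) ↔
      pairBlk (a := (⟨Q, blk he⟩ : Idx (Res M) G)) hQ = blk hB := by
    intro ξ hξ χ hχ
    rw [induced_congr_iff, ← blkOf_of_mem he hξ, ← blkOf_of_mem hB hχ]
    constructor
    · intro h
      refine algHom_ext fun g => ?_
      rw [← residue_icR_eq hQ ξ g, h g, blkOf_classSumC]
    · intro h g
      rw [residue_icR_eq hQ ξ g, h, blkOf_classSumC]
  constructor
  · rintro ⟨-, -, h⟩
    obtain ⟨ξ, hξ⟩ := exists_mem (blk he)
    obtain ⟨χ, hχ⟩ := exists_mem (blk hB)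
    rw [toSet_blk] at hξ hχ
    exact pairOf_iff.mpr ⟨hQ, (key ξ hξ χ hχ).mp (h ξ hξ χ hχ)⟩
  · intro h
    obtain ⟨_, h⟩ := pairOf_iff.mp h
    exact ⟨he, hB, fun ξ hξ χ hχ => (key ξ hξ χ hχ).mpr h⟩

omit [M.IsMaximal] [Fact p.Prime] [CharP (Res M) p] in
/-- Induction inside `H` is induction for the group `H`. -/
theorem inducedCentralCharIn_eq {H Q : Subgroup G} (hQ : Q ≤ H)
    (hC : Subgroup.centralizer (Q : Set G) ≤ H)
    (ξ : Cfsg.IrrCharacter (Subgroup.centralizer (Q : Set G))) (h : H) :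
    Cfsg.inducedCentralCharIn H (Subgroup.centralizer (Q : Set G)) (ξ : _ → ℂ) (h : G) =
      Cfsg.inducedCentralChar (Subgroup.centralizer ((Q.subgroupOf H : Subgroup H) : Set H))
        (pushIrr (embEquiv hQ hC).symm ξ : _ → ℂ) h := by
  unfold Cfsg.inducedCentralCharIn Cfsg.inducedCentralChar
  set θ := embEquiv hQ hC with hθ
  have himg : {k : Subgroup.centralizer (Q : Set G) | ∃ x : H, (x : G) * (k : G) * (x : G)⁻¹ = h} =
      θ '' {k : Subgroup.centralizer ((Q.subgroupOf H : Subgroup H) : Set H) | IsConj h (k : H)} := by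
    ext k
    constructor
    · rintro ⟨x, hx⟩
      refine ⟨θ.symm k, ?_, θ.apply_symm_apply k⟩
      exact isConj_comm.mp (isConj_iff.mpr ⟨x, Subtype.ext hx⟩)
    · rintro ⟨k', hk', rfl⟩
      obtain ⟨x, hx⟩ := isConj_iff.mp (isConj_comm.mp hk')
      exact ⟨x, congrArg Subtype.val hx⟩
  rw [himg, finsum_mem_image θ.injective.injOn]
  refine finsum_mem_congr rfl fun k _ => ?_
  rw [pushIrr_apply, pushIrr_apply, MulEquiv.symm_symm, map_one]

/-- Induction inside `H` from `C(Q)` is the pair relation in `H`. -/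
theorem isInducedBlockIn_iff {H Q : Subgroup G} (hQp : IsPGroup p Q) (hQ : Q ≤ H)
    (hC : Subgroup.centralizer (Q : Set G) ≤ H)
    {e : Set (Cfsg.IrrCharacter (Subgroup.centralizer (Q : Set G)))} (he : Cfsg.IsPBlock M e)
    {f : Set (Cfsg.IrrCharacter H)} (hf : Cfsg.IsPBlock M f) :
    Cfsg.IsInducedBlockIn M H (Subgroup.centralizer (Q : Set G)) e f ↔
      PairOf p (blk hf) (⟨Q.subgroupOf H, down hQ hC (blk he)⟩ : Idx (Res M) H) := by
  have he' : Cfsg.IsPBlock M (toSet (down hQ hC (blk he))) := isPBlock_toSet _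
  have hp' : IsPGroup p (Q.subgroupOf H) :=
    hQp.comap_of_injective H.subtype H.subtype_injective
  have h1 := isInducedBlock_iff (Q := Q.subgroupOf H) hp' he' hf
  rw [show blk he' = down hQ hC (blk he) from blk_toSet _ he'] at h1
  rw [← h1]
  have hmem : ∀ ξ : Cfsg.IrrCharacter (Subgroup.centralizer (Q : Set G)), ξ ∈ e →
      pushIrr (embEquiv hQ hC).symm ξ ∈ toSet (down hQ hC (blk he)) := by
    intro ξ hξ
    rw [mem_toSet, blkOf_pushIrr, MulEquiv.symm_symm, blkOf_of_mem he hξ]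
    rfl
  constructor
  · rintro ⟨-, -, h⟩
    refine ⟨he', hf, fun ξ' hξ' χ hχ g => ?_⟩
    obtain ⟨ξ, hξ⟩ := exists_mem (blk he)
    rw [toSet_blk] at hξ
    have h2 := h ξ hξ χ hχ g
    rw [inducedCentralCharIn_eq hQ hC] at h2
    refine (induced_congr_iff ξ' χ).mpr (fun g => ?_) g
    have h3 := (induced_congr_iff (pushIrr (embEquiv hQ hC).symm ξ) χ).mp (fun g => by
      have h4 := h ξ hξ χ hχ g
      rwa [inducedCentralCharIn_eq hQ hC] at h4) g
    rw [← h3]
    refine inducedCentralChar_congr ?_ g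
    rw [Cfsg.Agent.Lib.Blocks.sameBlock_iff_omegaBar]
    exact hξ'.trans (hmem ξ hξ).symm
  · rintro ⟨-, -, h⟩
    refine ⟨he, hf, fun ξ hξ χ hχ g => ?_⟩
    rw [inducedCentralCharIn_eq hQ hC]
    exact h _ (hmem ξ hξ) χ hχ g

end Cfsg.Agent.Lib.BrauerPairs.InducedPair
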