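import Mathlib
import Cfsg.Agent.Lib.BrauerPairs.Maximal
import Cfsg.Agent.Lib.BrauerPairs.Embed

/-!
# The pairs above a given pair

For a pair `(Q, f)` and a subgroup `H` between `C(Q)` and `N(Q)` having a block with the idempotent
of `f`, the pairs of that block are the pairs of the group above `(Q, f)`.  So the intersections of
the subgroups of maximal pairs above `(Q, f)` with `H` are bounded by its defect groups, with
equality after conjugation.
-/

set_option autoImplicit false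
set_option linter.style.haveILetI false

namespace Cfsg.Agent.Lib.BrauerPairs.Local

open MonoidAlgebra Cfsg.Agent.Lib.BrauerMap.Basic
open Cfsg.Agent.Lib.BrauerPairs.Center Cfsg.Agent.Lib.BrauerPairs.Trunc
open Cfsg.Agent.Lib.BrauerPairs.Conj Cfsg.Agent.Lib.BrauerPairs.Pairs
open Cfsg.Agent.Lib.BrauerPairs.Transport Cfsg.Agent.Lib.BrauerPairs.Maximal
open Cfsg.Agent.Lib.BrauerPairs.Embed

universe u v

variable {k : Type v} [Field k] {G : Type u} [Group G] [Finite G]

local notation "C[" P "]" => Subgroup.centralizer ((P : Subgroup G) : Set G)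

section Emb

variable {H R R' : Subgroup G}

/-- The centralizer in `H` identified with a centralizer in the group. -/
def eqv (hR : R ≤ H) (hC : ∀ g : G, g ∈ C[R'] ↔ g ∈ H ∧ g ∈ C[R]) :
    Subgroup.centralizer ((R.subgroupOf H : Subgroup H) : Set H) ≃* C[R'] where
  toFun h := ⟨((h : H) : G),
    (hC _).mpr ⟨(h : H).2, (mem_centralizer_subgroupOf_iff hR (h : H)).mp h.2⟩⟩
  invFun g := ⟨⟨g, ((hC _).mp g.2).1⟩, (mem_centralizer_subgroupOf_iff hR _).mpr ((hC _).mp g.2).2⟩
  left_inv _ := rfl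
  right_inv _ := rfl
  map_mul' _ _ := rfl

/-- The block of the centralizer in `H` attached to a block of the centralizer in the group. -/
noncomputable def dn (hR : R ≤ H) (hC : ∀ g : G, g ∈ C[R'] ↔ g ∈ H ∧ g ∈ C[R])
    (f : Blk k C[R']) : Blk k (Subgroup.centralizer ((R.subgroupOf H : Subgroup H) : Set H)) :=
  f.comp (zMap (eqv hR hC))

/-- The inverse of `dn`. -/
noncomputable def lift (hR : R ≤ H) (hC : ∀ g : G, g ∈ C[R'] ↔ g ∈ H ∧ g ∈ C[R])
    (μ : Blk k (Subgroup.centralizer ((R.subgroupOf H : Subgroup H) : Set H))) : Blk k C[R'] :=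
  μ.comp (zMap (eqv hR hC).symm)

theorem dn_lift (hR : R ≤ H) (hC : ∀ g : G, g ∈ C[R'] ↔ g ∈ H ∧ g ∈ C[R])
    (μ : Blk k (Subgroup.centralizer ((R.subgroupOf H : Subgroup H) : Set H))) :
    dn hR hC (lift hR hC μ) = μ := by
  refine AlgHom.ext fun z => ?_
  show μ (zMap (eqv hR hC).symm (zMap (eqv hR hC) z)) = μ z
  rw [zMap_symm]

theorem val_dn (hR : R ≤ H) (hC : ∀ g : G, g ∈ C[R'] ↔ g ∈ H ∧ g ∈ C[R])
    (f : Blk k C[R']) {a : MonoidAlgebra k H}
    (ha : IsFixedBy (Subgroup.centralizer ((R.subgroupOf H : Subgroup H) : Set H)) a) :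
    val (R.subgroupOf H) (dn hR hC f) a = val R' f (ext H a) := by
  have hCH : C[R'] ≤ H := fun g hg => ((hC g).mp hg).1
  have ha' : IsFixedBy C[R'] (ext H a) := by
    refine (isFixedBy_ext_iff hCH a).mp fun u hu g => ha u ?_ g
    exact (mem_centralizer_subgroupOf_iff hR u).mpr ((hC _).mp hu).2
  rw [val_eq _ ha, val_eq _ ha']
  refine congrArg f (Subtype.ext ?_)
  show MonoidAlgebra.domCongr k k (eqv hR hC) (br (R.subgroupOf H) a) = br R' (ext H a)
  ext g
  rw [coeff_br]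
  obtain ⟨h, rfl⟩ := (eqv hR hC).surjective g
  show _ = (ext H a).coeff ((h : H) : G)
  rw [coeff_ext, ← coeff_br]
  simp

end Emb

variable [IsAlgClosed k] {p : ℕ} [Fact p.Prime] [CharP k p]

/-- The stabilizer of a pair. -/
noncomputable def stab (a : Idx k G) : Subgroup G where
  carrier := {x | cPair x a = a}
  one_mem' := cPair_one a
  mul_mem' := fun {x y} hx hy => by
    show cPair (x * y) a = a
    rw [cPair_mul, hy, hx]
  inv_mem' := fun {x} hx => by
    show cPair x⁻¹ a = a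
    conv_lhs => rw [← (hx : cPair x a = a)]
    rw [← cPair_mul, inv_mul_cancel, cPair_one]

omit [Fact p.Prime] [CharP k p] in
theorem mem_stab {a : Idx k G} {x : G} : x ∈ stab a ↔ cPair x a = a := Iff.rfl

omit [Fact p.Prime] [CharP k p] in
theorem stab_le_normalizer (a : Idx k G) : stab a ≤ Subgroup.normalizer (a.1 : Set G) := fun x hx =>
  Subgroup.mem_normalizer_iff_map_conj_eq.mpr (congrArg Sigma.fst (mem_stab.mp hx))

omit [Fact p.Prime] [CharP k p] in
theorem centralizer_le_stab (a : Idx k G) : C[a.1] ≤ stab a := fun _ hx =>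
  cPair_of_mem_centralizer hx

omit [Fact p.Prime] [CharP k p] in
theorem mem_stab_iff {a : Idx k G} {x : G} :
    x ∈ stab a ↔ x ∈ Subgroup.normalizer (a.1 : Set G) ∧
      conjA x (bext C[a.1] a.2) = bext C[a.1] a.2 := by
  constructor
  · intro h
    refine ⟨stab_le_normalizer a h, ?_⟩
    conv_rhs => rw [← mem_stab.mp h]
    rw [bext_cPair]
  · rintro ⟨h1, h2⟩
    exact sigma_ext_of_bext (Subgroup.mem_normalizer_iff_map_conj_eq.mp h1)
      (by rw [bext_cPair, h2])

omit [Fact p.Prime] [CharP k p] in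
theorem isFixedBy_stab (a : Idx k G) : IsFixedBy (stab a) (bext C[a.1] a.2) :=
  (isFixedBy_iff _ _).mpr fun _ hx => (mem_stab_iff.mp hx).2

theorem le_stab_self {a : Idx k G} (ha : IsPGroup p a.1) : a.1 ≤ stab a := fun _ hx =>
  mem_stab_iff.mpr ⟨Subgroup.le_normalizer hx,
    (isFixedBy_iff _ _).mp ((step_self_iff ha a.2 a.2).mpr rfl).2.2.2.1 _ hx⟩

/-- The elements of a larger pair normalizing `Q` stabilize the pair below. -/
theorem inf_normalizer_le_stab {a b : Idx k G} (hb : IsPGroup p b.1) (h : Le p a b) :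
    b.1 ⊓ Subgroup.normalizer (a.1 : Set G) ≤ stab a := by
  rintro x ⟨hxb, hxN⟩
  have h2 := le_cPair x h
  rw [mem_stab.mp (le_stab_self hb hxb)] at h2
  refine mem_stab.mpr ?_
  obtain ⟨Q, f⟩ := a
  have e : Q.map (MulAut.conj x).toMonoidHom = Q := Subgroup.mem_normalizer_iff_map_conj_eq.mp hxN
  refine sigma_ext_of_bext e ?_
  generalize hc : cPair x (⟨Q, f⟩ : Idx k G) = c at h2
  obtain ⟨Q', f'⟩ := c
  have e' : Q' = Q := by rw [← e]; exact (congrArg Sigma.fst hc).symm
  subst e'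
  rw [le_unique hb b.2 h2 h]

omit [IsAlgClosed k] [Fact p.Prime] [CharP k p] [Finite G] in
theorem centralizer_sup (Q R : Subgroup G) (g : G) :
    g ∈ C[Q ⊔ R] ↔ g ∈ C[Q] ∧ g ∈ C[R] := by
  constructor
  · exact fun h => ⟨Subgroup.centralizer_le (fun x hx => (le_sup_left : Q ≤ Q ⊔ R) hx) h,
      Subgroup.centralizer_le (fun x hx => (le_sup_right : R ≤ Q ⊔ R) hx) h⟩
  · rintro ⟨h1, h2⟩ x hx
    have : Q ⊔ R ≤ Subgroup.centralizer ({g} : Set G) :=
      sup_le (mem_centralizer_singleton_of h1) (mem_centralizer_singleton_of h2)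
    exact Subgroup.mem_centralizer_singleton_iff.mp (this hx)

/-- The data: a subgroup between the centralizer and the normalizer and a block with the
idempotent of the pair. -/
structure Setup (p : ℕ) (a : Idx k G) (H : Subgroup G) (F : Blk k H) : Prop where
  pgroup : IsPGroup p a.1
  centralizer_le : C[a.1] ≤ H
  le_normalizer : H ≤ Subgroup.normalizer (a.1 : Set G)
  shape : a.1 ≤ H ∨ H ≤ C[a.1]
  idem_eq : ext H (bidem F) = bext C[a.1] a.2

variable {a : Idx k G} {H : Subgroup G} {F : Blk k H}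

omit [Fact p.Prime] [CharP k p] in
/-- The centralizer itself with the block of the pair. -/
theorem setup_centralizer (ha : IsPGroup p a.1) : Setup p a C[a.1] a.2 :=
  ⟨ha, le_rfl, Subgroup.centralizer_le_normalizer _, Or.inr le_rfl, rfl⟩

omit [Fact p.Prime] [CharP k p] in
theorem Setup.hC (S : Setup p a H F) {R : Subgroup G} (hg : H ⊓ C[R] ≤ C[a.1]) (g : G) :
    g ∈ C[a.1 ⊔ R] ↔ g ∈ H ∧ g ∈ C[R] := by
  rw [centralizer_sup]
  exact ⟨fun h => ⟨S.centralizer_le h.1, h.2⟩, fun h => ⟨hg ⟨h.1, h.2⟩, h.2⟩⟩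

theorem Setup.isPGroup_sup (S : Setup p a H F) {R : Subgroup G} (hR : IsPGroup p R) (hRH : R ≤ H) :
    IsPGroup p ↥(a.1 ⊔ R) :=
  IsPGroup.to_sup_of_normal_left' S.pgroup hR (hRH.trans S.le_normalizer)

/-- The pairs of the block are the steps above the pair. -/
theorem Setup.pairOf_dn_iff (S : Setup p a H F) {R : Subgroup G} (hR : IsPGroup p R) (hRH : R ≤ H)
    (hg : H ⊓ C[R] ≤ C[a.1]) (μ : Blk k C[a.1 ⊔ R]) :
    PairOf p F (⟨R.subgroupOf H, dn hRH (S.hC hg) μ⟩ : Idx k H) ↔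
      Step p a.1 a.2 (a.1 ⊔ R) μ := by
  have hv := val_dn hRH (S.hC hg) μ (a := bidem F) (isFixedBy_of_mem_center _ (bidem_mem F))
  rw [S.idem_eq] at hv
  have hfixH : IsFixedBy H (bext C[a.1] a.2) := by
    rw [← S.idem_eq]
    exact (isFixedBy_ext_iff le_rfl _).mp (isFixedBy_of_mem_center _ (bidem_mem F))
  constructor
  · intro h
    exact ⟨S.isPGroup_sup hR hRH, le_sup_left,
      sup_le Subgroup.le_normalizer (hRH.trans S.le_normalizer),
      isFixedBy_sup ((step_self_iff S.pgroup a.2 a.2).mpr rfl).2.2.2.1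
        (isFixedBy_mono hRH hfixH), hv.symm.trans h.2⟩
  · intro h
    exact ⟨hR.of_equiv (Subgroup.subgroupOfEquivOfLe hRH).symm, hv.trans h.2.2.2.2⟩

omit [Fact p.Prime] [CharP k p] in
theorem Setup.good_of (S : Setup p a H F) {R : Subgroup G} (h : a.1 ≤ H → a.1 ≤ R) :
    H ⊓ C[R] ≤ C[a.1] := by
  rcases S.shape with hQ | hH
  · exact inf_le_right.trans (centralizer_anti (h hQ))
  · exact inf_le_left.trans hH

/-- The intersection with `H` of a pair above is a pair of the block. -/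
theorem Setup.exists_step_inf (S : Setup p a H F) {b : Idx k G} (hb : IsPGroup p b.1)
    (hle : Le p a b) :
    ∃ μ : Blk k C[a.1 ⊔ (b.1 ⊓ H)], Step p a.1 a.2 (a.1 ⊔ (b.1 ⊓ H)) μ ∧
      Le p (⟨a.1 ⊔ (b.1 ⊓ H), μ⟩ : Idx k G) b := by
  have hsub : a.1 ⊔ (b.1 ⊓ H) ≤ b.1 := sup_le hle.subgroup_le inf_le_left
  obtain ⟨μ, hμ⟩ := exists_le_of_le hb b.2 _ hsub
  obtain ⟨ω, hω, -⟩ := existsUnique_step (hb.to_le hsub) le_sup_left
    (sup_le Subgroup.le_normalizer (inf_le_right.trans S.le_normalizer)) μ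
  have e : ω = a.2 := le_unique hb b.2 (Relation.ReflTransGen.head hω hμ) hle
  exact ⟨μ, e ▸ hω, hμ⟩

theorem Setup.exists_pairOf_inf (S : Setup p a H F) {b : Idx k G} (hb : IsPGroup p b.1)
    (hle : Le p a b) :
    ∃ ν : Blk k (Subgroup.centralizer (((b.1 ⊓ H).subgroupOf H : Subgroup H) : Set H)),
      PairOf p F (⟨(b.1 ⊓ H).subgroupOf H, ν⟩ : Idx k H) := by
  obtain ⟨μ, hμ, -⟩ := S.exists_step_inf hb hle
  have hg := S.good_of (R := b.1 ⊓ H) fun hQ => le_inf hle.subgroup_le hQ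
  exact ⟨_, (S.pairOf_dn_iff (hb.to_le inf_le_left) inf_le_right hg μ).mpr hμ⟩

/-- The intersection with `H` of a pair above lies in a defect group of the block. -/
theorem Setup.exists_isDef_ge (S : Setup p a H F) {b : Idx k G} (hb : IsPGroup p b.1)
    (hle : Le p a b) :
    ∃ D : Subgroup H, IsDef p F D ∧ (b.1 ⊓ H).subgroupOf H ≤ D := by
  obtain ⟨ν, hν⟩ := S.exists_pairOf_inf hb hle
  obtain ⟨D, hD⟩ := exists_isDef (p := p) F
  obtain ⟨x, hx⟩ := exists_map_le_isDef hν hD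
  refine ⟨D.map (MulAut.conj x⁻¹).toMonoidHom, hD.map_conj x⁻¹, ?_⟩
  intro u hu
  exact ⟨x * u * x⁻¹, hx ⟨u, hu, rfl⟩, by simp [mul_assoc]⟩

theorem card_isDef_eq {ψ : Blk k G} {D D' : Subgroup G} (hD : IsDef p ψ D) (hD' : IsDef p ψ D') :
    Nat.card D = Nat.card D' := by
  obtain ⟨x, rfl⟩ := isDef_conj hD hD'
  exact (card_map_conj x D).symm

omit [Fact p.Prime] [CharP k p] in
theorem le_cPair_inv {a b : Idx k G} {g : G} (h : Le p (cPair g a) b) :
    Le p a (cPair g⁻¹ b) := by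
  have := le_cPair g⁻¹ h
  rwa [← cPair_mul, inv_mul_cancel, cPair_one] at this

/-- Some conjugate of a maximal pair above meets `H` in a defect group. -/
theorem Setup.exists_conj_card_le (S : Setup p a H F) {b : Idx k G} (hb : Top p b)
    (hle : Le p a b) {D : Subgroup H} (hD : IsDef p F D) :
    ∃ g : G, Le p (cPair g a) b ∧
      Nat.card D ≤ Nat.card ↥(b.1.map (MulAut.conj g⁻¹).toMonoidHom ⊓ H) := by
  set R := D.map H.subtype with hRdef
  have hRH : R ≤ H := Subgroup.map_subtype_le D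
  have hR : IsPGroup p R := hD.isPGroup.map _
  have hRD : R.subgroupOf H = D := Subgroup.comap_map_eq_self_of_injective H.subtype_injective D
  have hQR : a.1 ≤ H → a.1 ≤ R := by
    intro hQH
    obtain ⟨ν', hν'⟩ := S.exists_pairOf_inf S.pgroup
      (Relation.ReflTransGen.refl : Le p a a)
    obtain ⟨x, hx⟩ := exists_map_le_isDef hν' hD
    intro q hq
    have hq' : (x : G)⁻¹ * q * x ∈ a.1 :=
      (Subgroup.mem_normalizer_iff''.mp (S.le_normalizer x.2) q).mp hq
    refine ⟨⟨q, hQH hq⟩, ?_, rfl⟩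
    exact hx ⟨⟨_, hQH hq'⟩, ⟨hq', hQH hq'⟩, Subtype.ext (by simp [mul_assoc])⟩
  have hg := S.good_of hQR
  obtain ⟨ν, hν⟩ := exists_pairOf_isDef (hRD.symm ▸ hD : IsDef p F (R.subgroupOf H))
  rw [← dn_lift hRH (S.hC hg) ν] at hν
  have hstep := (S.pairOf_dn_iff hR hRH hg _).mp hν
  set c : Idx k G := ⟨a.1 ⊔ R, lift hRH (S.hC hg) ν⟩ with hc
  have hac : Le p a c := Relation.ReflTransGen.single hstep
  obtain ⟨d, hd, hcd⟩ := exists_top_above c hstep.1
  have had : Le p a d := hac.trans hcd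
  have hψd : PairOf p (pairBlk hb.1) d :=
    (pairOf_iff_of_le hd.1 had _).mp
      ((pairOf_iff_of_le hb.1 hle _).mpr (pairOf_iff.mpr ⟨hb.1, rfl⟩))
  obtain ⟨x, hx⟩ := top_conj hd hb hψd (pairOf_iff.mpr ⟨hb.1, rfl⟩)
  refine ⟨x, hx ▸ le_cPair x had, ?_⟩
  rw [← hRD, Nat.card_congr (Subgroup.subgroupOfEquivOfLe hRH).toEquiv]
  refine Nat.le_of_dvd Nat.card_pos (Subgroup.card_dvd_of_le (le_inf ?_ hRH))
  rw [← hx]
  show R ≤ (d.1.map (MulAut.conj x).toMonoidHom).map (MulAut.conj x⁻¹).toMonoidHom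
  rw [map_conj_map_conj, inv_mul_cancel, map_conj_eq_of_mem (one_mem _)]
  exact le_sup_right.trans hcd.subgroup_le

/-- When the intersection of a maximal pair above with `H` is a defect group. -/
theorem Setup.isDef_inf_iff (S : Setup p a H F) {b : Idx k G} (hb : Top p b) (hle : Le p a b) :
    IsDef p F ((b.1 ⊓ H).subgroupOf H) ↔ ∀ g : G, Le p (cPair g a) b →
      Nat.card ↥(b.1.map (MulAut.conj g⁻¹).toMonoidHom ⊓ H) ≤ Nat.card ↥(b.1 ⊓ H) := by
  have e : ∀ R : Subgroup G, R ≤ H → Nat.card (R.subgroupOf H) = Nat.card R := fun R hR =>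
    Nat.card_congr (Subgroup.subgroupOfEquivOfLe hR).toEquiv
  constructor
  · intro hdef g hg
    obtain ⟨D, hD, hDle⟩ := S.exists_isDef_ge (b := cPair g⁻¹ b) (hb.1.map _) (le_cPair_inv hg)
    have := Nat.le_of_dvd Nat.card_pos (Subgroup.card_dvd_of_le hDle)
    rw [e _ inf_le_right, card_isDef_eq hD hdef, e _ inf_le_right] at this
    exact this
  · intro h
    obtain ⟨D, hD, hDle⟩ := S.exists_isDef_ge hb.1 hle
    obtain ⟨g, hg, hcard⟩ := S.exists_conj_card_le hb hle hD
    rwa [Subgroup.eq_of_le_of_card_ge hDle (by rw [e _ inf_le_right]; exact hcard.trans (h g hg))]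

/-- A defect group is reached after conjugating the pair. -/
theorem Setup.exists_max (S : Setup p a H F) {b : Idx k G} (hb : Top p b) (hle : Le p a b) :
    ∃ g : G, Le p (cPair g a) b ∧
      IsDef p F (((b.1.map (MulAut.conj g⁻¹).toMonoidHom) ⊓ H).subgroupOf H) := by
  obtain ⟨D, hD⟩ := exists_isDef (p := p) F
  obtain ⟨g, hg, hcard⟩ := S.exists_conj_card_le hb hle hD
  obtain ⟨D', hD', hle'⟩ := S.exists_isDef_ge (b := cPair g⁻¹ b) (hb.1.map _) (le_cPair_inv hg)
  refine ⟨g, hg, ?_⟩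
  have e : D' = _ := (Subgroup.eq_of_le_of_card_ge hle' (by
    rw [card_isDef_eq hD' hD, Nat.card_congr (Subgroup.subgroupOfEquivOfLe
      (inf_le_right : (cPair g⁻¹ b).1 ⊓ H ≤ H)).toEquiv]
    exact hcard)).symm
  rwa [e] at hD'

omit [Finite G] in
theorem map_conj_centralizer (g : G) (Q : Subgroup G) :
    (C[Q]).map (MulAut.conj g).toMonoidHom = C[Q.map (MulAut.conj g).toMonoidHom] := by
  ext c
  constructor
  · rintro ⟨d, hd, rfl⟩
    exact (mem_centralizer_map_iff g Q d).mp hd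
  · intro hc
    exact ⟨g⁻¹ * c * g, (mem_centralizer_map_iff g Q _).mpr (by simpa [mul_assoc] using hc),
      by simp [mul_assoc]⟩

omit [Finite G] in
theorem map_conj_normalizer (g : G) (Q : Subgroup G) :
    (Subgroup.normalizer (Q : Set G)).map (MulAut.conj g).toMonoidHom =
      Subgroup.normalizer ((Q.map (MulAut.conj g).toMonoidHom : Subgroup G) : Set G) := by
  ext c
  constructor
  · rintro ⟨d, hd, rfl⟩
    exact conj_mem_normalizer hd
  · intro hc
    refine ⟨g⁻¹ * c * g, ?_, by simp [mul_assoc]⟩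
    have := conj_mem_normalizer (x := g⁻¹) hc
    rwa [map_conj_map_conj, inv_mul_cancel, map_conj_eq_of_mem (one_mem _), inv_inv] at this

omit [Finite G] in
theorem card_conj_inf (g : G) (P : Subgroup G) (K : Subgroup G) :
    Nat.card ↥(P.map (MulAut.conj g⁻¹).toMonoidHom ⊓ K) =
      Nat.card ↥(P ⊓ K.map (MulAut.conj g).toMonoidHom) := by
  rw [← card_map_conj g, Subgroup.map_inf _ _ _ (MulAut.conj g).injective, map_conj_map_conj,
    mul_inv_cancel, map_conj_eq_of_mem (one_mem _)]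

end Cfsg.Agent.Lib.BrauerPairs.Local
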