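import Mathlib
import Cfsg.Agent.Lib.BrauerPairs.Local

/-!
# Extending conjugations at a fully normalized pair, and the Sylow property of the defect group

The two facts behind saturation of the fusion system of a block.
-/

set_option autoImplicit false
set_option linter.style.haveILetI false

namespace Cfsg.Agent.Lib.BrauerPairs.Extend

open MonoidAlgebra Cfsg.Agent.Lib.BrauerMap.Basic Cfsg.Agent.Lib.BrauerMap.ClassSum
open Cfsg.Agent.Lib.BrauerPairs.Center Cfsg.Agent.Lib.BrauerPairs.Trunc
open Cfsg.Agent.Lib.BrauerPairs.Conj Cfsg.Agent.Lib.BrauerPairs.Pairs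
open Cfsg.Agent.Lib.BrauerPairs.Transport Cfsg.Agent.Lib.BrauerPairs.Maximal
open Cfsg.Agent.Lib.BrauerPairs.Embed Cfsg.Agent.Lib.BrauerPairs.Local

universe u v

variable {k : Type v} [Field k] {G : Type u} [Group G] [Finite G] [IsAlgClosed k]

local notation "C[" P "]" => Subgroup.centralizer ((P : Subgroup G) : Set G)

section Up

variable {H : Subgroup G}

/-- The pair `c` of `H` comes from the pair `b` of the group. -/
def Up (c : Idx k H) (b : Idx k G) : Prop :=
  ∃ (hR : b.1 ≤ H) (hC : C[b.1] ≤ H), c = ⟨b.1.subgroupOf H, down hR hC b.2⟩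

theorem Up.spec {c : Idx k H} {b : Idx k G} (h : Up c b) :
    c.1.map H.subtype = b.1 ∧ ext H (bext _ c.2) = bext C[b.1] b.2 := by
  obtain ⟨hR, hC, rfl⟩ := h
  exact ⟨Subgroup.map_subgroupOf_eq_of_le hR, ext_bext_down hR hC b.2⟩

theorem exists_up (c : Idx k H) (h : C[c.1.map H.subtype] ≤ H) : ∃ b : Idx k G, Up c b := by
  obtain ⟨S, ν⟩ := c
  obtain ⟨R, hR, rfl⟩ : ∃ R : Subgroup G, R ≤ H ∧ R.subgroupOf H = S :=
    ⟨S.map H.subtype, Subgroup.map_subtype_le S,
      Subgroup.comap_map_eq_self_of_injective H.subtype_injective S⟩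
  rw [Subgroup.map_subgroupOf_eq_of_le hR] at h
  exact ⟨⟨R, up hR h ν⟩, hR, h, Sigma.ext rfl (heq_of_eq (down_up hR h ν).symm)⟩

theorem ext_conjA (x : H) (z : MonoidAlgebra k H) :
    ext H (conjA x z) = conjA (x : G) (ext H z) := by
  ext g
  by_cases hg : g ∈ H
  · rw [coeff_conjA, show g = ((⟨g, hg⟩ : H) : G) from rfl, coeff_ext, coeff_conjA]
    exact (coeff_ext H z _).symm
  · rw [coeff_ext_of_notMem H _ hg, coeff_conjA, coeff_ext_of_notMem H z]
    intro h
    apply hg
    simpa [mul_assoc] using mul_mem (mul_mem x.2 h) (inv_mem x.2)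

theorem Up.cPair {c : Idx k H} {b : Idx k G} (h : Up c b) (x : H) {b' : Idx k G}
    (h' : Up (Transport.cPair x c) b') : b' = Transport.cPair (x : G) b := by
  refine sigma_ext_of_bext ?_ ?_
  · rw [← h'.spec.1]
    show _ = b.1.map (MulAut.conj (x : G)).toMonoidHom
    rw [← h.spec.1]
    show (c.1.map (MulAut.conj x).toMonoidHom).map H.subtype = _
    rw [Subgroup.map_map, Subgroup.map_map]
    rfl
  · rw [← h'.spec.2, bext_cPair, bext_cPair, ext_conjA, h.spec.2]

variable {p : ℕ}

theorem step_of_up {c d : Idx k H} {a b : Idx k G} (hc : Up c a) (hd : Up d b)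
    (h : Step p c.1 c.2 d.1 d.2) : Step p a.1 a.2 b.1 b.2 := by
  obtain ⟨hR, hC, rfl⟩ := hc
  obtain ⟨hR', hC', rfl⟩ := hd
  obtain ⟨h1, h2, h3, h4, h5⟩ := h
  have hle : a.1 ≤ b.1 := fun g hg => h2 (show (⟨g, hR hg⟩ : H) ∈ a.1.subgroupOf H from hg)
  refine ⟨h1.of_equiv (Subgroup.subgroupOfEquivOfLe hR'), hle,
    (subgroupOf_le_normalizer hR hR').mp h3, ?_, ?_⟩
  · have := (isFixedBy_ext_iff hR' _).mp h4
    rwa [ext_bext_down hR hC a.2] at this
  · have hv := val_down hR' hC' b.2 (a := bext _ (down hR hC a.2))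
      (isFixedBy_centralizer_bext h2 _)
    rw [ext_bext_down hR hC a.2] at hv
    exact hv.symm.trans h5

theorem le_of_up {c d : Idx k H} (h : Le p c d) {a : Idx k G} (hc : Up c a) :
    ∃ b : Idx k G, Up d b ∧ Le p a b := by
  induction h with
  | refl => exact ⟨a, hc, Relation.ReflTransGen.refl⟩
  | @tail m n hm hs ih =>
    obtain ⟨b, hb, hab⟩ := ih
    have hsub : C[n.1.map H.subtype] ≤ H := by
      refine le_trans (centralizer_anti ?_) hb.2.1
      rw [← hb.spec.1]
      exact Subgroup.map_mono hs.2.1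
    obtain ⟨b', hb'⟩ := exists_up n hsub
    exact ⟨b', hb', hab.tail (step_of_up hb hb' hs)⟩

theorem Up.unique {c : Idx k H} {b b' : Idx k G} (h : Up c b) (h' : Up c b') : b = b' :=
  sigma_ext_of_bext (h.spec.1.symm.trans h'.spec.1) (h.spec.2.symm.trans h'.spec.2)

end Up

variable {p : ℕ} [Fact p.Prime] [CharP k p]

/-- A pair above a fully normalized pair, inside `C(Q)·N_P(Q)`, is moved below the maximal pair by
an element of the centralizer. -/
theorem exists_centralizer_conj {a b c : Idx k G} (hb : Top p b) (hle : Le p a b)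
    (hmax : ∀ g : G, Le p (cPair g a) b →
      Nat.card ↥(b.1.map (MulAut.conj g⁻¹).toMonoidHom ⊓ Subgroup.normalizer (a.1 : Set G)) ≤
        Nat.card ↥(b.1 ⊓ Subgroup.normalizer (a.1 : Set G)))
    (K : Subgroup G) (hK : K = C[a.1] ⊔ (b.1 ⊓ Subgroup.normalizer (a.1 : Set G)))
    (F : Blk k K) (hF : ext K (bidem F) = bext C[a.1] a.2)
    (hstep : Step p a.1 a.2 c.1 c.2) (hc : c.1 ≤ K) :
    ∃ z ∈ C[a.1], Le p (cPair z c) b := by
  obtain ⟨N, hN⟩ : ∃ N, N = b.1 ⊓ Subgroup.normalizer (a.1 : Set G) := ⟨_, rfl⟩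
  rw [← hN] at hK hmax
  have hap : IsPGroup p a.1 := hb.1.to_le hle.subgroup_le
  have haN : a.1 ≤ N := hN ▸ le_inf hle.subgroup_le Subgroup.le_normalizer
  have hCK : C[a.1] ≤ K := hK ▸ le_sup_left
  have hNK : N ≤ K := hK ▸ le_sup_right
  have hNb : N ≤ b.1 := hN ▸ inf_le_left
  have hNN : N ≤ Subgroup.normalizer (a.1 : Set G) := hN ▸ inf_le_right
  have haK : a.1 ≤ K := haN.trans hNK
  have hKN : K ≤ Subgroup.normalizer (a.1 : Set G) :=
    hK ▸ sup_le (Subgroup.centralizer_le_normalizer _) hNN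
  have S : Setup p a K F := ⟨hap, hCK, hKN, Or.inl haK, hF⟩
  have hinf : b.1 ⊓ K = N :=
    le_antisymm (hN ▸ inf_le_inf_left _ hKN) (le_inf hNb hNK)
  -- the two pairs of the block
  have hpair : ∀ d : Idx k G, Step p a.1 a.2 d.1 d.2 → ∀ (hd : d.1 ≤ K) (hdC : C[d.1] ≤ K),
      PairOf p F (⟨d.1.subgroupOf K, down hd hdC d.2⟩ : Idx k K) := by
    intro d hs hd hdC
    refine ⟨hs.1.of_equiv (Subgroup.subgroupOfEquivOfLe hd).symm, ?_⟩
    have hv := val_down hd hdC d.2 (a := bidem F) (isFixedBy_of_mem_center _ (bidem_mem F))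
    rw [hF] at hv
    exact hv.trans hs.2.2.2.2
  obtain ⟨μ, hμ⟩ := exists_le_of_le hb.1 b.2 N hNb
  obtain ⟨ω, hω, -⟩ := existsUnique_step (hb.1.to_le hNb) haN hNN μ
  have hω' : ω = a.2 := le_unique hb.1 b.2 (Relation.ReflTransGen.head hω hμ) hle
  subst hω'
  have hNC : C[N] ≤ K := (centralizer_anti haN).trans hCK
  have hdef : IsDef p F ((b.1 ⊓ K).subgroupOf K) := by
    rw [S.isDef_inf_iff hb hle]
    intro g hg
    rw [hinf]
    exact (Nat.le_of_dvd Nat.card_pos (Subgroup.card_dvd_of_le (inf_le_inf_left _ hKN))).trans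
      (hmax g hg)
  rw [hinf] at hdef
  have h1 : PairOf p F (⟨N.subgroupOf K, down hNK hNC μ⟩ : Idx k K) :=
    hpair ⟨N, μ⟩ hω hNK hNC
  have htop := top_of_isDef h1 hdef
  have hcC : C[c.1] ≤ K := (centralizer_anti hstep.2.1).trans hCK
  obtain ⟨x, hx⟩ := exists_le_conj_top (hpair c hstep hc hcC) htop h1
  have hU : Up (⟨c.1.subgroupOf K, down hc hcC c.2⟩ : Idx k K) c := ⟨hc, hcC, rfl⟩
  have hsub : C[(cPair x (⟨c.1.subgroupOf K, down hc hcC c.2⟩ : Idx k K)).1.map K.subtype] ≤ K := by
    refine le_trans (centralizer_anti (Q := a.1) ?_) hCK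
    intro q hq
    have hq' : (x : G)⁻¹ * q * x ∈ a.1 :=
      (Subgroup.mem_normalizer_iff''.mp (hKN x.2) q).mp hq
    refine ⟨⟨q, haK hq⟩, ⟨⟨_, haK hq'⟩, hstep.2.1 hq', Subtype.ext (by simp [mul_assoc])⟩, rfl⟩
  obtain ⟨c', hc'⟩ := exists_up _ hsub
  obtain ⟨d, hd, hle'⟩ := le_of_up hx hc'
  rw [hU.cPair x hc'] at hle'
  obtain rfl : d = ⟨N, μ⟩ := hd.unique ⟨hNK, hNC, rfl⟩
  have hle2 : Le p (cPair (x : G) c) b := hle'.trans hμ
  -- split the element
  have hx2 : (x : G) ∈ C[a.1] ⊔ N := hK ▸ x.2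
  rw [sup_comm, ← SetLike.mem_coe,
    Subgroup.coe_mul_of_left_le_normalizer_right N C[a.1]
      (hNN.trans (fun n hn => ?_))] at hx2
  · obtain ⟨n, hn, z, hz, hnz⟩ := hx2
    refine ⟨z, hz, ?_⟩
    have hb1 : cPair n⁻¹ b = b := mem_stab.mp (le_stab_self hb.1 (inv_mem (hNb hn)))
    have := le_cPair n⁻¹ hle2
    rw [hb1, ← cPair_mul, ← hnz] at this
    simpa using this
  · exact Subgroup.mem_normalizer_iff.mpr (mem_centralizer_conj_iff hn)

/-- A block of the stabilizer with the idempotent of the pair: the image of a defect group in the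
automizer is a Sylow subgroup. -/
theorem not_dvd_index_sup (a : Idx k G) (T : Subgroup G) (hT : T = stab a) (F : Blk k T)
    (hF : ext T (bidem F) = bext C[a.1] a.2) (ha : IsPGroup p a.1) {D : Subgroup T}
    (hD : IsDef p F D) : ¬ p ∣ ((C[a.1]).subgroupOf T ⊔ D).index := by
  classical
  have hTN : T ≤ Subgroup.normalizer (a.1 : Set G) := hT ▸ stab_le_normalizer a
  set N : Subgroup T := (C[a.1]).subgroupOf T with hNdef
  haveI hNn : N.Normal := ⟨fun n hn g =>
    (mem_centralizer_conj_iff (hTN g.2) (n : G)).mp hn⟩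
  obtain ⟨t, hcoef, hval, P, rfl⟩ := hD
  have hQT : a.1 ≤ T := hT ▸ le_stab_self ha
  have hCT : C[a.1] ≤ T := hT ▸ centralizer_le_stab a
  have hsupp : ∀ u : T, (bidem F).coeff u ≠ 0 → (u : G) ∈ C[a.1] := by
    intro u hu
    by_contra hne
    apply hu
    rw [← coeff_ext T (bidem F) u, hF, bext, coeff_ext_of_notMem _ _ hne]
  have htC : (t : G) ∈ C[a.1] := hsupp t hcoef
  -- the value of the block is computed at the pair
  haveI : (a.1.subgroupOf T).Normal := ⟨fun q hq g =>
    (Subgroup.mem_normalizer_iff.mp (hTN g.2) q).mp hq⟩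
  have hv0 := val_down hQT hCT a.2 (a := bidem F) (isFixedBy_of_mem_center _ (bidem_mem F))
  rw [hF] at hv0
  have hpair : PairOf p F (⟨a.1.subgroupOf T, down hQT hCT a.2⟩ : Idx k T) :=
    ⟨ha.of_equiv (Subgroup.subgroupOfEquivOfLe hQT).symm,
      hv0.trans ((step_self_iff ha a.2 a.2).mpr rfl).2.2.2.2⟩
  have hfixC : IsFixedBy C[a.1] (ext T (classSum k t)) :=
    isFixedBy_mono hCT (isFixedBy_ext_of_center (classSum_mem_center t))
  have hFt : a.2 ⟨br a.1 (ext T (classSum k t)), br_mem_center hfixC⟩ ≠ 0 := by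
    rw [← val_eq a.2 hfixC,
      ← val_down hQT hCT a.2 (a := classSum k t)
        (isFixedBy_of_mem_center _ (classSum_mem_center t))]
    exact fun h => hval ((hpair.apply_eq (classSumC k t)).symm.trans h)
  intro hdvd
  have hidx : p ∣ (N ⊔ (Subgroup.centralizer ({t} : Set T))).index := by
    have hp : p.Prime := Fact.out
    have h1 : ¬ p ∣ ((P : Subgroup (Subgroup.centralizer ({t} : Set T))).map (Subgroup.centralizer ({t} : Set T)).subtype).relIndex (Subgroup.centralizer ({t} : Set T)) := by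
      rw [Subgroup.relIndex, Subgroup.subgroupOf,
        Subgroup.comap_map_eq_self_of_injective (Subgroup.centralizer ({t} : Set T)).subtype_injective]
      exact P.not_dvd_index
    have hle : N ⊔ (P : Subgroup (Subgroup.centralizer ({t} : Set T))).map (Subgroup.centralizer ({t} : Set T)).subtype ≤ N ⊔ (Subgroup.centralizer ({t} : Set T)) :=
      sup_le_sup_left (Subgroup.map_subtype_le _) _
    rw [← Subgroup.relIndex_mul_index hle] at hdvd
    refine (hp.dvd_mul.mp hdvd).resolve_left fun h => h1 ?_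
    refine h.trans ?_
    set D := (P : Subgroup (Subgroup.centralizer ({t} : Set T))).map (Subgroup.centralizer ({t} : Set T)).subtype
    have hDZ : D ≤ (Subgroup.centralizer ({t} : Set T)) := Subgroup.map_subtype_le _
    have e1 : N.relIndex (N ⊔ D) * (N ⊔ D).relIndex (N ⊔ (Subgroup.centralizer ({t} : Set T))) = N.relIndex (N ⊔ (Subgroup.centralizer ({t} : Set T))) :=
      Subgroup.relIndex_mul_relIndex _ _ _ le_sup_left hle
    have e2 : (N ⊓ (Subgroup.centralizer ({t} : Set T))).relIndex (Subgroup.centralizer ({t} : Set T)) = N.relIndex (Subgroup.centralizer ({t} : Set T)) := Subgroup.inf_relIndex_right N (Subgroup.centralizer ({t} : Set T))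
    rw [Subgroup.relIndex_sup_left, Subgroup.relIndex_sup_left] at e1
    have e3 : (N ⊓ D).relIndex D * D.relIndex (Subgroup.centralizer ({t} : Set T)) = (N ⊓ D).relIndex (Subgroup.centralizer ({t} : Set T)) :=
      Subgroup.relIndex_mul_relIndex _ _ _ inf_le_right hDZ
    have e4 : (N ⊓ D).relIndex (N ⊓ (Subgroup.centralizer ({t} : Set T))) * (N ⊓ (Subgroup.centralizer ({t} : Set T))).relIndex (Subgroup.centralizer ({t} : Set T)) = (N ⊓ D).relIndex (Subgroup.centralizer ({t} : Set T)) :=
      Subgroup.relIndex_mul_relIndex _ _ _ (inf_le_inf_left _ hDZ) inf_le_right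
    rw [Subgroup.inf_relIndex_right] at e3
    rw [e2, ← e3, ← e1] at e4
    have hpos : 0 < N.relIndex D := Nat.pos_of_ne_zero Subgroup.index_ne_zero_of_finite
    exact ⟨(N ⊓ D).relIndex (N ⊓ (Subgroup.centralizer ({t} : Set T))), Nat.eq_of_mul_eq_mul_left hpos (by rw [← e4]; ring)⟩
  -- counting the classes inside the class of `t`
  apply hFt
  haveI := Fintype.ofFinite T
  haveI := Fintype.ofFinite C[a.1]
  haveI : Finite (ConjClasses C[a.1]) := Quotient.finite _
  haveI := Fintype.ofFinite (ConjClasses C[a.1])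
  set y : ZAlg k C[a.1] := ⟨br a.1 (ext T (classSum k t)), br_mem_center hfixC⟩ with hy
  set e : C[a.1] → T := fun g => ⟨(g : G), hCT g.2⟩ with he
  set S := Finset.univ.filter fun c : ConjClasses C[a.1] => IsConj t (e c.out) with hS
  have hydec : y = ∑ c ∈ S, classSumC k c.out := by
    refine Subtype.ext ?_
    rw [AddSubmonoidClass.coe_finsetSum, Finset.sum_filter]
    show br a.1 _ = _
    rw [eq_sum_classSum (br_mem_center hfixC)]
    refine Finset.sum_congr rfl fun c _ => ?_
    rw [coeff_br, show ((c.out : C[a.1]) : G) = ((e c.out : T) : G) from rfl, coeff_ext,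
      coeff_classSum]
    split_ifs <;> simp [classSumC]
  set u₀ : C[a.1] := ⟨(t : G), htC⟩
  have hconst : ∀ c ∈ S, a.2 (classSumC k c.out) = a.2 (classSumC k u₀) := by
    intro c hc
    obtain ⟨x, hx⟩ := isConj_iff.mp (Finset.mem_filter.mp hc).2
    have hxN := hTN x.2
    have hact : act a.1 hxN a.2 = a.2 :=
      (act_eq_iff hxN a.2).mpr (mem_stab_iff.mp (hT ▸ x.2)).2
    conv_lhs => rw [← hact]
    show a.2 (zMap (conjEquiv (x : G) _ _ (mem_centralizer_conj_iff hxN)).symm
      (classSumC k c.out)) = _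
    congr 1
    apply Subtype.ext
    rw [coe_zMap]
    ext g
    obtain ⟨g, rfl⟩ := (conjEquiv (x : G) _ _ (mem_centralizer_conj_iff hxN)).symm.surjective g
    simp only [MonoidAlgebra.coeff_domCongr, MulEquiv.symm_symm, MulEquiv.apply_symm_apply]
    rw [classSumC, classSumC]
    simp only [coeff_classSum]
    have hout : c.out = (conjEquiv (x : G) _ _ (mem_centralizer_conj_iff hxN)) u₀ :=
      Subtype.ext (by
        have := congrArg Subtype.val hx
        exact this.symm)
    have hiff : IsConj c.out g ↔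
        IsConj u₀ ((conjEquiv (x : G) _ _ (mem_centralizer_conj_iff hxN)).symm g) := by
      rw [hout]
      constructor <;> intro h
      · have := MonoidHom.map_isConj
          (conjEquiv (x : G) _ _ (mem_centralizer_conj_iff hxN)).symm.toMonoidHom h
        simpa using this
      · have := MonoidHom.map_isConj
          (conjEquiv (x : G) _ _ (mem_centralizer_conj_iff hxN)).toMonoidHom h
        simpa using this
    by_cases h : IsConj c.out g
    · rw [if_pos h, if_pos (hiff.mp h)]
    · rw [if_neg h, if_neg (fun h' => h (hiff.mpr h'))]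
  rw [hydec, map_sum, Finset.sum_congr rfl hconst, Finset.sum_const, nsmul_eq_mul]
  -- the number of classes
  set t' : N → T := fun g => (g : T) with ht'
  have hcount : S.card * (Subgroup.centralizer ({u₀} : Set C[a.1])).index = (Subgroup.centralizer ({t} : Set T)).index := by
    rw [← card_isConj, ← card_isConj, Nat.card_eq_fintype_card (α := {x : T // IsConj t x}),
      Fintype.card_subtype]
    have hmaps : ∀ w ∈ Finset.univ.filter (fun w : T => IsConj t w),
        ∀ hw : (w : G) ∈ C[a.1], ConjClasses.mk (⟨(w : G), hw⟩ : C[a.1]) ∈ S := by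
      intro w hw hwC
      rw [hS, Finset.mem_filter]
      refine ⟨Finset.mem_univ _, (Finset.mem_filter.mp hw).2.trans ?_⟩
      have h1 : IsConj (⟨(w : G), hwC⟩ : C[a.1]) (ConjClasses.mk _).out :=
        ConjClasses.mk_eq_mk_iff_isConj.mp (Quotient.out_eq _).symm
      obtain ⟨s, hs⟩ := isConj_iff.mp h1
      exact isConj_iff.mpr ⟨e s, Subtype.ext (by simpa [he] using congrArg Subtype.val hs)⟩
    have hinC : ∀ w : T, IsConj t w → (w : G) ∈ C[a.1] := by
      intro w hw
      obtain ⟨s, hs⟩ := isConj_iff.mp hw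
      have := (mem_centralizer_conj_iff (hTN s.2) (t : G)).mp htC
      rw [← hs]
      exact this
    rw [Finset.card_eq_sum_card_fiberwise (f := fun w : T =>
        if hw : (w : G) ∈ C[a.1] then ConjClasses.mk (⟨(w : G), hw⟩ : C[a.1])
        else ConjClasses.mk u₀) (t := S)
      (fun w hw => by
        have hw' := hinC w (Finset.mem_filter.mp hw).2
        simp only [dif_pos hw']
        exact hmaps w hw hw')]
    refine (Finset.sum_const_nat fun c hc => ?_).symm
    obtain ⟨x, hx⟩ := isConj_iff.mp (Finset.mem_filter.mp hc).2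
    have hxN := hTN x.2
    set θ := conjEquiv (x : G) _ _ (mem_centralizer_conj_iff hxN) with hθ
    have hout : c.out = θ u₀ := Subtype.ext (congrArg Subtype.val hx).symm
    rw [Nat.card_eq_fintype_card, Fintype.card_subtype]
    refine Finset.card_bij' (fun w hw => θ.symm ⟨(w : G), hinC w
        (Finset.mem_filter.mp (Finset.mem_filter.mp hw).1).2⟩)
      (fun g _ => e (θ g)) (fun w hw => ?_) (fun g hg => ?_) (fun w hw => ?_) (fun g hg => ?_)
    · obtain ⟨h1, h2⟩ := Finset.mem_filter.mp hw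
      have hwC := hinC w (Finset.mem_filter.mp h1).2
      rw [dif_pos hwC, ← Quotient.out_eq c] at h2
      have h3 : IsConj (⟨(w : G), hwC⟩ : C[a.1]) c.out := ConjClasses.mk_eq_mk_iff_isConj.mp h2
      rw [hout] at h3
      have h4 := MonoidHom.map_isConj θ.symm.toMonoidHom h3
      simp only [MulEquiv.coe_toMonoidHom, MulEquiv.symm_apply_apply] at h4
      exact Finset.mem_filter.mpr ⟨Finset.mem_univ _, h4.symm⟩
    · obtain ⟨-, h2⟩ := Finset.mem_filter.mp hg
      have h3 : IsConj (θ g) c.out := by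
        rw [hout]
        exact (MonoidHom.map_isConj θ.toMonoidHom h2).symm
      have h4 : IsConj t (e (θ g)) := by
        refine (Finset.mem_filter.mp hc).2.trans ?_
        obtain ⟨s, hs⟩ := isConj_iff.mp h3.symm
        exact isConj_iff.mpr ⟨e s, Subtype.ext (by simpa [he] using congrArg Subtype.val hs)⟩
      refine Finset.mem_filter.mpr ⟨Finset.mem_filter.mpr ⟨Finset.mem_univ _, h4⟩, ?_⟩
      rw [dif_pos (θ g).2, ← Quotient.out_eq c]
      exact ConjClasses.mk_eq_mk_iff_isConj.mpr h3
    · exact Subtype.ext (by simp [he])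
    · exact θ.symm_apply_apply g
  have hsmall : (Subgroup.centralizer ({u₀} : Set C[a.1])).index = (Subgroup.centralizer ({t} : Set T)).relIndex (N ⊔ (Subgroup.centralizer ({t} : Set T))) := by
    rw [sup_comm, ← Subgroup.inf_relIndex_right (Subgroup.centralizer ({t} : Set T))]
    have h1 : (Subgroup.centralizer ({t} : Set T)).relIndex N = (Subgroup.centralizer ({u₀} : Set C[a.1])).index := by
      rw [Subgroup.relIndex]
      refine (Subgroup.index_comap_of_surjective (f := (Subgroup.subgroupOfEquivOfLe hCT).toMonoidHom)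
        (Subgroup.centralizer ({u₀} : Set C[a.1]))
        (Subgroup.subgroupOfEquivOfLe hCT).surjective).symm.trans ?_ |>.symm
      congr 1
      ext g
      simp only [Subgroup.mem_comap, Subgroup.mem_subgroupOf,
        Subgroup.mem_centralizer_singleton_iff]
      constructor <;> intro h
      · exact Subtype.ext (congrArg (fun z : C[a.1] => (z : G)) h)
      · exact Subtype.ext (congrArg (fun z : T => (z : G)) h)
    rw [← h1]
    have e2 : N.relIndex (Subgroup.centralizer ({t} : Set T)) * (Subgroup.centralizer ({t} : Set T)).relIndex ((Subgroup.centralizer ({t} : Set T)) ⊔ N) = N.relIndex (Subgroup.centralizer ({t} : Set T)) * (Subgroup.centralizer ({t} : Set T)).relIndex N := by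
      have e1 : (N ⊓ (Subgroup.centralizer ({t} : Set T))).relIndex (Subgroup.centralizer ({t} : Set T)) * (Subgroup.centralizer ({t} : Set T)).relIndex ((Subgroup.centralizer ({t} : Set T)) ⊔ N) = (N ⊓ (Subgroup.centralizer ({t} : Set T))).relIndex ((Subgroup.centralizer ({t} : Set T)) ⊔ N) :=
        Subgroup.relIndex_mul_relIndex _ _ _ inf_le_right le_sup_left
      have e3 : (N ⊓ (Subgroup.centralizer ({t} : Set T))).relIndex N * N.relIndex ((Subgroup.centralizer ({t} : Set T)) ⊔ N) = (N ⊓ (Subgroup.centralizer ({t} : Set T))).relIndex ((Subgroup.centralizer ({t} : Set T)) ⊔ N) :=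
        Subgroup.relIndex_mul_relIndex _ _ _ inf_le_left le_sup_right
      rw [Subgroup.inf_relIndex_right] at e1
      rw [Subgroup.inf_relIndex_left, Subgroup.relIndex_sup_right] at e3
      rw [e1, ← e3, mul_comm]
    rw [Subgroup.inf_relIndex_right]
    exact (mul_left_cancel₀ Subgroup.index_ne_zero_of_finite e2).symm
  rw [hsmall, ← Subgroup.relIndex_mul_index (H := (Subgroup.centralizer ({t} : Set T))) (K := N ⊔ (Subgroup.centralizer ({t} : Set T))) le_sup_right,
    mul_comm] at hcount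
  have hne : (Subgroup.centralizer ({t} : Set T)).relIndex (N ⊔ (Subgroup.centralizer ({t} : Set T))) ≠ 0 := Subgroup.index_ne_zero_of_finite
  have hcard : S.card = (N ⊔ (Subgroup.centralizer ({t} : Set T))).index := mul_left_cancel₀ hne hcount
  rw [hcard, (CharP.cast_eq_zero_iff k p _).mpr hidx, zero_mul]

end Cfsg.Agent.Lib.BrauerPairs.Extend
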