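import Mathlib
import Cfsg.Agent.Lib.BrauerMap.Nilpotent
import Cfsg.Agent.Lib.BrauerPairs.Bridge

/-!
# Block idempotents over the complex numbers that come from a normal subgroup

With a normal p-subgroup `P` the block idempotents are supported on `C(P)`, exactly and not only
modulo `M`.  The same lifting applies to any normal subgroup carrying the reduced idempotent.
-/

set_option autoImplicit false
set_option linter.style.haveILetI false

namespace Cfsg.Agent.Lib.BrauerPairs.Lift

open MonoidAlgebra Cfsg.Agent.Lib.BrauerMap.Basic Cfsg.Agent.Lib.BrauerMap.ClassSum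
open Cfsg.Agent.Lib.Blocks (localRing residue omegaBar ccR omegaR)
open Cfsg.Agent.Lib.BrauerPairs.Center Cfsg.Agent.Lib.BrauerPairs.Trunc
open Cfsg.Agent.Lib.BrauerPairs.Conj Cfsg.Agent.Lib.BrauerPairs.Pairs
open Cfsg.Agent.Lib.BrauerPairs.Transport Cfsg.Agent.Lib.BrauerPairs.Bridge
open scoped ComplexConjugate

universe u v

attribute [local instance] Ideal.Quotient.field

section Kernel

variable {k : Type v} [Field k] {G : Type u} [Group G] [Finite G]
variable {p : ℕ} [Fact p.Prime] [CharP k p]

omit [Finite G] in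
theorem mem_centralizer_iff_of_normal (P : Subgroup G) [P.Normal] (x g : G) :
    g ∈ Subgroup.centralizer (P : Set G) ↔ x * g * x⁻¹ ∈ Subgroup.centralizer (P : Set G) :=
  mem_centralizer_conj_iff (by rw [Subgroup.normalizer_eq_top]; exact Subgroup.mem_top x) g

theorem ext_br_mem_center (P : Subgroup G) [P.Normal] {z : MonoidAlgebra k G}
    (hz : z ∈ Subalgebra.center k (MonoidAlgebra k G)) :
    ext (Subgroup.centralizer (P : Set G)) (br P z) ∈
      Subalgebra.center k (MonoidAlgebra k G) := by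
  rw [mem_center_iff_coeff]
  intro u g
  have hm := mem_centralizer_iff_of_normal P u g
  by_cases hg : g ∈ Subgroup.centralizer (P : Set G)
  · refine (coeff_ext _ (br P z) ⟨_, hm.mp hg⟩).trans (Eq.trans ?_
      (coeff_ext _ (br P z) ⟨g, hg⟩).symm)
    rw [coeff_br, coeff_br]
    exact (mem_center_iff_coeff z).1 hz u g
  · rw [coeff_ext_of_notMem _ _ hg, coeff_ext_of_notMem _ _ (fun h => hg (hm.mpr h))]

/-- A homomorphism of the centre only sees the part supported on `C(P)`, `P` normal. -/
theorem apply_ext_br {P : Subgroup G} [P.Normal] (hP : IsPGroup p P) (φ : Blk k G) (z : ZAlg k G) :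
    φ ⟨ext (Subgroup.centralizer (P : Set G)) (br P (z : MonoidAlgebra k G)),
      ext_br_mem_center P z.2⟩ = φ z := by
  classical
  haveI : Finite (ConjClasses G) := Quotient.finite _
  haveI := Fintype.ofFinite (ConjClasses G)
  have hexp : ∀ w : ZAlg k G, φ w =
      ∑ c : ConjClasses G, (w : MonoidAlgebra k G).coeff c.out * φ (classSumC k c.out) := by
    intro w
    have hw : w = ∑ c : ConjClasses G, (w : MonoidAlgebra k G).coeff c.out • classSumC k c.out := by
      refine Subtype.ext ?_
      rw [AddSubmonoidClass.coe_finsetSum]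
      exact eq_sum_classSum w.2
    conv_lhs => rw [hw]
    rw [map_sum]
    exact Finset.sum_congr rfl fun c _ => by rw [map_smul, smul_eq_mul]
  rw [hexp, hexp z]
  refine Finset.sum_congr rfl fun c _ => ?_
  by_cases hc : (c.out : G) ∈ Subgroup.centralizer (P : Set G)
  · congr 1
    exact (coeff_ext _ _ ⟨c.out, hc⟩).trans (coeff_br _ _ _)
  · rw [Cfsg.Agent.Lib.BrauerMap.Nilpotent.algHom_classSum_eq_zero hP hc φ, mul_zero, mul_zero]

variable [IsAlgClosed k]

/-- A block idempotent is supported on `C(P)` for a normal p-subgroup `P`. -/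
theorem bidem_eq_ext_br {P : Subgroup G} [P.Normal] (hP : IsPGroup p P) (ψ : Blk k G) :
    bidem ψ = ext (Subgroup.centralizer (P : Set G)) (br P (bidem ψ)) := by
  have hi : IsIdempotentElem (ext (Subgroup.centralizer (P : Set G)) (br P (bidem ψ))) :=
    (br_isIdem hP (bidem_isIdem ψ) (isFixedBy_of_mem_center _ (bidem_mem ψ))).map _
  exact congrArg Subtype.val (idem_ext (k := k) (e := idem ψ)
    (f := ⟨_, ext_br_mem_center P (bidem_mem ψ)⟩) (idem_isIdem ψ) (Subtype.ext hi.eq)
    fun φ => (apply_ext_br hP φ (idem ψ)).symm)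

end Kernel

section Exact

variable {M : Ideal Cfsg.AlgInt} [M.IsMaximal] {G : Type u} [Group G] [Finite G]

/-- An idempotent class function over the local ring reducing to a block idempotent is that
block idempotent. -/
theorem blockCoeff_eq_of_lift {B : Set (Cfsg.IrrCharacter G)} (hB : Cfsg.IsPBlock M B)
    (z : MonoidAlgebra ℂ G) (hz : IsIdempotentElem z) (hloc : ∀ g, z.coeff g ∈ localRing M)
    (hinv : ∀ u g : G, z.coeff (u * g * u⁻¹) = z.coeff g)
    (hres : ∀ g, residue M ⟨z.coeff g, hloc g⟩ = (bidem (blk hB)).coeff g) (g : G) :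
    Cfsg.blockCoeff B g = z.coeff g := by
  classical
  let w : Subalgebra.center (localRing M) (MonoidAlgebra (localRing M) G) :=
    Cfsg.Agent.Lib.Blocks.ofClassFun (fun g => (⟨z.coeff g, hloc g⟩ : localRing M))
      (fun u g => Subtype.ext (hinv u g))
  have hw : (Cfsg.Agent.Lib.Blocks.mapCenter (localRing M).subtype w :
      MonoidAlgebra ℂ G) = z := by
    ext x
    rw [Cfsg.Agent.Lib.Blocks.coeff_mapCenter, Cfsg.Agent.Lib.Blocks.coeff_ofClassFun]
    rfl
  have hbar : Cfsg.Agent.Lib.Blocks.mapCenter (residue M) w = idem (blk hB) := by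
    apply Subtype.ext
    ext x
    rw [Cfsg.Agent.Lib.Blocks.coeff_mapCenter, Cfsg.Agent.Lib.Blocks.coeff_ofClassFun]
    exact hres x
  suffices h : Cfsg.Agent.Lib.Blocks.mapCenter (localRing M).subtype w =
      Cfsg.Agent.Lib.Blocks.idem B by
    rw [← Cfsg.Agent.Lib.Blocks.coeff_idem, ← h, hw]
  refine Cfsg.Agent.Lib.Blocks.eq_of_omega_eq fun χ => ?_
  rw [← Cfsg.Agent.Lib.Blocks.coe_omegaR, Cfsg.Agent.Lib.Blocks.omega_idem]
  have hi : omegaR M χ w * omegaR M χ w = omegaR M χ w := by
    apply Subtype.ext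
    have hmm : Cfsg.Agent.Lib.Blocks.mapCenter (localRing M).subtype w *
        Cfsg.Agent.Lib.Blocks.mapCenter (localRing M).subtype w =
        Cfsg.Agent.Lib.Blocks.mapCenter (localRing M).subtype w :=
      Subtype.ext (by rw [Subalgebra.coe_mul, hw]; exact hz.eq)
    rw [Subring.coe_mul, Cfsg.Agent.Lib.Blocks.coe_omegaR, ← map_mul, hmm]
  have hr : residue M (omegaR M χ w) = if χ ∈ B then 1 else 0 := by
    rw [← Cfsg.Agent.Lib.Blocks.omegaBar_mapCenter, hbar]
    refine (apply_idem (blk hB) (blkOf M χ)).trans (if_congr ?_ rfl rfl)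
    rw [← mem_toSet, toSet_blk]
  rcases eq_or_ne (omegaR M χ w) 0 with h0 | h0
  · rw [h0, map_zero] at hr
    split_ifs at hr with hχ
    · exact absurd hr zero_ne_one
    · rw [h0, if_neg hχ, Subring.coe_zero]
  · have h1 : omegaR M χ w = 1 := mul_left_cancel₀ h0 (hi.trans (mul_one _).symm)
    rw [h1, map_one] at hr
    split_ifs at hr with hχ
    · rw [h1, if_pos hχ, Subring.coe_one]
    · exact absurd hr one_ne_zero

/-- The block idempotent coefficients are equivariant under isomorphisms. -/
theorem blockCoeff_transport {H H' : Type u} [Group H] [Group H'] [Finite H] [Finite H']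
    (θ : H ≃* H') (ψ : Blk (Res M) H) (h : H) :
    Cfsg.blockCoeff (toSet (ψ.comp (zMap θ.symm))) (θ h) = Cfsg.blockCoeff (toSet ψ) h := by
  have himg : toSet (ψ.comp (zMap θ.symm)) = pushIrr θ '' toSet ψ := by
    ext χ'
    constructor
    · intro hχ
      refine ⟨pushIrr θ.symm χ', ?_, ?_⟩
      · show blkOf M (pushIrr θ.symm χ') = ψ
        rw [blkOf_pushIrr, mem_toSet.mp hχ, MulEquiv.symm_symm]
        refine AlgHom.ext fun z => ?_
        simp only [AlgHom.comp_apply]
        rw [zMap_symm]
      · refine Subtype.ext (funext fun a => ?_)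
        rw [pushIrr_apply, pushIrr_apply, MulEquiv.symm_symm, MulEquiv.apply_symm_apply]
    · rintro ⟨χ, hχ, rfl⟩
      show blkOf M (pushIrr θ χ) = _
      rw [blkOf_pushIrr, mem_toSet.mp hχ]
  have hinj : Function.Injective (pushIrr θ) := by
    intro a b hab
    refine Subtype.ext (funext fun a' => ?_)
    have h2 := congrFun (congrArg Subtype.val hab) (θ a')
    rw [pushIrr_apply, pushIrr_apply, MulEquiv.symm_apply_apply] at h2
    exact h2
  simp only [Cfsg.blockCoeff]
  rw [himg, finsum_mem_image hinj.injOn, Nat.card_congr θ.toEquiv]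
  congr 1
  refine finsum_mem_congr rfl fun χ _ => ?_
  rw [pushIrr_apply, pushIrr_apply, MulEquiv.symm_apply_apply, map_one]

open scoped Classical in
theorem blockCoeff_union (H : Type u) [Group H] [Finite H] (S : Finset (Blk (Res M) H)) (h : H) :
    Cfsg.blockCoeff {χ : Cfsg.IrrCharacter H | blkOf M χ ∈ S} h =
      ∑ f ∈ S, Cfsg.blockCoeff (toSet f) h := by
  induction S using Finset.induction_on with
  | empty =>
    have he : {χ : Cfsg.IrrCharacter H | blkOf M χ ∈ (∅ : Finset (Blk (Res M) H))} = ∅ := by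
      ext χ; simp
    rw [he, Finset.sum_empty]
    simp [Cfsg.blockCoeff]
  | insert f T hf ih =>
    have hu : {χ : Cfsg.IrrCharacter H | blkOf M χ ∈ insert f T} =
        toSet f ∪ {χ : Cfsg.IrrCharacter H | blkOf M χ ∈ T} := by
      ext χ; simp [mem_toSet]
    have hd : Disjoint (toSet f) {χ : Cfsg.IrrCharacter H | blkOf M χ ∈ T} := by
      rw [Set.disjoint_left]
      intro χ h1 h2
      exact hf ((mem_toSet.mp h1) ▸ h2)
    rw [Finset.sum_insert hf, ← ih, hu, ← Cfsg.Agent.Lib.Blocks.coeff_idem,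
      ← Cfsg.Agent.Lib.Blocks.coeff_idem, ← Cfsg.Agent.Lib.Blocks.coeff_idem,
      Cfsg.Agent.Lib.Blocks.idem_union hd]
    simp

theorem subgroupBlockCoeff_conj_normal (H : Subgroup G) (u : G)
    (hu : ∀ g, g ∈ H ↔ u * g * u⁻¹ ∈ H) (f : Blk (Res M) H) (g : G) :
    Cfsg.subgroupBlockCoeff H (toSet (cBlk u H H hu f)) (u * g * u⁻¹) =
      Cfsg.subgroupBlockCoeff H (toSet f) g := by
  by_cases hg : g ∈ H
  · rw [show u * g * u⁻¹ = ((conjEquiv u H H hu ⟨g, hg⟩ : H) : G) from rfl,
      subgroupBlockCoeff_of_mem]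
    refine (blockCoeff_transport _ f ⟨g, hg⟩).trans ?_
    exact (subgroupBlockCoeff_of_mem _ ⟨g, hg⟩).symm
  · rw [subgroupBlockCoeff_of_notMem _ hg,
      subgroupBlockCoeff_of_notMem _ (fun h => hg ((hu g).mpr h))]

/-- A block whose reduced idempotent is the sum of a conjugation invariant family of blocks of a
normal subgroup has exactly that idempotent. -/
theorem blockCoeff_eq_sum_subgroup {B : Set (Cfsg.IrrCharacter G)} (hB : Cfsg.IsPBlock M B)
    (H : Subgroup G) (hH : ∀ u g : G, g ∈ H ↔ u * g * u⁻¹ ∈ H) (S : Finset (Blk (Res M) H))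
    (hS : ∀ u : G, ∀ f ∈ S, cBlk u H H (hH u) f ∈ S)
    (hres : bidem (blk hB) = ∑ f ∈ S, bext H f) (g : G) :
    Cfsg.blockCoeff B g = ∑ f ∈ S, Cfsg.subgroupBlockCoeff H (toSet f) g := by
  classical
  set U : Set (Cfsg.IrrCharacter H) := {χ | blkOf M χ ∈ S} with hU
  set z : MonoidAlgebra ℂ G :=
    ext H ((Cfsg.Agent.Lib.Blocks.idem U : Subalgebra.center ℂ (MonoidAlgebra ℂ H)) :
      MonoidAlgebra ℂ H) with hzdef
  have hcoeff : ∀ g, z.coeff g = ∑ f ∈ S, Cfsg.subgroupBlockCoeff H (toSet f) g := by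
    intro g
    by_cases hg : g ∈ H
    · refine (coeff_ext H _ ⟨g, hg⟩).trans ?_
      rw [Cfsg.Agent.Lib.Blocks.coeff_idem, hU, blockCoeff_union]
      exact Finset.sum_congr rfl fun f _ => (subgroupBlockCoeff_of_mem _ ⟨g, hg⟩).symm
    · rw [hzdef, coeff_ext_of_notMem H _ hg]
      exact (Finset.sum_eq_zero fun f _ => subgroupBlockCoeff_of_notMem _ hg).symm
  have hidem : IsIdempotentElem z := by
    refine IsIdempotentElem.map ?_ (ext H)
    show _ * _ = _
    rw [← Subalgebra.coe_mul, Cfsg.Agent.Lib.Blocks.idem_mul_idem, Set.inter_self]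
  have hbl : ∀ f ∈ S, ∀ g, Cfsg.subgroupBlockCoeff H (toSet f) g ∈ localRing M := fun f _ g =>
    subgroupBlockCoeff_mem (isPBlock_toSet f) g
  have hloc : ∀ g, z.coeff g ∈ localRing M := fun g => by
    rw [hcoeff]
    exact sum_mem fun f hf => hbl f hf g
  rw [← hcoeff]
  refine blockCoeff_eq_of_lift hB z hidem hloc (fun u g => ?_) (fun g => ?_) g
  · rw [hcoeff, hcoeff]
    refine (Finset.sum_bij (fun f _ => cBlk u H H (hH u) f) (fun f hf => hS u f hf) ?_ ?_ ?_).symm
    · intro a _ b _ hab
      have h2 := congrArg (bext H) hab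
      rw [bext_cBlk, bext_cBlk] at h2
      exact bext_injective H ((conjA u).injective h2)
    · intro f hf
      refine ⟨cBlk u⁻¹ H H (hH u⁻¹) f, hS _ f hf, bext_injective H ?_⟩
      rw [bext_cBlk, bext_cBlk, ← conjA_mul, mul_inv_cancel, conjA_one]
    · intro f _
      exact (subgroupBlockCoeff_conj_normal H u (hH u) f g).symm
  · rw [hres, MonoidAlgebra.coeff_sum, Finsupp.finsetSum_apply]
    have he : (⟨z.coeff g, hloc g⟩ : localRing M) = ∑ f ∈ S.attach,
        (⟨Cfsg.subgroupBlockCoeff H (toSet f.1) g, hbl f.1 f.2 g⟩ : localRing M) := by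
      apply Subtype.ext
      rw [AddSubmonoidClass.coe_finsetSum]
      exact (hcoeff g).trans (Finset.sum_attach S _).symm
    rw [he, map_sum, ← Finset.sum_attach S (fun f => (bext H f).coeff g)]
    refine Finset.sum_congr rfl fun f _ => ?_
    have := coeff_bext (isPBlock_toSet (M := M) f.1) g
    rw [blk_toSet] at this
    exact this.symm

variable {p : ℕ} [Fact p.Prime] [CharP (Res M) p]

/-- For a normal p-subgroup the block idempotent is exactly the sum of the idempotents of the
blocks of `C(P)` that form pairs with `P`. -/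
theorem blockCoeff_eq_sum_normal {B : Set (Cfsg.IrrCharacter G)} (hB : Cfsg.IsPBlock M B)
    {P : Subgroup G} [P.Normal] (hP : IsPGroup p P)
    [Fintype (Blk (Res M) (Subgroup.centralizer (P : Set G)))]
    [DecidablePred fun f : Blk (Res M) (Subgroup.centralizer (P : Set G)) =>
      val P f (bidem (blk hB)) = 1] (g : G) :
    Cfsg.blockCoeff B g = ∑ f ∈ Finset.univ.filter
      (fun f : Blk (Res M) (Subgroup.centralizer (P : Set G)) => val P f (bidem (blk hB)) = 1),
      Cfsg.subgroupBlockCoeff _ (toSet f) g := by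
  classical
  refine blockCoeff_eq_sum_subgroup hB _ (mem_centralizer_iff_of_normal P) _ ?_ ?_ g
  · intro u f hf
    rw [Finset.mem_filter] at hf ⊢
    refine ⟨Finset.mem_univ _, ?_⟩
    have hz := bidem_mem (blk hB)
    have h1 := val_cBlk u P P (mem_centralizer_iff_of_normal P u) f (bidem (blk hB))
      (isFixedBy_of_mem_center _ hz)
      (by rw [conjA_eq_of_mem_center hz]; exact isFixedBy_of_mem_center _ hz)
    rw [conjA_eq_of_mem_center hz] at h1
    exact h1.trans hf.2
  · refine (bidem_eq_ext_br hP (blk hB)).trans ?_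
    have hC : IsFixedBy (Subgroup.centralizer (P : Set G)) (bidem (blk hB)) :=
      isFixedBy_of_mem_center _ (bidem_mem _)
    set y : ZAlg (Res M) (Subgroup.centralizer (P : Set G)) :=
      ⟨br P (bidem (blk hB)), br_mem_center hC⟩ with hy
    have hyi : IsIdempotentElem y :=
      Subtype.ext (br_isIdem hP (bidem_isIdem _) (isFixedBy_of_mem_center _ (bidem_mem _)))
    have h2 := congrArg (fun z : ZAlg (Res M) (Subgroup.centralizer (P : Set G)) =>
      ext (Subgroup.centralizer (P : Set G)) (z : MonoidAlgebra (Res M) _)) (eq_sum_idem (k := Res M) hyi)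
    simp only [AddSubmonoidClass.coe_finsetSum, map_sum] at h2
    refine h2.trans (Finset.sum_congr ?_ fun _ _ => rfl)
    ext f
    simp only [Finset.mem_filter, Finset.mem_univ, true_and]
    rw [val_eq f hC]

/-- The coefficients of a block idempotent vanish outside `C(P)`, `P` a normal p-subgroup. -/
theorem blockCoeff_eq_zero_of_normal {B : Set (Cfsg.IrrCharacter G)} (hB : Cfsg.IsPBlock M B)
    {P : Subgroup G} [P.Normal] (hP : IsPGroup p P) {g : G}
    (hg : g ∉ Subgroup.centralizer (P : Set G)) : Cfsg.blockCoeff B g = 0 := by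
  classical
  haveI := Fintype.ofFinite (Blk (Res M) (Subgroup.centralizer (P : Set G)))
  rw [blockCoeff_eq_sum_normal hB hP]
  exact Finset.sum_eq_zero fun f _ => subgroupBlockCoeff_of_notMem _ hg

end Exact

end Cfsg.Agent.Lib.BrauerPairs.Lift
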