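import Mathlib
import Cfsg.Agent.Lib.BrauerPairs.Embed
import Cfsg.Agent.Lib.BrauerPairs.Lift

/-!
# The block of the stabiliser of a pair

The pairs of a block at a normal p-subgroup form one orbit.  The idempotent of a pair is a block
idempotent of its stabiliser, exactly over the complex numbers.
-/

set_option autoImplicit false
set_option linter.style.haveILetI false

namespace Cfsg.Agent.Lib.BrauerPairs.Stabilizer

open MonoidAlgebra Cfsg.Agent.Lib.BrauerMap.Basic
open Cfsg.Agent.Lib.Blocks (localRing residue)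
open Cfsg.Agent.Lib.BrauerPairs.Center Cfsg.Agent.Lib.BrauerPairs.Trunc
open Cfsg.Agent.Lib.BrauerPairs.Conj Cfsg.Agent.Lib.BrauerPairs.Pairs
open Cfsg.Agent.Lib.BrauerPairs.Transport Cfsg.Agent.Lib.BrauerPairs.Maximal
open Cfsg.Agent.Lib.BrauerPairs.Bridge Cfsg.Agent.Lib.BrauerPairs.Embed
open Cfsg.Agent.Lib.BrauerPairs.Lift

universe u v

attribute [local instance] Ideal.Quotient.field

local notation "C[" P "]" => Subgroup.centralizer (SetLike.coe P)

section Kernel

variable {k : Type v} [Field k] [IsAlgClosed k] {G : Type u} [Group G] [Finite G]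
variable {p : ℕ} [Fact p.Prime] [CharP k p]

/-- The pairs of a block at a normal p-subgroup are conjugate. -/
theorem exists_conj_of_normal {ψ : Blk k G} {P : Subgroup G} [P.Normal]
    {ω f : Blk k C[P]} (h1 : PairOf p ψ ⟨P, ω⟩) (h2 : PairOf p ψ ⟨P, f⟩) :
    ∃ x : G, conjA x (bext C[P] ω) = bext C[P] f := by
  obtain ⟨b, hb, hab⟩ := exists_top_above ⟨P, f⟩ h2.1
  obtain ⟨x, hx⟩ := exists_le_conj_top h1 hb ((pairOf_iff_of_le hb.1 hab ψ).mp h2)
  refine ⟨x, ?_⟩
  have e : (cPair x (⟨P, ω⟩ : Idx k G)).1 = P :=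
    map_conj_eq_of_mem (by rw [Subgroup.normalizer_eq_top]; exact Subgroup.mem_top x)
  have key : ∀ a : Idx k G, a.1 = P → Le p a b → bext C[a.1] a.2 = bext C[P] f := by
    rintro ⟨Q, ν⟩ rfl h
    exact congrArg _ (le_unique hb.1 b.2 h hab)
  rw [← key _ e hx, bext_cPair]

end Kernel

section Exact

variable {M : Ideal Cfsg.AlgInt} [M.IsMaximal] {G : Type u} [Group G] [Finite G]

theorem subgroupBlockCoeff_down {T Q : Subgroup G} (hQ : Q ≤ T) (hC : C[Q] ≤ T)
    (ω : Blk (Res M) C[Q]) (t : T) :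
    Cfsg.subgroupBlockCoeff C[Q.subgroupOf T] (toSet (down hQ hC ω)) t =
      Cfsg.subgroupBlockCoeff C[Q] (toSet ω) (t : G) := by
  by_cases ht : (t : G) ∈ C[Q]
  · rw [show (t : G) = ((⟨(t : G), ht⟩ : C[Q]) : G) from rfl, subgroupBlockCoeff_of_mem]
    have ht' : t ∈ C[Q.subgroupOf T] := (mem_centralizer_subgroupOf_iff hQ t).mpr ht
    refine (subgroupBlockCoeff_of_mem (toSet (down hQ hC ω)) ⟨t, ht'⟩).trans ?_
    exact blockCoeff_transport (embEquiv hQ hC).symm ω ⟨t, ht⟩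
  · rw [subgroupBlockCoeff_of_notMem _ ht, subgroupBlockCoeff_of_notMem _
      (fun h => ht ((mem_centralizer_subgroupOf_iff hQ t).mp h))]

variable {p : ℕ} [Fact p.Prime] [CharP (Res M) p]

/-- The idempotent of a pair is a block idempotent of its stabiliser. -/
theorem exists_block_of_stable {T Q : Subgroup G} (hp : IsPGroup p Q) (hQ : Q ≤ T)
    (hC : C[Q] ≤ T) (hTN : T ≤ Subgroup.normalizer (Q : Set G))
    {f : Set (Cfsg.IrrCharacter C[Q])} (hf : Cfsg.IsPBlock M f)
    (hfix : IsFixedBy T (bext C[Q] (blk hf))) :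
    ∃ (F : Set (Cfsg.IrrCharacter T)) (hF : Cfsg.IsPBlock M F),
      (∀ t : T, Cfsg.blockCoeff F t = Cfsg.subgroupBlockCoeff C[Q] f (t : G)) ∧
      ext T (bidem (blk hF)) = bext C[Q] (blk hf) ∧
      PairOf p (blk hF) (⟨Q.subgroupOf T, down hQ hC (blk hf)⟩ : Idx (Res M) T) := by
  classical
  haveI : (Q.subgroupOf T).Normal := by
    constructor
    intro a ha g
    rw [Subgroup.mem_subgroupOf] at ha ⊢
    exact (Subgroup.mem_normalizer_iff.mp (hTN g.2) a).mp ha
  have hp' : IsPGroup p (Q.subgroupOf T) :=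
    hp.comap_of_injective T.subtype T.subtype_injective
  set ω := down hQ hC (blk hf) with hω
  let ψ : Blk (Res M) T := pairBlk (a := (⟨Q.subgroupOf T, ω⟩ : Idx (Res M) T)) hp'
  have hpair : PairOf p ψ (⟨Q.subgroupOf T, ω⟩ : Idx (Res M) T) := pairOf_iff.mpr ⟨hp', rfl⟩
  have hF : Cfsg.IsPBlock M (toSet ψ) := isPBlock_toSet ψ
  have hblk : blk hF = ψ := blk_toSet ψ hF
  have hext : ext T (bext C[Q.subgroupOf T] ω) = bext C[Q] (blk hf) := ext_bext_down hQ hC _
  have hstab : ∀ x : T, conjA x (bext C[Q.subgroupOf T] ω) = bext C[Q.subgroupOf T] ω := by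
    intro x
    refine (isFixedBy_iff (T.subgroupOf T) _).mp
      ((isFixedBy_ext_iff le_rfl _).mpr (by rw [hext]; exact hfix)) x x.2
  haveI := Fintype.ofFinite (Blk (Res M) C[Q.subgroupOf T])
  have hco : ∀ t : T, Cfsg.blockCoeff (toSet ψ) t = Cfsg.subgroupBlockCoeff C[Q] f (t : G) := by
    intro t
    rw [blockCoeff_eq_sum_normal hF hp']
    have hS : Finset.univ.filter (fun g : Blk (Res M) C[Q.subgroupOf T] =>
        val (Q.subgroupOf T) g (bidem (blk hF)) = 1) = {ω} := by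
      ext g
      simp only [Finset.mem_filter, Finset.mem_univ, true_and, Finset.mem_singleton, hblk]
      refine ⟨fun hg => ?_, fun hg => hg ▸ hpair.2⟩
      obtain ⟨x, hx⟩ := exists_conj_of_normal hpair (⟨hp', hg⟩ : PairOf p ψ ⟨_, g⟩)
      exact bext_injective _ (hx.symm.trans (hstab x))
    rw [hS, Finset.sum_singleton, hω, subgroupBlockCoeff_down, toSet_blk]
  refine ⟨toSet ψ, hF, hco, ?_, hblk.symm ▸ hpair⟩
  ext g
  by_cases hg : g ∈ T
  · refine (coeff_ext T _ ⟨g, hg⟩).trans ((coeff_bidem hF ⟨g, hg⟩).trans ?_)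
    rw [coeff_bext hf g]
    exact congrArg (residue M) (Subtype.ext (hco ⟨g, hg⟩))
  · rw [coeff_ext_of_notMem T _ hg, bext, coeff_ext_of_notMem _ _ (fun h => hg (hC h))]

end Exact

end Cfsg.Agent.Lib.BrauerPairs.Stabilizer
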