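import Mathlib
import Cfsg.Prelude.Def_BlockFusion
import Cfsg.Agent.Lib.Brauer.Induction
import Cfsg.Agent.Lib.BrauerPairs.Extend
import Cfsg.Agent.Lib.BrauerPairs.Stabilizer

/-!
# The fusion system of a block on a maximal pair

Its criteria for fully normalized and fully centralized subgroups, saturation, and the nilpotent
case.
-/

set_option autoImplicit false
set_option linter.style.haveILetI false

namespace Cfsg.Agent.Lib.BrauerPairs.Fusion

open MonoidAlgebra Cfsg.Agent.Lib.BrauerMap.Basic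
open Cfsg.Agent.Lib.BrauerPairs.Center Cfsg.Agent.Lib.BrauerPairs.Trunc
open Cfsg.Agent.Lib.BrauerPairs.Conj Cfsg.Agent.Lib.BrauerPairs.Pairs
open Cfsg.Agent.Lib.BrauerPairs.Transport Cfsg.Agent.Lib.BrauerPairs.Maximal
open Cfsg.Agent.Lib.BrauerPairs.Bridge Cfsg.Agent.Lib.BrauerPairs.Local
open Cfsg.Agent.Lib.BrauerPairs.Extend Cfsg.Agent.Lib.BrauerPairs.Embed

universe u

attribute [local instance] Ideal.Quotient.field

variable {M : Ideal Cfsg.AlgInt} [M.IsMaximal] {G : Type u} [Group G] [Finite G]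

local notation "C[" P "]" => Subgroup.centralizer ((P : Subgroup G) : Set G)

section Bridge

theorem subpairLE_toSet_iff {p : ℕ} (c : Idx (Res M) G) {P : Subgroup G}
    {e : Set (Cfsg.IrrCharacter C[P])} (he : Cfsg.IsPBlock M e) :
    Cfsg.SubpairLE p M c.1 (toSet c.2) P e ↔ Le p c ⟨P, blk he⟩ := by
  obtain ⟨R, ν⟩ := c
  constructor
  · intro h
    have := (subpairLE_iff (isPBlock_toSet ν) he).mp h
    rwa [blk_toSet] at this
  · intro h
    have := subpairLE_of_le h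
    rwa [toSet_blk] at this

/-- The stabilizer as the statements give it. -/
theorem eq_stab {Q : Subgroup G} {f : Set (Cfsg.IrrCharacter C[Q])} (hf : Cfsg.IsPBlock M f)
    {T : Subgroup G}
    (hT : ∀ y : G, y ∈ T ↔ y ∈ Subgroup.normalizer (Q : Set G) ∧
      Cfsg.StabilizesBlock C[Q] f y) :
    T = stab (⟨Q, blk hf⟩ : Idx (Res M) G) := by
  ext y
  rw [hT, mem_stab_iff]
  refine and_congr_right fun hy => ?_
  rw [stabilizesBlock_iff hf hy, act_eq_iff]

/-- A block with the coefficients of `f` has the idempotent of the pair. -/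
theorem ext_bidem_of_coeff {T Q : Subgroup G} (hC : C[Q] ≤ T) {f : Set (Cfsg.IrrCharacter C[Q])}
    (hf : Cfsg.IsPBlock M f) {F : Set (Cfsg.IrrCharacter T)} (hF : Cfsg.IsPBlock M F)
    (h : ∀ t : T, Cfsg.blockCoeff F t = Cfsg.subgroupBlockCoeff C[Q] f (t : G)) :
    ext T (bidem (blk hF)) = bext C[Q] (blk hf) := by
  ext g
  by_cases hg : g ∈ T
  · refine (coeff_ext T _ ⟨g, hg⟩).trans ((coeff_bidem hF ⟨g, hg⟩).trans ?_)
    rw [coeff_bext hf g]
    exact congrArg (Cfsg.Agent.Lib.Blocks.residue M) (Subtype.ext (h ⟨g, hg⟩))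
  · rw [coeff_ext_of_notMem T _ hg, bext, coeff_ext_of_notMem _ _ (fun h => hg (hC h))]

end Bridge

variable {p : ℕ} [Fact p.Prime] [CharP (Res M) p]

/-- The block of a subgroup of the stabilizer. -/
theorem exists_block {a : Idx (Res M) G} (ha : IsPGroup p a.1) {K : Subgroup G} (hQ : a.1 ≤ K)
    (hC : C[a.1] ≤ K) (hK : K ≤ stab a) :
    ∃ F : Blk (Res M) K, ext K (bidem F) = bext C[a.1] a.2 := by
  obtain ⟨Q, ω⟩ := a
  have hf : Cfsg.IsPBlock M (toSet ω) := isPBlock_toSet ω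
  have hfix : IsFixedBy K (bext C[Q] (blk hf)) := by
    rw [blk_toSet]
    exact isFixedBy_mono hK (isFixedBy_stab (⟨Q, ω⟩ : Idx (Res M) G))
  obtain ⟨F, hF, -, hext, -⟩ := Stabilizer.exists_block_of_stable ha hQ hC
    (hK.trans (stab_le_normalizer _)) hf hfix
  exact ⟨blk hF, hext.trans (by rw [blk_toSet])⟩

omit [Fact p.Prime] [CharP (Res M) p] in
/-- Two pairs on the same subgroup below the same pair are equal. -/
theorem eq_of_le_of_le [Fact p.Prime] [CharP (Res M) p] {a a' b : Idx (Res M) G}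
    (hb : IsPGroup p b.1) (h1 : a.1 = a'.1) (h : Le p a b) (h' : Le p a' b) : a = a' := by
  obtain ⟨Q, ω⟩ := a
  obtain ⟨Q', ω'⟩ := a'
  simp only at h1
  subst h1
  rw [le_unique hb b.2 h h']

omit [Fact p.Prime] [CharP (Res M) p] in
/-- The maps of the fusion system on the maximal pair `b`. -/
def homs (p : ℕ) (b : Idx (Res M) G) (Q : Subgroup G) : Set (Q →* G) :=
  {φ | Q ≤ b.1 ∧ ∃ g : G, (∀ u : Q, φ u = g * (u : G) * g⁻¹) ∧
    ∃ ω : Blk (Res M) C[Q], Le p (⟨Q, ω⟩ : Idx (Res M) G) b ∧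
      Le p (cPair g (⟨Q, ω⟩ : Idx (Res M) G)) b}

theorem conjHom_apply (Q : Subgroup G) (g : G) (u : Q) :
    Cfsg.conjHom Q g u = g * (u : G) * g⁻¹ := rfl

theorem conjHom_range (Q : Subgroup G) (g : G) :
    (Cfsg.conjHom Q g).range = Q.map (MulAut.conj g).toMonoidHom := by
  rw [Cfsg.conjHom, MonoidHom.range_comp, Subgroup.range_subtype]

theorem range_eq_map {Q : Subgroup G} {φ : Q →* G} {g : G}
    (h : ∀ u : Q, φ u = g * (u : G) * g⁻¹) : φ.range = Q.map (MulAut.conj g).toMonoidHom := by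
  rw [show φ = Cfsg.conjHom Q g from MonoidHom.ext h, conjHom_range]

/-- The fusion system of a block on a maximal pair. -/
def fusion (b : Idx (Res M) G) (hb : IsPGroup p b.1) : Cfsg.FusionSystem b.1 where
  Hom := homs p b
  le_of_mem := by
    rintro Q φ ⟨hQ, g, hφ, ω, -, h⟩
    exact ⟨hQ, fun u => hφ u ▸ h.subgroup_le ⟨u, u.2, rfl⟩⟩
  injective_of_mem := by
    rintro Q φ ⟨-, g, hφ, -⟩ u v huv
    rw [hφ, hφ] at huv
    exact Subtype.ext (mul_left_cancel (mul_right_cancel huv))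
  conj_mem := by
    intro Q g hQ hg
    obtain ⟨ω, hω⟩ := exists_le_of_le hb b.2 Q hQ
    refine ⟨hQ, g, fun u => rfl, ω, hω, ?_⟩
    have := le_cPair g hω
    rwa [mem_stab.mp (le_stab_self hb hg)] at this
  comp_mem := by
    rintro Q R φ ψ ⟨hQ, g, hφ, ω, hω, hω'⟩ ⟨-, k, hψ, ν, hν, hν'⟩ h
    refine ⟨hQ, k * g, fun u => ?_, ω, hω, ?_⟩
    · show ψ (φ.codRestrict R h u) = k * g * (u : G) * (k * g)⁻¹
      rw [hψ]
      show k * φ u * k⁻¹ = _
      rw [hφ, mul_inv_rev]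
      simp only [mul_assoc]
    have hsub : (cPair g (⟨Q, ω⟩ : Idx (Res M) G)).1 ≤ R := by
      rintro _ ⟨u, hu, rfl⟩
      have := h ⟨u, hu⟩
      rwa [hφ] at this
    obtain ⟨μ, hμ⟩ := exists_le_of_le (hb.to_le hν.subgroup_le) ν _ hsub
    have e : cPair g (⟨Q, ω⟩ : Idx (Res M) G) = ⟨_, μ⟩ :=
      eq_of_le_of_le hb rfl hω' (hμ.trans hν)
    rw [cPair_mul, e]
    exact (le_cPair k hμ).trans hν'
  inv_mem := by
    rintro Q φ ⟨hQ, g, hφ, ω, hω, hω'⟩
    have he := range_eq_map hφ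
    have hle : φ.range ≤ b.1 := he ▸ hω'.subgroup_le
    obtain ⟨μ, hμ⟩ := exists_le_of_le hb b.2 φ.range hle
    refine ⟨Cfsg.conjHom φ.range g⁻¹, ⟨hle, g⁻¹, fun u => rfl, μ, hμ, ?_⟩, fun u => ?_⟩
    · rw [eq_of_le_of_le (a := (⟨φ.range, μ⟩ : Idx (Res M) G)) hb (by exact he) hμ hω',
        ← cPair_mul, inv_mul_cancel, cPair_one]
      exact hω
    · rw [conjHom_apply]
      show g⁻¹ * φ u * g⁻¹⁻¹ = u
      rw [hφ]
      simp [mul_assoc]

/-- The hypothesis that `F` has the maps of the block. -/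
def IsFusion (p : ℕ) (b : Idx (Res M) G) (F : Cfsg.FusionSystem b.1) : Prop :=
  ∀ Q : Subgroup G, F.Hom Q = homs p b Q

theorem isFusion_of_isBlockFusionSystemOn {B : Set (Cfsg.IrrCharacter G)} {P : Subgroup G}
    {e : Set (Cfsg.IrrCharacter C[P])} (he : Cfsg.IsPBlock M e) {F : Cfsg.FusionSystem P}
    (hF : Cfsg.IsBlockFusionSystemOn p M B P e F) :
    IsFusion p (⟨P, blk he⟩ : Idx (Res M) G) F := by
  intro Q
  ext φ
  rw [hF.2 Q φ]
  constructor
  · rintro ⟨hQ, g, hφ, -, f, hf1, hf2⟩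
    obtain ⟨hf, hle⟩ := exists_le_of_subpairLE he hf1
    refine ⟨hQ, g, hφ, blk hf, hle, ?_⟩
    rw [conjBlock_eq hf g] at hf2
    exact (subpairLE_toSet_iff (cPair g ⟨Q, blk hf⟩) he).mp hf2
  · rintro ⟨hQ, g, hφ, ω, hω, hω'⟩
    refine ⟨hQ, g, hφ, hω'.subgroup_le, toSet ω, ?_, ?_⟩
    · exact (subpairLE_toSet_iff (⟨Q, ω⟩ : Idx (Res M) G) he).mpr hω
    · rw [conjBlock_eq (isPBlock_toSet ω) g, blk_toSet]
      exact (subpairLE_toSet_iff (cPair g ⟨Q, ω⟩) he).mpr hω'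

theorem isBlockFusionSystemOn_fusion {B : Set (Cfsg.IrrCharacter G)} {P : Subgroup G}
    {e : Set (Cfsg.IrrCharacter C[P])} (he : Cfsg.IsPBlock M e)
    (hmax : Cfsg.IsMaximalBrauerPair p M B P e) (hP : IsPGroup p P) :
    Cfsg.IsBlockFusionSystemOn p M B P e (fusion (⟨P, blk he⟩ : Idx (Res M) G) hP) := by
  refine ⟨hmax, fun Q φ => ?_⟩
  constructor
  · rintro ⟨hQ, g, hφ, ω, hω, hω'⟩
    refine ⟨hQ, g, hφ, hω'.subgroup_le, toSet ω, ?_, ?_⟩
    · exact (subpairLE_toSet_iff (⟨Q, ω⟩ : Idx (Res M) G) he).mpr hω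
    · rw [conjBlock_eq (isPBlock_toSet ω) g, blk_toSet]
      exact (subpairLE_toSet_iff (cPair g ⟨Q, ω⟩) he).mpr hω'
  · rintro ⟨hQ, g, hφ, -, f, hf1, hf2⟩
    obtain ⟨hf, hle⟩ := exists_le_of_subpairLE he hf1
    refine ⟨hQ, g, hφ, blk hf, hle, ?_⟩
    rw [conjBlock_eq hf g] at hf2
    exact (subpairLE_toSet_iff (cPair g ⟨Q, blk hf⟩) he).mp hf2

section System

variable {b : Idx (Res M) G} {F : Cfsg.FusionSystem b.1}

theorem isConj_iff (hb : IsPGroup p b.1) (hF : IsFusion p b F) {a : Idx (Res M) G}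
    (ha : Le p a b) (R : Subgroup G) :
    F.IsConj a.1 R ↔ ∃ g : G, Le p (cPair g a) b ∧ a.1.map (MulAut.conj g).toMonoidHom = R := by
  constructor
  · rintro ⟨φ, hφ, rfl⟩
    rw [hF] at hφ
    obtain ⟨-, g, hg, ω, hω, hω'⟩ := hφ
    rw [eq_of_le_of_le (a := (⟨a.1, ω⟩ : Idx (Res M) G)) (a' := a) hb rfl hω ha] at hω'
    exact ⟨g, hω', (range_eq_map hg).symm⟩
  · rintro ⟨g, hg, rfl⟩
    refine ⟨Cfsg.conjHom a.1 g, ?_, conjHom_range _ _⟩
    rw [hF]
    exact ⟨ha.subgroup_le, g, fun _ => rfl, a.2, ha, hg⟩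

theorem isFullyCentralized_iff (hb : IsPGroup p b.1) (hF : IsFusion p b F) {a : Idx (Res M) G}
    (ha : Le p a b) :
    F.IsFullyCentralized a.1 ↔ ∀ g : G, Le p (cPair g a) b →
      Nat.card ↥(b.1.map (MulAut.conj g⁻¹).toMonoidHom ⊓ C[a.1]) ≤
        Nat.card ↥(b.1 ⊓ C[a.1]) := by
  constructor
  · rintro ⟨-, h⟩ g hg
    rw [card_conj_inf, map_conj_centralizer]
    exact h _ ((isConj_iff hb hF ha _).mpr ⟨g, hg, rfl⟩)
  · intro h
    refine ⟨ha.subgroup_le, fun R hR => ?_⟩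
    obtain ⟨g, hg, rfl⟩ := (isConj_iff hb hF ha R).mp hR
    have := h g hg
    rwa [card_conj_inf, map_conj_centralizer] at this

theorem isFullyNormalized_iff (hb : IsPGroup p b.1) (hF : IsFusion p b F) {a : Idx (Res M) G}
    (ha : Le p a b) :
    F.IsFullyNormalized a.1 ↔ ∀ g : G, Le p (cPair g a) b →
      Nat.card ↥(b.1.map (MulAut.conj g⁻¹).toMonoidHom ⊓ Subgroup.normalizer (a.1 : Set G)) ≤
        Nat.card ↥(b.1 ⊓ Subgroup.normalizer (a.1 : Set G)) := by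
  constructor
  · rintro ⟨-, h⟩ g hg
    rw [card_conj_inf, map_conj_normalizer]
    exact h _ ((isConj_iff hb hF ha _).mpr ⟨g, hg, rfl⟩)
  · intro h
    refine ⟨ha.subgroup_le, fun R hR => ?_⟩
    obtain ⟨g, hg, rfl⟩ := (isConj_iff hb hF ha R).mp hR
    have := h g hg
    rwa [card_conj_inf, map_conj_normalizer] at this

theorem inf_stab_eq {a c : Idx (Res M) G} (hc : IsPGroup p c.1) (h : Le p a c) :
    c.1 ⊓ stab a = c.1 ⊓ Subgroup.normalizer (a.1 : Set G) :=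
  le_antisymm (inf_le_inf_left _ (stab_le_normalizer a))
    (le_inf inf_le_left (inf_normalizer_le_stab hc h))

/-- Some conjugate of a pair below is fully normalized. -/
theorem exists_max_normalizer (hb : IsPGroup p b.1) {a : Idx (Res M) G} (ha : Le p a b) :
    ∃ g : G, Le p (cPair g a) b ∧ ∀ g' : G, Le p (cPair g' (cPair g a)) b →
      Nat.card ↥(b.1.map (MulAut.conj g'⁻¹).toMonoidHom ⊓
          Subgroup.normalizer ((cPair g a).1 : Set G)) ≤
        Nat.card ↥(b.1 ⊓ Subgroup.normalizer ((cPair g a).1 : Set G)) := by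
  classical
  letI := Fintype.ofFinite G
  obtain ⟨g, hg, hmax⟩ := Finset.exists_max_image
    (Finset.univ.filter fun g : G => Le p (cPair g a) b)
    (fun g => Nat.card ↥(b.1 ⊓ Subgroup.normalizer ((cPair g a).1 : Set G)))
    ⟨1, Finset.mem_filter.mpr ⟨Finset.mem_univ _, by rwa [cPair_one]⟩⟩
  refine ⟨g, (Finset.mem_filter.mp hg).2, fun g' hg' => ?_⟩
  rw [card_conj_inf, map_conj_normalizer]
  have := hmax (g' * g) (Finset.mem_filter.mpr ⟨Finset.mem_univ _, by rwa [cPair_mul]⟩)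
  rwa [cPair_mul] at this

variable {a : Idx (Res M) G}

/-- The action of the stabilizer on the subgroup. -/
noncomputable def autHom (a : Idx (Res M) G) : stab a →* MulAut a.1 :=
  a.1.normalizerMonoidHom.comp (Subgroup.inclusion (stab_le_normalizer a))

theorem autHom_apply (x : stab a) (u : a.1) :
    ((autHom a x u : a.1) : G) = (x : G) * (u : G) * (x : G)⁻¹ := rfl

theorem autHom_ker : (autHom a).ker = (C[a.1]).subgroupOf (stab a) := by
  rw [autHom, ← MonoidHom.comap_ker, Subgroup.normalizerMonoidHom_ker]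
  rfl

/-- An automorphism induced by an element stabilizing the pair is in the image of the stabilizer. -/
theorem mem_range_autHom {α : MulAut a.1} {g : G} (hg : g ∈ stab a)
    (h : ∀ u : a.1, ((α u : a.1) : G) = g * (u : G) * g⁻¹) : autHom a ⟨g, hg⟩ = α :=
  MulEquiv.ext fun u => Subtype.ext ((autHom_apply ⟨g, hg⟩ u).trans (h u).symm)

/-- An automorphism of the subgroup given by conjugation normalizes it. -/
theorem mem_normalizer_of_aut {Q : Subgroup G} {α : MulAut Q} {g : G}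
    (h : ∀ u : Q, ((α u : Q) : G) = g * (u : G) * g⁻¹) : g ∈ Subgroup.normalizer (Q : Set G) := by
  rw [Subgroup.mem_normalizer_iff_map_conj_eq]
  refine Subgroup.eq_of_le_of_card_ge ?_ (le_of_eq (card_map_conj g Q).symm)
  rintro _ ⟨u, hu, rfl⟩
  have h2 := (α ⟨u, hu⟩).2
  rwa [h] at h2

theorem autGroup_eq (hb : IsPGroup p b.1) (hF : IsFusion p b F) (ha : Le p a b) :
    F.autGroup a.1 = (autHom a).range := by
  rw [Cfsg.FusionSystem.autGroup]
  refine le_antisymm ((Subgroup.closure_le _).mpr ?_) ?_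
  · intro α hα
    rw [Set.mem_setOf_eq, hF] at hα
    obtain ⟨-, g, hg, ω, hω, hω'⟩ := hα
    rw [eq_of_le_of_le (a := (⟨a.1, ω⟩ : Idx (Res M) G)) (a' := a) hb rfl hω ha] at hω'
    have h : ∀ u : a.1, ((α u : a.1) : G) = g * (u : G) * g⁻¹ := hg
    have hN : (cPair g a).1 = a.1 :=
      Subgroup.mem_normalizer_iff_map_conj_eq.mp (mem_normalizer_of_aut h)
    exact ⟨⟨g, mem_stab.mpr (eq_of_le_of_le hb hN hω' ha)⟩, mem_range_autHom _ h⟩
  · rintro _ ⟨x, rfl⟩
    refine Subgroup.subset_closure ?_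
    rw [Set.mem_setOf_eq, hF]
    refine ⟨ha.subgroup_le, x, fun u => rfl, a.2, ha, ?_⟩
    rw [mem_stab.mp x.2]
    exact ha

theorem autInducedBy_eq (hb : IsPGroup p b.1) (ha : Le p a b) :
    Cfsg.autInducedBy b.1 a.1 = (b.1.subgroupOf (stab a)).map (autHom a) := by
  rw [Cfsg.autInducedBy]
  refine le_antisymm ((Subgroup.closure_le _).mpr ?_) ?_
  · rintro α ⟨g, hg, h⟩
    exact ⟨⟨g, inf_normalizer_le_stab hb ha ⟨hg, mem_normalizer_of_aut h⟩⟩, hg,
      mem_range_autHom _ h⟩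
  · rintro _ ⟨x, hx, rfl⟩
    exact Subgroup.subset_closure ⟨x, hx, fun u => rfl⟩

/-- The image of the normalizer in a fully normalized subgroup is a Sylow subgroup of the
automizer. -/
theorem not_dvd_index_autHom (hb : Top p b) (ha : Le p a b)
    (hmax : ∀ g : G, Le p (cPair g a) b →
      Nat.card ↥(b.1.map (MulAut.conj g⁻¹).toMonoidHom ⊓ Subgroup.normalizer (a.1 : Set G)) ≤
        Nat.card ↥(b.1 ⊓ Subgroup.normalizer (a.1 : Set G))) :
    ¬ p ∣ ((b.1.subgroupOf (stab a)).map (autHom a).rangeRestrict).index := by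
  have hap : IsPGroup p a.1 := hb.1.to_le ha.subgroup_le
  obtain ⟨F₀, hF₀⟩ := exists_block hap (le_stab_self hap) (centralizer_le_stab a) le_rfl
  have S : Setup p a (stab a) F₀ :=
    ⟨hap, centralizer_le_stab a, stab_le_normalizer a, Or.inl (le_stab_self hap), hF₀⟩
  have hdef : IsDef p F₀ ((b.1 ⊓ stab a).subgroupOf (stab a)) := by
    rw [S.isDef_inf_iff hb ha]
    intro g hg
    rw [inf_stab_eq hb.1 ha]
    exact (Nat.le_of_dvd Nat.card_pos (Subgroup.card_dvd_of_le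
      (inf_le_inf_left _ (stab_le_normalizer a)))).trans (hmax g hg)
  rw [Subgroup.inf_subgroupOf_right] at hdef
  have h := not_dvd_index_sup a (stab a) rfl F₀ hF₀ hap hdef
  rw [Subgroup.index_map, MonoidHom.range_eq_top.mpr (autHom a).rangeRestrict_surjective,
    Subgroup.index_top, mul_one, MonoidHom.ker_rangeRestrict, autHom_ker, sup_comm]
  exact h

theorem exists_sylow_of_eq {A : Type u} [Group A] [Finite A] {B : Type u} [Group B] (π : A →* B)
    (D : Subgroup A) (hD : IsPGroup p D) (hidx : ¬ p ∣ (D.map π.rangeRestrict).index)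
    {X Z : Subgroup B} (hX : X = π.range) (hZ : Z = D.map π) :
    ∃ R : Sylow p X, (R : Subgroup X) = Z.subgroupOf X := by
  subst hX hZ
  refine ⟨(hD.map π.rangeRestrict).toSylow hidx, ?_⟩
  rw [IsPGroup.toSylow_coe]
  have e : (D.map π.rangeRestrict).map π.range.subtype = D.map π := by
    rw [Subgroup.map_map]
    rfl
  conv_rhs => rw [← e]
  exact (Subgroup.comap_map_eq_self_of_injective π.range.subtype_injective _).symm

/-- A fully normalized subgroup is fully automized. -/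
theorem isFullyAutomized (hb : Top p b) (hF : IsFusion p b F) (ha : Le p a b)
    (hmax : ∀ g : G, Le p (cPair g a) b →
      Nat.card ↥(b.1.map (MulAut.conj g⁻¹).toMonoidHom ⊓ Subgroup.normalizer (a.1 : Set G)) ≤
        Nat.card ↥(b.1 ⊓ Subgroup.normalizer (a.1 : Set G))) :
    F.IsFullyAutomized p a.1 :=
  ⟨ha.subgroup_le, exists_sylow_of_eq (autHom a) (b.1.subgroupOf (stab a))
    (hb.1.comap_of_injective _ (stab a).subtype_injective) (not_dvd_index_autHom hb ha hmax)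
    (autGroup_eq hb.1 hF ha) (autInducedBy_eq hb.1 ha)⟩

/-- A conjugation whose transport lies in `C(Q) N_P(Q)` extends. -/
theorem exists_extension (hb : Top p b) (ha : Le p a b)
    (hmax : ∀ g : G, Le p (cPair g a) b →
      Nat.card ↥(b.1.map (MulAut.conj g⁻¹).toMonoidHom ⊓ Subgroup.normalizer (a.1 : Set G)) ≤
        Nat.card ↥(b.1 ⊓ Subgroup.normalizer (a.1 : Set G)))
    {c : Idx (Res M) G} (hc : Le p c b) {g : G} (hg : cPair g c = a) {N : Subgroup G}
    (hcN : c.1 ≤ N) (hN : N ≤ b.1 ⊓ Subgroup.normalizer (c.1 : Set G))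
    (himg : ∀ n ∈ N, g * n * g⁻¹ ∈ C[a.1] ⊔ (b.1 ⊓ Subgroup.normalizer (a.1 : Set G))) :
    ∃ μ : Blk (Res M) C[N], Le p (⟨N, μ⟩ : Idx (Res M) G) b ∧
      ∃ z ∈ C[a.1], Le p (cPair (z * g) (⟨N, μ⟩ : Idx (Res M) G)) b := by
  have hap : IsPGroup p a.1 := hb.1.to_le ha.subgroup_le
  obtain ⟨μ, hμ⟩ := exists_le_of_le hb.1 b.2 N (hN.trans inf_le_left)
  obtain ⟨ω, hω, -⟩ := existsUnique_step (hb.1.to_le (hN.trans inf_le_left)) hcN
    (hN.trans inf_le_right) μ
  have hωc : (⟨c.1, ω⟩ : Idx (Res M) G) = c :=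
    eq_of_le_of_le hb.1 rfl (Relation.ReflTransGen.head hω hμ) hc
  have hstep : Step p c.1 c.2 N μ := by
    have e : ω = c.2 := eq_of_heq (Sigma.mk.inj_iff.mp hωc).2
    rwa [← e]
  have h2 := step_cPair g (a := c) (b := ⟨N, μ⟩) hstep
  rw [hg] at h2
  set K := C[a.1] ⊔ (b.1 ⊓ Subgroup.normalizer (a.1 : Set G))
  have hK : K ≤ stab a := sup_le (centralizer_le_stab a) (inf_normalizer_le_stab hb.1 ha)
  obtain ⟨F₀, hF₀⟩ := exists_block hap
    ((le_inf ha.subgroup_le Subgroup.le_normalizer).trans le_sup_right : a.1 ≤ K) le_sup_left hK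
  have hsub : (cPair g (⟨N, μ⟩ : Idx (Res M) G)).1 ≤ K := by
    rintro _ ⟨n, hn, rfl⟩
    exact himg n hn
  obtain ⟨z, hz, hle⟩ := exists_centralizer_conj hb ha hmax K rfl F₀ hF₀ h2 hsub
  exact ⟨μ, hμ, z, hz, by rwa [cPair_mul]⟩

/-- A fully normalized subgroup is receptive. -/
theorem isReceptive (hb : Top p b) (hF : IsFusion p b F) (ha : Le p a b)
    (hmax : ∀ g : G, Le p (cPair g a) b →
      Nat.card ↥(b.1.map (MulAut.conj g⁻¹).toMonoidHom ⊓ Subgroup.normalizer (a.1 : Set G)) ≤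
        Nat.card ↥(b.1 ⊓ Subgroup.normalizer (a.1 : Set G))) :
    F.IsReceptive a.1 := by
  refine ⟨ha.subgroup_le, fun R φ hφ hrange => ?_⟩
  rw [hF] at hφ
  obtain ⟨hR, g, hg, ω, hω, hω'⟩ := hφ
  have hga : cPair g (⟨R, ω⟩ : Idx (Res M) G) = a :=
    eq_of_le_of_le hb.1 ((range_eq_map hg).symm.trans hrange) hω' ha
  have hN : Cfsg.FusionSystem.extender b.1 R φ ≤ b.1 ⊓ Subgroup.normalizer (R : Set G) :=
    (Subgroup.closure_le _).mpr fun n hn => ⟨hn.1, hn.2.1⟩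
  have hRN : R ≤ Cfsg.FusionSystem.extender b.1 R φ := fun r hr =>
    Subgroup.subset_closure ⟨hR hr, Subgroup.le_normalizer hr, φ ⟨r, hr⟩,
      ha.subgroup_le (hrange ▸ ⟨⟨r, hr⟩, rfl⟩), fun x hx => by
        rw [← map_inv, ← map_mul, ← map_mul]
        rfl⟩
  have himg : ∀ n ∈ Cfsg.FusionSystem.extender b.1 R φ,
      g * n * g⁻¹ ∈ C[a.1] ⊔ (b.1 ⊓ Subgroup.normalizer (a.1 : Set G)) := by
    intro n hn
    refine (show Cfsg.FusionSystem.extender b.1 R φ ≤
      (C[a.1] ⊔ (b.1 ⊓ Subgroup.normalizer (a.1 : Set G))).comap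
        (MulAut.conj g).toMonoidHom from (Subgroup.closure_le _).mpr ?_) hn
    rintro n ⟨hnb, hnN, h, hhb, hh⟩
    have hmem : ∀ x : R, n * (x : G) * n⁻¹ ∈ R := fun x =>
      (Subgroup.mem_normalizer_iff.mp hnN x).mp x.2
    have key : ∀ q : G, q ∈ a.1 → ∃ x : R, φ x = q := fun q hq => by
      rw [← hrange] at hq
      exact hq
    have hhN : h ∈ Subgroup.normalizer (a.1 : Set G) := by
      rw [Subgroup.mem_normalizer_iff_map_conj_eq]
      refine Subgroup.eq_of_le_of_card_ge ?_ (le_of_eq (card_map_conj h a.1).symm)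
      rintro _ ⟨q, hq, rfl⟩
      obtain ⟨x, rfl⟩ := key q hq
      show h * φ x * h⁻¹ ∈ a.1
      rw [← hh x (hmem x), ← hrange]
      exact ⟨_, rfl⟩
    show g * n * g⁻¹ ∈ C[a.1] ⊔ (b.1 ⊓ Subgroup.normalizer (a.1 : Set G))
    rw [show g * n * g⁻¹ = h * (h⁻¹ * (g * n * g⁻¹)) by rw [mul_inv_cancel_left]]
    refine mul_mem (Subgroup.mem_sup_right ⟨hhb, hhN⟩) (Subgroup.mem_sup_left ?_)
    intro q hq
    obtain ⟨x, rfl⟩ := key q hq
    have h1 := hh x (hmem x)
    rw [hg, hg] at h1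
    simp only at h1
    rw [hg]
    calc g * (x : G) * g⁻¹ * (h⁻¹ * (g * n * g⁻¹))
        = h⁻¹ * (h * (g * (x : G) * g⁻¹) * h⁻¹) * (g * n * g⁻¹) := by group
      _ = h⁻¹ * (g * (n * (x : G) * n⁻¹) * g⁻¹) * (g * n * g⁻¹) := by rw [← h1]
      _ = h⁻¹ * (g * n * g⁻¹) * (g * (x : G) * g⁻¹) := by group
  obtain ⟨μ, hμ, z, hz, hle⟩ := exists_extension hb ha hmax hω hga hRN hN himg
  refine ⟨Cfsg.conjHom _ (z * g), ?_, fun x hP hN' => ?_⟩
  · rw [hF]
    exact ⟨hN.trans inf_le_left, z * g, fun _ => rfl, μ, hμ, hle⟩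
  · rw [conjHom_apply, hg]
    have hq : g * x * g⁻¹ ∈ a.1 := by
      rw [← hrange]
      exact ⟨⟨x, hP⟩, hg _⟩
    have hc := hz _ hq
    show z * g * x * (z * g)⁻¹ = g * x * g⁻¹
    calc z * g * x * (z * g)⁻¹ = z * (g * x * g⁻¹) * z⁻¹ := by group
      _ = g * x * g⁻¹ := by rw [← hc]; group

/-- The fusion system of a block is saturated. -/
theorem isSaturated (hb : Top p b) (hF : IsFusion p b F) : F.IsSaturated p := by
  intro R hR
  obtain ⟨ω, hω⟩ := exists_le_of_le hb.1 b.2 R hR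
  obtain ⟨g, hg, hmax⟩ := exists_max_normalizer hb.1 hω
  exact ⟨_, (isConj_iff hb.1 hF hω _).mpr ⟨g, hg, rfl⟩, isFullyAutomized hb hF hg hmax,
    isReceptive hb hF hg hmax⟩

/-- The block is nilpotent, in terms of pairs. -/
def Nilp (p : ℕ) (ψ : Blk (Res M) G) : Prop :=
  ∀ a : Idx (Res M) G, PairOf p ψ a → ∀ x ∈ stab a, ¬ p ∣ orderOf x → x ∈ C[a.1]

omit [Fact p.Prime] [CharP (Res M) p] in
theorem isNilpotentBlock_iff [Fact p.Prime] [CharP (Res M) p] {B : Set (Cfsg.IrrCharacter G)}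
    (hB : Cfsg.IsPBlock M B) : Cfsg.IsNilpotentBlock p M B ↔ Nilp p (blk hB) := by
  constructor
  · rintro ⟨-, h⟩ ⟨Q, ω⟩ hpair x hx hreg
    obtain ⟨hxN, hxfix⟩ := mem_stab_iff.mp hx
    refine h Q (toSet ω) ((isBrauerPairOf_iff hB (isPBlock_toSet ω)).mpr (by rwa [blk_toSet]))
      x hxN ?_ hreg
    rw [stabilizesBlock_iff (isPBlock_toSet ω) hxN, blk_toSet, act_eq_iff]
    exact hxfix
  · intro h
    refine ⟨hB, fun Q e hQe x hxN hst hreg => ?_⟩
    have he := hQe.1.2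
    refine h ⟨Q, blk he⟩ ((isBrauerPairOf_iff hB he).mp hQe) x
      (mem_stab_iff.mpr ⟨hxN, ?_⟩) hreg
    rwa [stabilizesBlock_iff he hxN, act_eq_iff] at hst

theorem isPGroup_range {ψ : Blk (Res M) G} (hnil : Nilp p ψ) (ha : PairOf p ψ a) :
    IsPGroup p (autHom a).range := by
  rw [IsPGroup.iff_orderOf]
  rintro ⟨_, x, rfl⟩
  obtain ⟨u, v, huv, -, ⟨j, hu⟩, hv, -, -⟩ :=
    Cfsg.Agent.Lib.Brauer.Induction.exists_pParts p Fact.out x
  have hv1 : autHom a v = 1 := by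
    have : v ∈ (autHom a).ker := by
      rw [autHom_ker]
      exact hnil a ha v v.2 (by rwa [Subgroup.orderOf_coe])
    exact this
  have hx : autHom a x = autHom a u := by rw [← huv, map_mul, hv1, mul_one]
  have hdvd : orderOf (autHom a x) ∣ p ^ j := by
    rw [hx, ← hu]
    exact orderOf_map_dvd _ _
  obtain ⟨i, -, hi⟩ := (Nat.dvd_prime_pow Fact.out).mp hdvd
  exact ⟨i, by rw [← hi, ← Subgroup.orderOf_coe]⟩

/-- In a nilpotent block the stabilizer of a fully normalized pair is `C(Q) N_P(Q)`. -/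
theorem stab_le_of_nilp {ψ : Blk (Res M) G} (hnil : Nilp p ψ) (hb : Top p b)
    (hψ : PairOf p ψ b) (ha : Le p a b)
    (hmax : ∀ g : G, Le p (cPair g a) b →
      Nat.card ↥(b.1.map (MulAut.conj g⁻¹).toMonoidHom ⊓ Subgroup.normalizer (a.1 : Set G)) ≤
        Nat.card ↥(b.1 ⊓ Subgroup.normalizer (a.1 : Set G))) :
    stab a ≤ C[a.1] ⊔ (b.1 ⊓ Subgroup.normalizer (a.1 : Set G)) := by
  have hp := not_dvd_index_autHom hb ha hmax
  obtain ⟨n, hn⟩ := IsPGroup.iff_card.mp (isPGroup_range hnil ((pairOf_iff_of_le hb.1 ha ψ).mpr hψ))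
  have htop : (b.1.subgroupOf (stab a)).map (autHom a).rangeRestrict = ⊤ := by
    rw [← Subgroup.index_eq_one]
    obtain ⟨i, -, hi⟩ := (Nat.dvd_prime_pow Fact.out).mp
      (hn ▸ Subgroup.index_dvd_card ((b.1.subgroupOf (stab a)).map (autHom a).rangeRestrict))
    rcases Nat.eq_zero_or_pos i with rfl | hi0
    · simpa using hi
    · exact absurd (hi ▸ dvd_pow_self p hi0.ne') hp
  intro x hx
  have : (autHom a).rangeRestrict ⟨x, hx⟩ ∈
      (b.1.subgroupOf (stab a)).map (autHom a).rangeRestrict := htop ▸ Subgroup.mem_top _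
  obtain ⟨u, hu, he⟩ := this
  have he' : autHom a u = autHom a ⟨x, hx⟩ := congrArg Subtype.val he
  have hk : u⁻¹ * ⟨x, hx⟩ ∈ (autHom a).ker := by
    rw [MonoidHom.mem_ker, map_mul, map_inv, he', inv_mul_cancel]
  rw [autHom_ker] at hk
  have hxe : x = (u : G) * ((u⁻¹ * ⟨x, hx⟩ : stab a) : G) := by simp
  rw [hxe]
  exact mul_mem (Subgroup.mem_sup_right ⟨hu, stab_le_normalizer a u.2⟩) (Subgroup.mem_sup_left hk)

/-- In a nilpotent block every map of the fusion system is inner. -/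
theorem exists_inner_of_nilp {ψ : Blk (Res M) G} (hnil : Nilp p ψ) (hb : Top p b)
    (hψ : PairOf p ψ b) :
    ∀ (a : Idx (Res M) G) (g : G), Le p a b → Le p (cPair g a) b →
      ∃ u ∈ b.1, ∀ q ∈ a.1, g * q * g⁻¹ = u * q * u⁻¹ := by
  suffices h : ∀ (n : ℕ) (a : Idx (Res M) G), Nat.card b.1 ≤ Nat.card a.1 + n →
      ∀ g : G, Le p a b → Le p (cPair g a) b →
        ∃ u ∈ b.1, ∀ q ∈ a.1, g * q * g⁻¹ = u * q * u⁻¹ from
    fun a g => h (Nat.card b.1) a (Nat.le_add_left _ _) g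
  intro n
  induction n using Nat.strong_induction_on with
  | _ n ih =>
  -- conjugations onto a fully normalized pair
  have key : ∀ (c a : Idx (Res M) G), Nat.card b.1 ≤ Nat.card c.1 + n → ∀ g : G, Le p c b →
      Le p a b → cPair g c = a →
      (∀ g' : G, Le p (cPair g' a) b →
        Nat.card ↥(b.1.map (MulAut.conj g'⁻¹).toMonoidHom ⊓ Subgroup.normalizer (a.1 : Set G)) ≤
          Nat.card ↥(b.1 ⊓ Subgroup.normalizer (a.1 : Set G))) →
      ∃ u ∈ b.1, ∀ q ∈ c.1, g * q * g⁻¹ = u * q * u⁻¹ := by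
    intro c a hcard g hc ha hga hmax
    have hst := stab_le_of_nilp hnil hb hψ ha hmax
    rcases eq_or_lt_of_le hc.subgroup_le with heq | hlt
    · -- both are the maximal pair
      have hcb : c = b := eq_of_le_of_le hb.1 heq hc Relation.ReflTransGen.refl
      subst hcb
      have hac : a.1 = c.1 := by
        refine Subgroup.eq_of_le_of_card_ge ha.subgroup_le ?_
        rw [← hga]
        exact (card_map_conj g c.1).ge
      have ha' : a = c := eq_of_le_of_le hb.1 hac ha Relation.ReflTransGen.refl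
      rw [ha'] at hga hst
      have hg : g ∈ stab c := mem_stab.mpr hga
      have hg2 := hst hg
      rw [sup_comm, ← SetLike.mem_coe, Subgroup.coe_mul_of_left_le_normalizer_right _ _
        (inf_le_right.trans (fun x hx => Subgroup.mem_normalizer_iff.mpr
          (mem_centralizer_conj_iff hx)))] at hg2
      obtain ⟨u, hu, z, hz, rfl⟩ := hg2
      refine ⟨u, hu.1, fun q hq => ?_⟩
      have hzq : z * q * z⁻¹ = q := by rw [← hz q hq]; group
      calc u * z * q * (u * z)⁻¹ = u * (z * q * z⁻¹) * u⁻¹ := by group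
        _ = _ := by rw [hzq]
    · set N := b.1 ⊓ Subgroup.normalizer (c.1 : Set G) with hN
      have hlt' : c.1 < N := lt_normalizer_inf hb.1 hlt
      have himg : ∀ x ∈ N, g * x * g⁻¹ ∈ C[a.1] ⊔ (b.1 ⊓ Subgroup.normalizer (a.1 : Set G)) := by
        intro x hx
        refine hst (mem_stab.mpr ?_)
        have h1 : cPair x c = c := mem_stab.mp (inf_normalizer_le_stab hb.1 hc hx)
        rw [← hga, ← cPair_mul, inv_mul_cancel_right, cPair_mul, h1]
      obtain ⟨μ, hμ, z, hz, hle⟩ := exists_extension hb ha hmax hc hga hlt'.le le_rfl himg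
      have hcN : Nat.card c.1 < Nat.card N := by
        by_contra h
        exact hlt'.ne (Subgroup.eq_of_le_of_card_ge hlt'.le (not_lt.mp h))
      obtain ⟨u, hu, h⟩ := ih (n - 1) (by
          have := Nat.card_pos (α := c.1)
          have : Nat.card c.1 < Nat.card b.1 := by
            by_contra h'
            exact hlt.ne (Subgroup.eq_of_le_of_card_ge hlt.le (not_lt.mp h'))
          omega) ⟨N, μ⟩ (by show Nat.card b.1 ≤ Nat.card N + (n - 1); omega) (z * g) hμ hle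
      refine ⟨u, hu, fun q hq => ?_⟩
      have hq' : g * q * g⁻¹ ∈ a.1 := by
        rw [← hga]
        exact ⟨q, hq, rfl⟩
      rw [← h q (hlt'.le hq)]
      calc g * q * g⁻¹ = z * (g * q * g⁻¹) * z⁻¹ := by rw [← hz _ hq']; group
        _ = _ := by group
  intro a hcard g ha hga
  obtain ⟨g₁, hg₁, hmax⟩ := exists_max_normalizer hb.1 hga
  obtain ⟨u₁, hu₁, h₁⟩ := key (cPair g a) (cPair g₁ (cPair g a))
    (by show _ ≤ Nat.card (a.1.map (MulAut.conj g).toMonoidHom) + n; rw [card_map_conj]; exact hcard)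
    g₁ hga hg₁ rfl hmax
  obtain ⟨u₂, hu₂, h₂⟩ := key a (cPair g₁ (cPair g a)) hcard (g₁ * g) ha hg₁
    (cPair_mul _ _ _) hmax
  refine ⟨u₁⁻¹ * u₂, mul_mem (inv_mem hu₁) hu₂, fun q hq => ?_⟩
  have h3 := h₁ (g * q * g⁻¹) ⟨q, hq, rfl⟩
  have h4 := h₂ q hq
  calc g * q * g⁻¹ = u₁⁻¹ * (u₁ * (g * q * g⁻¹) * u₁⁻¹) * u₁ := by group
    _ = u₁⁻¹ * (g₁ * (g * q * g⁻¹) * g₁⁻¹) * u₁ := by rw [h3]
    _ = u₁⁻¹ * (g₁ * g * q * (g₁ * g)⁻¹) * u₁ := by group
    _ = u₁⁻¹ * (u₂ * q * u₂⁻¹) * u₁ := by rw [h4]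
    _ = _ := by group

/-- If all maps are inner the block is nilpotent. -/
theorem nilp_of_inner {ψ : Blk (Res M) G} (hb : Top p b) (hψ : PairOf p ψ b)
    (h : ∀ (a : Idx (Res M) G) (g : G), Le p a b → Le p (cPair g a) b →
      ∃ u ∈ b.1, ∀ q ∈ a.1, g * q * g⁻¹ = u * q * u⁻¹) : Nilp p ψ := by
  intro a ha x hx hreg
  obtain ⟨c, hc⟩ := exists_le_conj_top ha hb hψ
  set a' := cPair c a with ha'
  have hstab : cPair (c * x * c⁻¹) a' = a' := by
    rw [ha', ← cPair_mul, inv_mul_cancel_right, cPair_mul, mem_stab.mp hx]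
  obtain ⟨u, hu, hconj⟩ := h a' (c * x * c⁻¹) hc (by rw [hstab]; exact hc)
  obtain ⟨j, hj⟩ := IsPGroup.iff_orderOf.mp hb.1 ⟨u, hu⟩
  rw [Subgroup.orderOf_mk] at hj
  have hy : c * x * c⁻¹ ∈ stab a' := mem_stab.mpr hstab
  have hu' : u ∈ stab a' := by
    refine inf_normalizer_le_stab hb.1 hc ⟨hu, Subgroup.mem_normalizer_iff.mpr fun q => ?_⟩
    constructor
    · intro hq
      rw [← hconj q hq]
      exact (Subgroup.mem_normalizer_iff.mp (stab_le_normalizer a' hy) q).mp hq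
    · intro hq
      have hn : c * x * c⁻¹ ∈ Subgroup.normalizer (a'.1 : Set G) := stab_le_normalizer a' hy
      obtain ⟨r, hr, hre⟩ : ∃ r ∈ a'.1, (c * x * c⁻¹) * r * (c * x * c⁻¹)⁻¹ = u * q * u⁻¹ := by
        refine ⟨(c * x * c⁻¹)⁻¹ * (u * q * u⁻¹) * (c * x * c⁻¹),
          (Subgroup.mem_normalizer_iff''.mp hn _).mp hq, by group⟩
      rw [hconj r hr] at hre
      exact mul_left_cancel (mul_right_cancel hre) ▸ hr
  have heq : autHom a' ⟨c * x * c⁻¹, hy⟩ = autHom a' ⟨u, hu'⟩ :=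
    MulEquiv.ext fun q => Subtype.ext (by rw [autHom_apply, autHom_apply]; exact hconj q q.2)
  have h1 : orderOf (autHom a' ⟨c * x * c⁻¹, hy⟩) ∣ orderOf x := by
    refine (orderOf_map_dvd _ _).trans ?_
    rw [← Subgroup.orderOf_coe]
    exact dvd_of_eq ((MulAut.conj c).orderOf_eq x)
  have h2 : orderOf (autHom a' ⟨c * x * c⁻¹, hy⟩) ∣ p ^ j := by
    rw [heq, ← hj]
    refine (orderOf_map_dvd _ _).trans ?_
    rw [← Subgroup.orderOf_coe]
  have h3 : autHom a' ⟨c * x * c⁻¹, hy⟩ = 1 := orderOf_eq_one_iff.mp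
    (Nat.eq_one_of_dvd_coprimes (((Fact.out : p.Prime).coprime_iff_not_dvd.mpr hreg).pow_left j)
      h2 h1)
  have h4 : c * x * c⁻¹ ∈ C[a'.1] := by
    have : (⟨c * x * c⁻¹, hy⟩ : stab a') ∈ (autHom a').ker := h3
    rw [autHom_ker] at this
    exact this
  exact (mem_centralizer_map_iff c a.1 x).mpr h4

end System

end Cfsg.Agent.Lib.BrauerPairs.Fusion
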