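import Mathlib
import Cfsg.Agent.Lib.BrauerPairs.Stabilizer

/-!
# Defect groups of the local blocks below a maximal pair

For a pair `(Q, f) ≤ (P, e)` with `(P, e)` maximal and a group `C(Q) ≤ H ≤ N(Q)` fixing `f`, the
intersection `P ⊓ H` lies in a defect group of the block of `H` with idempotent `f`, and each such
defect group moves into `P` by an element keeping the pair below `(P, e)`.
-/

set_option autoImplicit false
set_option linter.style.haveILetI false

namespace Cfsg.Agent.Lib.BrauerPairs.LocalDefect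

open MonoidAlgebra Cfsg.Agent.Lib.BrauerMap.Basic
open Cfsg.Agent.Lib.BrauerPairs.Center Cfsg.Agent.Lib.BrauerPairs.Trunc
open Cfsg.Agent.Lib.BrauerPairs.Conj Cfsg.Agent.Lib.BrauerPairs.Pairs
open Cfsg.Agent.Lib.BrauerPairs.Transport Cfsg.Agent.Lib.BrauerPairs.Maximal
open Cfsg.Agent.Lib.BrauerPairs.Embed

universe u v

variable {k : Type v} [Field k] [IsAlgClosed k] {G : Type u} [Group G] [Finite G]
variable {p : ℕ} [Fact p.Prime] [CharP k p]

local notation "C[" P "]" => Subgroup.centralizer (SetLike.coe P)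

omit [IsAlgClosed k] [Fact p.Prime] [CharP k p] in
theorem coeff_ne_zero_mem {H : Subgroup G} (a : MonoidAlgebra k H) {g : G}
    (h : (ext H a).coeff g ≠ 0) : g ∈ H := by
  by_contra hg
  exact h (coeff_ext_of_notMem H a hg)

omit [IsAlgClosed k] [Fact p.Prime] [CharP k p] in
theorem isFixedBy_self (Q : Subgroup G) (a : MonoidAlgebra k C[Q]) :
    IsFixedBy Q (ext C[Q] a) := by
  rw [isFixedBy_iff]
  intro u hu
  ext g
  rw [coeff_conjA]
  by_cases hg : g ∈ C[Q]
  · have e : u⁻¹ * g * u = g := by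
      rw [mul_assoc, (Subgroup.mem_centralizer_iff.mp hg u hu).symm, inv_mul_cancel_left]
    rw [e]
  · rw [coeff_ext_of_notMem _ _ hg, coeff_ext_of_notMem _ _ ?_]
    intro h
    apply hg
    have := (mem_centralizer_conj_iff (Subgroup.le_normalizer hu) _).mp h
    simpa [mul_assoc] using this

omit [IsAlgClosed k] [Fact p.Prime] [CharP k p] in
theorem isFixedBy_sup {A B : Subgroup G} {a : MonoidAlgebra k G} (hA : IsFixedBy A a)
    (hB : IsFixedBy B a) : IsFixedBy (A ⊔ B) a := by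
  rw [isFixedBy_iff] at *
  intro u hu
  let S : Subgroup G :=
    { carrier := {u | conjA u a = a}
      mul_mem' := fun {x y} hx hy => by
        show conjA (x * y) a = a
        rw [conjA_mul, hy, hx]
      one_mem' := conjA_one a
      inv_mem' := fun {x} hx => by
        show conjA x⁻¹ a = a
        conv_lhs => rw [← (hx : conjA x a = a)]
        rw [← conjA_mul, inv_mul_cancel, conjA_one] }
  exact (sup_le (fun x hx => hA x hx) (fun x hx => hB x hx) : A ⊔ B ≤ S) hu

/-- The step from a pair to the normalizer inside a larger pair. -/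
theorem exists_step_inf {a b : Idx k G} (hb : IsPGroup p b.1) (hle : Le p a b) :
    ∃ ν, Step p a.1 a.2 (b.1 ⊓ Subgroup.normalizer (a.1 : Set G)) ν := by
  obtain ⟨Q, f⟩ := a
  have hQN : Q ≤ b.1 ⊓ Subgroup.normalizer (Q : Set G) :=
    le_inf hle.subgroup_le Subgroup.le_normalizer
  obtain ⟨ν, hν⟩ := exists_le_of_le hb b.2 (b.1 ⊓ Subgroup.normalizer (Q : Set G)) inf_le_left
  obtain ⟨f', hf', -⟩ := existsUnique_step (p := p) (hb.to_le inf_le_left) hQN inf_le_right ν
  have : f' = f := le_unique hb b.2 (Relation.ReflTransGen.head hf' hν) hle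
  exact ⟨ν, this ▸ hf'⟩

/-- `P ⊓ H` lies in a defect group of the block of `H` that carries the idempotent of the pair. -/
theorem exists_inf_le_isDef {a b : Idx k G} (hb : IsPGroup p b.1) (hle : Le p a b)
    {H : Subgroup G} (hN : H ≤ Subgroup.normalizer (a.1 : Set G)) (φ : Blk k H)
    (hφ : ext H (bidem φ) = bext C[a.1] a.2) {R : Subgroup G} (hRb : R ≤ b.1) (hR : R ≤ H) :
    ∃ D : Subgroup H, IsDef p φ D ∧ R.subgroupOf H ≤ D := by
  obtain ⟨ν, hp, hQN, -, -, hval⟩ := exists_step_inf hb hle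
  have hne : br (b.1 ⊓ Subgroup.normalizer (a.1 : Set G)) (bext C[a.1] a.2) ≠ 0 := by
    intro h0
    rw [val_congr (b := 0) ν (h0.trans (br_zero _).symm),
      val_eq ν (isFixedBy_of_mem_center _ (Subalgebra.zero_mem _))] at hval
    exact zero_ne_one ((map_zero ν).symm.trans
      ((congrArg ν (Subtype.ext (br_zero _).symm)).trans hval))
  obtain ⟨g, hg, hgne⟩ : ∃ g ∈ C[b.1 ⊓ Subgroup.normalizer (a.1 : Set G)],
      (bext C[a.1] a.2).coeff g ≠ 0 := by
    by_contra h
    push Not at h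
    exact hne ((coeff_eq_zero_iff_br _).mpr h)
  rw [← hφ] at hgne
  have hgH := coeff_ne_zero_mem _ hgne
  have hgR : (⟨g, hgH⟩ : H) ∈ C[R.subgroupOf H] :=
    (mem_centralizer_subgroupOf_iff hR _).mpr (centralizer_anti (le_inf hRb (hR.trans hN)) hg)
  have hR' : IsPGroup p (R.subgroupOf H) :=
    (hb.to_le hRb).comap_of_injective H.subtype H.subtype_injective
  obtain ⟨ω, hω⟩ := exists_pairOf (ψ := φ) hR' hgR (by
    intro h0; exact hgne ((coeff_ext H _ ⟨g, hgH⟩).trans h0))
  obtain ⟨D, hD⟩ := exists_isDef (p := p) φ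
  obtain ⟨x, hx⟩ := exists_map_le_isDef hω hD
  refine ⟨_, hD.map_conj x⁻¹, fun r hr => ?_⟩
  exact ⟨x * r * x⁻¹, hx ⟨r, hr, rfl⟩, by simp [mul_assoc]⟩

/-- A defect group of the local block moves into `P` keeping the pair below `(P, e)`. -/
theorem exists_map_isDef_le {ψ : Blk k G} {a b : Idx k G} (hb : Top p b) (hψ : PairOf p ψ b)
    (hle : Le p a b) {H : Subgroup G} (hN : H ≤ Subgroup.normalizer (a.1 : Set G)) (φ : Blk k H)
    (hφ : ext H (bidem φ) = bext C[a.1] a.2) (hfix : IsFixedBy H (bext C[a.1] a.2))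
    {D : Subgroup H} (hD : IsDef p φ D) :
    ∃ x : G, Le p (cPair x a) b ∧
      (D.map H.subtype).map (MulAut.conj x).toMonoidHom ≤ b.1 := by
  obtain ⟨Q, f⟩ := a
  set E := D.map H.subtype with hE
  have hEH : E ≤ H := Subgroup.map_subtype_le D
  have hQ : IsPGroup p Q := hb.1.to_le hle.subgroup_le
  have hR : IsPGroup p (Q ⊔ E : Subgroup G) :=
    hQ.to_sup_of_normal_left' (hD.isPGroup.map _) (hEH.trans hN)
  have hRN : Q ⊔ E ≤ Subgroup.normalizer (Q : Set G) :=
    sup_le Subgroup.le_normalizer (hEH.trans hN)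
  have hfR : IsFixedBy (Q ⊔ E) (bext C[Q] f) :=
    isFixedBy_sup (isFixedBy_self Q _) (isFixedBy_mono hEH hfix)
  have hfC : IsFixedBy C[Q ⊔ E] (bext C[Q] f) :=
    isFixedBy_mono (centralizer_anti le_sup_left) (isFixedBy_bext _ f)
  obtain ⟨g0, hg0, -, S, hDS⟩ := hD
  have hgne : (bext C[Q] f).coeff (g0 : G) ≠ 0 := by
    rw [← hφ]
    intro h
    exact hg0 ((coeff_ext H _ g0).symm.trans h)
  have hgQ : (g0 : G) ∈ C[Q] := coeff_ne_zero_mem _ hgne
  have hgE : (g0 : G) ∈ C[E] := by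
    rw [Subgroup.mem_centralizer_iff]
    rintro _ ⟨d, hd, rfl⟩
    rw [hDS] at hd
    exact congrArg Subtype.val
      (Subgroup.mem_centralizer_singleton_iff.mp (Subgroup.map_subtype_le _ hd))
  have hgR : (g0 : G) ∈ C[Q ⊔ E] := by
    rw [Subgroup.mem_centralizer_iff]
    intro r hr
    have hle' : Q ⊔ E ≤ Subgroup.centralizer ({(g0 : G)} : Set G) :=
      sup_le (mem_centralizer_singleton_of hgQ) (mem_centralizer_singleton_of hgE)
    exact Subgroup.mem_centralizer_singleton_iff.mp (hle' hr)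
  set y : ZAlg k C[Q ⊔ E] := ⟨br (Q ⊔ E) (bext C[Q] f), br_mem_center hfC⟩ with hy
  obtain ⟨ν, hν⟩ := exists_apply_eq_one (k := k) (e := y)
    (Subtype.ext (br_isIdem hR (bext_isIdem _ f) hfR).eq) (by
      intro h0
      have h1 := (coeff_eq_zero_iff_br _).mp (congrArg Subtype.val h0) _ hgR
      exact hgne h1)
  have hstep : Step p Q f (Q ⊔ E) ν :=
    ⟨hR, le_sup_left, hRN, hfR, (val_eq ν hfC).trans hν⟩
  have hle' : Le p (⟨Q, f⟩ : Idx k G) ⟨Q ⊔ E, ν⟩ := Relation.ReflTransGen.single hstep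
  have hpair : PairOf p ψ (⟨Q ⊔ E, ν⟩ : Idx k G) :=
    (pairOf_iff_of_le hR hle' ψ).mp ((pairOf_iff_of_le hb.1 hle ψ).mpr hψ)
  obtain ⟨x, hx⟩ := exists_le_conj_top hpair hb hψ
  exact ⟨x, (le_cPair x hle').trans hx,
    (Subgroup.map_mono le_sup_right).trans hx.subgroup_le⟩

end Cfsg.Agent.Lib.BrauerPairs.LocalDefect
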