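import Cfsg.Agent.Lib.Blocks.DefectGroup
import Cfsg.Agent.Lib.Blocks.ContribRank
import Cfsg.Agent.Lib.BC78.Central
import Cfsg.Agent.Lib.BlocksChars5.Basic
import Cfsg.Agent.Lib.Characters.DefectZero
import Cfsg.Agent.Lib.Characters.Complete

/-!
# Blocks with central defect group

`avgReg`: the sum over a subgroup `Z` of the translates of the regular part of a function.
`exists_scalar`: in a block with central defect group, all regular parts are multiples of one of
them.
-/

set_option autoImplicit false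

namespace Cfsg.Agent.Lib.BrauerPairs.CentralRank

open scoped ComplexConjugate
open Cfsg.Agent.Lib Cfsg.Agent.Lib.Characters.Basic Cfsg.Agent.Lib.BlocksChars5.Basic
open Cfsg.Agent.Lib.Blocks.Contrib

universe u

variable {G : Type u} [Group G] [Fintype G] {p : ℕ}

/-- Sum of translates of the regular part. -/
noncomputable def avgReg (p : ℕ) (Z : Subgroup G) [Fintype Z] (χ : G → ℂ) : G → ℂ :=
  fun g => ∑ z : Z, if p ∣ orderOf ((z : G) * g) then 0 else χ ((z : G) * g)

theorem avgReg_classFun {Z : Subgroup G} [Fintype Z] (hZ : Z ≤ Subgroup.center G) {χ : G → ℂ}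
    (hχ : Cfsg.IsClassFunction G χ) : Cfsg.IsClassFunction G (avgReg p Z χ) := by
  intro g h
  refine Finset.sum_congr rfl fun z _ => ?_
  have e : (z : G) * (h * g * h⁻¹) = h * ((z : G) * g) * h⁻¹ := by
    have : h * (z : G) = (z : G) * h := Subgroup.mem_center_iff.mp (hZ z.2) h
    rw [← mul_assoc h, this]; group
  have ho : orderOf (h * ((z : G) * g) * h⁻¹) = orderOf ((z : G) * g) :=
    (MulAut.conj h).orderOf_eq _
  rw [e, ho, hχ ((z : G) * g) h]

theorem avgReg_mul {Z : Subgroup G} [Fintype Z] {χ : G → ℂ} {w : G} (hw : w ∈ Z) (g : G) :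
    avgReg p Z χ (w * g) = avgReg p Z χ g :=
  Fintype.sum_equiv (Equiv.mulRight (⟨w, hw⟩ : Z))
    (fun z : Z => if p ∣ orderOf ((z : G) * (w * g)) then 0 else χ ((z : G) * (w * g)))
    (fun z : Z => if p ∣ orderOf ((z : G) * g) then 0 else χ ((z : G) * g))
    (fun z => by simp [Equiv.mulRight, mul_assoc])

variable [Fact p.Prime]

theorem eq_one_of_regular {Z : Subgroup G} (hZp : IsPGroup p Z) (hZ : Z ≤ Subgroup.center G)
    {z s : G} (hz : z ∈ Z) (hs : ¬ p ∣ orderOf s) (hzs : ¬ p ∣ orderOf (z * s)) : z = 1 := by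
  have hp : p.Prime := Fact.out
  obtain ⟨k, hk⟩ := IsPGroup.iff_orderOf.mp hZp ⟨z, hz⟩
  rw [← Subgroup.orderOf_coe] at hk
  have hc : Commute (z * s) s⁻¹ := by
    have h1 : Commute z s := (Subgroup.mem_center_iff.mp (hZ hz) s).symm
    exact (h1.mul_left (Commute.refl s)).inv_right
  have hd : orderOf z ∣ orderOf (z * s) * orderOf s := by
    have := hc.orderOf_mul_dvd_mul_orderOf
    rwa [mul_inv_cancel_right, orderOf_inv] at this
  rcases k with _ | k
  · rwa [pow_zero, orderOf_eq_one_iff] at hk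
  · exfalso
    have hpd : p ∣ orderOf (z * s) * orderOf s :=
      (hk ▸ dvd_pow_self p (Nat.succ_ne_zero k)).trans hd
    rcases hp.dvd_mul.mp hpd with h | h
    · exact hzs h
    · exact hs h

theorem avgReg_regular {Z : Subgroup G} [Fintype Z] (hZp : IsPGroup p Z)
    (hZ : Z ≤ Subgroup.center G) (χ : G → ℂ) {s : G} (hs : ¬ p ∣ orderOf s) :
    avgReg p Z χ s = χ s := by
  rw [avgReg, Finset.sum_eq_single 1]
  · simp [hs]
  · intro z _ hz
    rw [if_pos]
    by_contra h
    exact hz (Subtype.ext (eq_one_of_regular hZp hZ z.2 hs h))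
  · intro h
    exact absurd (Finset.mem_univ _) h

omit [Fact p.Prime] in
/-- Inner products of the averaged function. -/
theorem sum_avgReg_mul_conj {Z : Subgroup G} [Fintype Z] (hZ : Z ≤ Subgroup.center G) (χ : G → ℂ)
    (ψ : Cfsg.IrrCharacter G) :
    ∑ g : G, avgReg p Z χ g * conj ((ψ : G → ℂ) g) =
      (∑ z : Z, conj ((ψ : G → ℂ) (z : G)⁻¹ / (ψ : G → ℂ) 1)) *
        Blocks.Contrib.regSum p χ (ψ : G → ℂ) := by
  classical
  simp only [avgReg, Finset.sum_mul]
  rw [Finset.sum_comm]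
  refine Finset.sum_congr rfl fun z _ => ?_
  rw [regSum_eq_sum, Finset.mul_sum]
  refine Fintype.sum_equiv (Equiv.mulLeft (z : G)) _ _ fun g => ?_
  rw [Equiv.coe_mulLeft]
  by_cases h : p ∣ orderOf ((z : G) * g)
  · simp [h]
  · rw [if_neg h, if_neg h, apply_inv (isCharacter_irr ψ) ((z : G) * g)]
    have e : (ψ : G → ℂ) g = (ψ : G → ℂ) (z : G)⁻¹ / (ψ : G → ℂ) 1 * (ψ : G → ℂ) ((z : G) * g) := by
      rw [← BC78.Central.char_mul_central ψ.2 (inv_mem (hZ z.2)), inv_mul_cancel_left]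
    conv_lhs => rw [e]
    rw [map_mul]
    ring

omit [Fact p.Prime] in
theorem classInner_avgReg {Z : Subgroup G} [Fintype Z] (hZ : Z ≤ Subgroup.center G) (χ : G → ℂ)
    (ψ : Cfsg.IrrCharacter G) (hker : Z ≤ charKer ψ) :
    Cfsg.classInner (avgReg p Z χ) ψ =
      (Nat.card G : ℂ)⁻¹ * ((Nat.card Z : ℂ) * Blocks.Contrib.regSum p χ (ψ : G → ℂ)) := by
  rw [Cfsg.classInner, sum_avgReg_mul_conj hZ]
  congr 2
  rw [Finset.sum_congr rfl (g := fun _ => (1 : ℂ))]
  · simp
  · intro z _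
    rw [show (ψ : G → ℂ) (z : G)⁻¹ = (ψ : G → ℂ) 1 from hker (inv_mem z.2),
      div_self (apply_one_ne_zero ψ), map_one]

omit [Fact p.Prime] in
theorem classInner_avgReg_eq_zero {Z : Subgroup G} [Fintype Z] (hZ : Z ≤ Subgroup.center G)
    (χ : G → ℂ) (ψ : Cfsg.IrrCharacter G) (hker : ¬ Z ≤ charKer ψ) :
    Cfsg.classInner (avgReg p Z χ) ψ = 0 := by
  obtain ⟨w, hw, hne⟩ := SetLike.not_le_iff_exists.mp hker
  have h1 : ∑ g : G, avgReg p Z χ g * conj ((ψ : G → ℂ) g) =
      conj ((ψ : G → ℂ) w / (ψ : G → ℂ) 1) *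
        ∑ g : G, avgReg p Z χ g * conj ((ψ : G → ℂ) g) := by
    rw [Finset.mul_sum]
    refine (Fintype.sum_equiv (Equiv.mulLeft w) _ _ fun g => ?_).symm
    rw [Equiv.coe_mulLeft, avgReg_mul hw, BC78.Central.char_mul_central ψ.2 (hZ hw) g, map_mul]
    ring
  have hc : conj ((ψ : G → ℂ) w / (ψ : G → ℂ) 1) ≠ 1 := by
    intro h
    apply hne
    have h2 := congrArg conj h
    rw [RingHomCompTriple.comp_apply, RingHom.id_apply, map_one,
      div_eq_one_iff_eq (apply_one_ne_zero ψ)] at h2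
    exact (mem_charKer ψ w).mpr h2
  rw [Cfsg.classInner]
  have h2 : (1 - conj ((ψ : G → ℂ) w / (ψ : G → ℂ) 1)) *
      ∑ g : G, avgReg p Z χ g * conj ((ψ : G → ℂ) g) = 0 := by linear_combination h1
  rcases mul_eq_zero.mp h2 with h | h
  · exact absurd (sub_eq_zero.mp h).symm hc
  · rw [h, mul_zero]

variable {M : Ideal Cfsg.AlgInt} [M.IsMaximal] (hM : Cfsg.IsPModular p M)
  {B : Set (Cfsg.IrrCharacter G)} (hB : Cfsg.IsPBlock M B) {Z : Subgroup G}
  (hD : Cfsg.IsDefectGroup p M B Z) (hZ : Z ≤ Subgroup.center G)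

include hM hB hD hZ

/-- A character of the block trivial on the central defect group has height zero and vanishes
outside the translates of the regular elements. -/
theorem avgReg_eq [Fintype Z] {θ : Cfsg.IrrCharacter G} (hθ : θ ∈ B) (hker : Z ≤ charKer θ) :
    vdeg p θ = minVdeg p B ∧ avgReg p Z (θ : G → ℂ) = (θ : G → ℂ) := by
  classical
  have hp : p.Prime := Fact.out
  have hZp : IsPGroup p Z := Blocks.isPGroup_isDefectGroup hD
  haveI : Z.Normal := ⟨fun n hn g => by
    rw [Subgroup.mem_center_iff.mp (hZ hn) g, mul_inv_cancel_right]; exact hn⟩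
  obtain ⟨θ', hθ'⟩ := exists_deflate θ Z hker
  haveI := Fintype.ofFinite (G ⧸ Z)
  have hdeg : Cfsg.charDegree (θ : G → ℂ) = Cfsg.charDegree (θ' : G ⧸ Z → ℂ) :=
    charDegree_congr (by rw [← hθ', inflate_apply, QuotientGroup.mk_one])
  have hdvd : Cfsg.charDegree (θ : G → ℂ) ∣ Z.index := by
    rw [hdeg, Subgroup.index_eq_card]; exact degree_dvd_card θ'
  have hcard := Blocks.card_isDefectGroup hM hB hD
  have hsum := minVdeg_add_blockDefect (p := p) hB
  have hle : minVdeg p B ≤ vdeg p θ := minVdeg_le hθ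
  have hidx : Z.index.factorization p + Cfsg.blockDefect p B = (Nat.card G).factorization p := by
    rw [← Z.index_mul_card, Nat.factorization_mul Subgroup.index_ne_zero_of_finite
      Nat.card_pos.ne', Finsupp.add_apply, hcard, hp.factorization_pow, Finsupp.single_eq_same]
  have hup : vdeg p θ ≤ Z.index.factorization p :=
    (Nat.factorization_le_iff_dvd (degree_pos θ).ne' Subgroup.index_ne_zero_of_finite).mpr hdvd p
  refine ⟨by omega, ?_⟩
  -- vanishing on the singular elements of the quotient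
  obtain ⟨n, r, hr, hnr⟩ := Nat.exists_eq_pow_mul_and_not_dvd
    (Nat.card_pos (α := G ⧸ Z)).ne' p hp.ne_one
  have hn : (Cfsg.charDegree (θ' : G ⧸ Z → ℂ)).factorization p = n := by
    have h1 : (Nat.card (G ⧸ Z)).factorization p = n := by
      rw [hnr, Nat.factorization_mul (pow_ne_zero _ hp.ne_zero) (by rintro rfl; simp at hr),
        Finsupp.add_apply, hp.factorization_pow, Finsupp.single_eq_same,
        Nat.factorization_eq_zero_of_not_dvd hr, add_zero]
    rw [← Subgroup.index_eq_card] at h1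
    rw [← hdeg]
    show vdeg p θ = n
    omega
  obtain ⟨e, he⟩ : p ^ n ∣ Cfsg.charDegree (θ' : G ⧸ Z → ℂ) := hn ▸ Nat.ordProj_dvd _ _
  funext g
  rw [avgReg]
  have hval : ∀ z : Z, (θ : G → ℂ) ((z : G) * g) = (θ : G → ℂ) g := fun z => by
    rw [← Subgroup.mem_center_iff.mp (hZ z.2) g, apply_mul_of_mem θ g z (hker z.2)]
  by_cases hreg : ∃ z : Z, ¬ p ∣ orderOf ((z : G) * g)
  · obtain ⟨z, hz⟩ := hreg
    have hg : g = ((z : G)⁻¹) * ((z : G) * g) := by group
    have h1 := avgReg_regular hZp hZ (θ : G → ℂ) hz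
    rw [avgReg_mul z.2 (χ := (θ : G → ℂ))] at h1
    exact h1.trans (hval z)
  · push Not at hreg
    rw [Finset.sum_eq_zero fun z _ => if_pos (hreg z)]
    symm
    rw [← hθ', inflate_apply]
    refine Characters.DefectZero.apply_eq_zero hp θ' (e := e) hnr hr ?_ ?_
    · rw [BlocksChars5.Basic.apply_one, he]
    · by_contra hgb
      -- the p-part of `g` lies in `Z`
      set o := orderOf (g : G ⧸ Z) with ho
      have hgo : g ^ o ∈ Z := by
        rw [← QuotientGroup.eq_one_iff, QuotientGroup.mk_pow, ho, pow_orderOf_eq_one]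
      obtain ⟨k, hk⟩ := IsPGroup.iff_orderOf.mp hZp ⟨g ^ o, hgo⟩
      rw [← Subgroup.orderOf_coe] at hk
      obtain ⟨u, v, huv⟩ : IsCoprime (o : ℤ) ((p : ℤ) ^ k) :=
        (Nat.isCoprime_iff_coprime.mpr ((hp.coprime_iff_not_dvd.mpr hgb).symm)).pow_right
      have hwZ : ((g ^ o : G) ^ u)⁻¹ ∈ Z := inv_mem (Z.zpow_mem hgo u)
      apply hgb
      exfalso
      have hpow : (((g ^ o : G) ^ u)⁻¹ * g) ^ o = 1 := by
        rw [← zpow_natCast, ← zpow_natCast g o, ← zpow_mul, ← zpow_neg, ← zpow_add_one, ← zpow_mul]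
        have hord : (orderOf g : ℤ) ∣ (o : ℤ) * (p : ℤ) ^ k := by
          have : g ^ (o * p ^ k) = 1 := by rw [pow_mul, ← hk, pow_orderOf_eq_one]
          exact_mod_cast orderOf_dvd_of_pow_eq_one this
        rw [← orderOf_dvd_iff_zpow_eq_one]
        have e : (-((o : ℤ) * u) + 1) * (o : ℤ) = v * ((o : ℤ) * (p : ℤ) ^ k) := by
          linear_combination (-(o : ℤ)) * huv
        rw [e]
        exact dvd_mul_of_dvd_right hord v
      exact hgb ((hreg ⟨_, hwZ⟩).trans (orderOf_dvd_of_pow_eq_one hpow))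

/-- All regular parts of the block are multiples of the regular part of one of its characters
trivial on the central defect group. -/
theorem exists_scalar : ∃ θ ∈ B, Z ≤ charKer θ ∧ ∀ χ ∈ B, ∃ c : ℂ, ∀ s : G, ¬ p ∣ orderOf s →
    (χ : G → ℂ) s = c * (θ : G → ℂ) s := by
  classical
  haveI : Fintype Z := Fintype.ofFinite _
  haveI := Fintype.ofFinite (Cfsg.IrrCharacter G)
  have hp : p.Prime := Fact.out
  have hZp : IsPGroup p Z := Blocks.isPGroup_isDefectGroup hD
  have hzero : ∀ χ ∈ B, ∀ ψ : Cfsg.IrrCharacter G, ψ ∉ B →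
      Cfsg.classInner (avgReg p Z (χ : G → ℂ)) ψ = 0 := by
    intro χ hχ ψ hψ
    by_cases hk : Z ≤ charKer ψ
    · rw [classInner_avgReg hZ _ ψ hk, regSum_eq_contribN, contribN_eq_zero hM hB hχ hψ]
      simp
    · exact classInner_avgReg_eq_zero hZ _ ψ hk
  obtain ⟨χ₀, hχ₀⟩ : ∃ χ, χ ∈ B := Blocks.isPBlock_nonempty hB
  have hex : ∃ θ ∈ B, Z ≤ charKer θ := by
    by_contra hno
    push Not at hno
    apply apply_one_ne_zero χ₀
    have h0 : avgReg p Z (χ₀ : G → ℂ) = 0 :=
      Characters.Complete.eq_zero_of_classInner_eq_zero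
        (avgReg_classFun hZ (isClassFunction_irr χ₀)) fun ψ => by
          by_cases hψ : ψ ∈ B
          · exact classInner_avgReg_eq_zero hZ _ ψ (hno ψ hψ)
          · exact hzero χ₀ hχ₀ ψ hψ
    rw [← avgReg_regular hZp hZ (χ₀ : G → ℂ) (s := 1) (by rw [orderOf_one]; exact hp.not_dvd_one),
      h0, Pi.zero_apply]
  obtain ⟨θ, hθ, hθk⟩ := hex
  obtain ⟨hθ0, hθeq⟩ := avgReg_eq hM hB hD hZ hθ hθk
  have huniq : ∀ ψ ∈ B, Z ≤ charKer ψ → ψ = θ := by
    intro ψ hψ hψk
    by_contra hne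
    have h1 : Cfsg.classInner (θ : G → ℂ) ψ = 0 := classInner_irr_of_ne (Ne.symm hne)
    rw [← hθeq, classInner_avgReg hZ _ ψ hψk, regSum_eq_contribN] at h1
    refine contribN_ne_zero hM hB hθ hθ0 hψ ?_
    have hG : (Nat.card G : ℂ) ≠ 0 := Nat.cast_ne_zero.mpr Nat.card_pos.ne'
    have hZ0 : (Nat.card Z : ℂ) ≠ 0 := Nat.cast_ne_zero.mpr Nat.card_pos.ne'
    have hm : (Blocks.Contrib.primeToCard p G : ℂ) ≠ 0 :=
      Nat.cast_ne_zero.mpr (Blocks.Contrib.primeToCard_pos p).ne'
    simpa [hG, hZ0, hm] using h1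
  refine ⟨θ, hθ, hθk, fun χ hχ => ⟨Cfsg.classInner (avgReg p Z (χ : G → ℂ)) θ, fun s hs => ?_⟩⟩
  have hexp := Characters.Complete.classFunction_eq_sum
    (avgReg_classFun (p := p) hZ (isClassFunction_irr χ))
  rw [Finset.sum_eq_single θ] at hexp
  · rw [← avgReg_regular hZp hZ (χ : G → ℂ) hs]
    conv_lhs => rw [hexp]
    simp
  · intro ψ _ hne
    have : Cfsg.classInner (avgReg p Z (χ : G → ℂ)) ψ = 0 := by
      by_cases hψ : ψ ∈ B
      · exact classInner_avgReg_eq_zero hZ _ ψ fun hk => hne (huniq ψ hψ hk)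
      · exact hzero χ hχ ψ hψ
    rw [this, zero_smul]
  · intro h
    exact absurd (Finset.mem_univ _) h

/-- A block with central defect group has rank one. -/
theorem blockRank_eq_one : Cfsg.blockRank p B = 1 := by
  classical
  obtain ⟨θ, hθ, -, hsc⟩ := exists_scalar hM hB hD hZ
  rw [Cfsg.blockRank]
  have hspan : Submodule.span ℂ ((fun χ : Cfsg.IrrCharacter G =>
      Cfsg.pRegularPart p (χ : G → ℂ)) '' B) =
      Submodule.span ℂ {Cfsg.pRegularPart p (θ : G → ℂ)} := by
    apply le_antisymm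
    · rw [Submodule.span_le]
      rintro _ ⟨χ, hχ, rfl⟩
      obtain ⟨c, hc⟩ := hsc χ hχ
      rw [SetLike.mem_coe, Submodule.mem_span_singleton]
      refine ⟨c, funext fun g => ?_⟩
      show c • Cfsg.pRegularPart p (θ : G → ℂ) g = Cfsg.pRegularPart p (χ : G → ℂ) g
      rw [pRegularPart_apply, pRegularPart_apply]
      by_cases hg : p ∣ orderOf g
      · simp [hg]
      · rw [if_neg hg, if_neg hg, smul_eq_mul, hc g hg]
    · exact Submodule.span_mono (Set.singleton_subset_iff.mpr ⟨θ, hθ, rfl⟩)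
  rw [hspan]
  refine finrank_span_singleton fun h => apply_one_ne_zero θ ?_
  have := congrFun h 1
  rwa [pRegularPart_apply, if_neg (by rw [orderOf_one]; exact (Fact.out : p.Prime).not_dvd_one)]
    at this

end Cfsg.Agent.Lib.BrauerPairs.CentralRank
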