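import Cfsg.Agent.Lib.BrauerPairs.Abelian
import Cfsg.Agent.Lib.BrauerPairs.InducedPair

/-!
# The local blocks below an abelian maximal pair

For `Q ≤ P`, `P` abelian and `(P, c)` a maximal pair, the block of `C(Q)` induced by `c` gives the
pair at `Q` below `(P, c)`; `(P, c)` is a maximal pair of it and it is nilpotent exactly when the
stabilizer of `(P, c)` meets `C(Q)` in `C(P)`.
-/

set_option autoImplicit false
set_option linter.style.haveILetI false

namespace Cfsg.Agent.Lib.BrauerPairs.LocalAbelian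

open MonoidAlgebra Cfsg.Agent.Lib.BrauerMap.Basic
open Cfsg.Agent.Lib.BrauerPairs.Center Cfsg.Agent.Lib.BrauerPairs.Trunc
open Cfsg.Agent.Lib.BrauerPairs.Conj Cfsg.Agent.Lib.BrauerPairs.Pairs
open Cfsg.Agent.Lib.BrauerPairs.Transport Cfsg.Agent.Lib.BrauerPairs.Maximal
open Cfsg.Agent.Lib.BrauerPairs.Bridge Cfsg.Agent.Lib.BrauerPairs.Embed
open Cfsg.Agent.Lib.BrauerPairs.Local Cfsg.Agent.Lib.BrauerPairs.Fusion
open Cfsg.Agent.Lib.BrauerPairs.Abelian

universe u

attribute [local instance] Ideal.Quotient.field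

variable {M : Ideal Cfsg.AlgInt} [M.IsMaximal] {G : Type u} [Group G] [Finite G]
  {p : ℕ} [Fact p.Prime] [CharP (Res M) p]

local notation "C[" P "]" => Subgroup.centralizer ((P : Subgroup G) : Set G)

/-- A maximal pair stays maximal in a subgroup containing the centralizer. -/
theorem top_down_of_top {H P : Subgroup G} (hP : P ≤ H) (hC : C[P] ≤ H) (c : Blk (Res M) C[P])
    (h : Top p (⟨P, c⟩ : Idx (Res M) G)) :
    Top p (⟨P.subgroupOf H, down hP hC c⟩ : Idx (Res M) H) := by
  rw [top_iff] at h ⊢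
  refine ⟨h.1.of_equiv (Subgroup.subgroupOfEquivOfLe hP).symm, fun R hR hlt hRN hfix => ?_⟩
  obtain ⟨-, h⟩ := h
  set R' := R.map H.subtype with hR'
  have hR'H : R' ≤ H := Subgroup.map_subtype_le R
  have hRR' : R'.subgroupOf H = R := Subgroup.comap_map_eq_self_of_injective H.subtype_injective R
  have hlt' : P < R' := by
    refine lt_of_le_of_ne (fun q hq => ⟨⟨q, hP hq⟩, hlt.le hq, rfl⟩) fun e => hlt.ne ?_
    rw [← hRR']
    exact congrArg (fun S : Subgroup G => S.subgroupOf H) e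
  rw [← hRR'] at hRN hfix ⊢
  have h0 := h R' (hR.map _) hlt' ((subgroupOf_le_normalizer hP hR'H).mp hRN)
    (by rw [← ext_bext_down hP hC]; exact (isFixedBy_ext_iff hR'H _).mp hfix)
  rw [coeff_eq_zero_iff_br] at h0 ⊢
  intro g hg
  have h1 := h0 (g : G) ((mem_centralizer_subgroupOf_iff hR'H g).mp hg)
  rw [← ext_bext_down hP hC, coeff_ext] at h1
  exact h1

omit [Fact p.Prime] [CharP (Res M) p] in
/-- Stabilizers inside a subgroup. -/
theorem mem_stab_down_iff {H P : Subgroup G} (hP : P ≤ H) (hC : C[P] ≤ H) (c : Blk (Res M) C[P])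
    (x : H) : x ∈ stab (⟨P.subgroupOf H, down hP hC c⟩ : Idx (Res M) H) ↔
      (x : G) ∈ stab (⟨P, c⟩ : Idx (Res M) G) := by
  rw [mem_stab_iff, mem_stab_iff]
  refine and_congr ?_ ?_
  · rw [← Subgroup.zpowers_le, ← Subgroup.zpowers_le]
    rw [← subgroupOf_le_normalizer hP (Subgroup.zpowers_le.mpr x.2)]
    have e : (Subgroup.zpowers (x : G)).subgroupOf H = Subgroup.zpowers x := by
      rw [show (x : G) = H.subtype x from rfl, ← MonoidHom.map_zpowers]
      exact Subgroup.comap_map_eq_self_of_injective H.subtype_injective _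
    rw [e]
  · show conjA x _ = _ ↔ conjA (x : G) (bext C[P] c) = bext C[P] c
    rw [← ext_bext_down hP hC c, ← Extend.ext_conjA]
    exact ⟨fun h => congrArg _ h, fun h => ext_injective H h⟩

variable {P Q : Subgroup G} {c : Blk (Res M) (Subgroup.centralizer (P : Set G))}
  {F : Blk (Res M) (Subgroup.centralizer (Q : Set G))}

/-- The induced block is the pair below. -/
theorem le_of_pairOf (hP : IsPGroup p P) (hPC : P ≤ C[Q]) (hQP : Q ≤ P)
    (h : PairOf p F (⟨P.subgroupOf C[Q], down hPC (centralizer_anti hQP) c⟩ :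
      Idx (Res M) C[Q])) :
    Le p (⟨Q, F⟩ : Idx (Res M) G) (⟨P, c⟩ : Idx (Res M) G) := by
  refine Relation.ReflTransGen.single
    ⟨hP, hQP, hPC.trans (Subgroup.centralizer_le_normalizer _), isFixedBy_bext_of_le hPC F, ?_⟩
  show val P c (ext C[Q] (bidem F)) = 1
  rw [← val_down hPC (centralizer_anti hQP) c (isFixedBy_of_mem_center _ (bidem_mem F))]
  exact h.2

/-- The nilpotency criterion. -/
theorem nilp_iff (htop : Top p (⟨P, c⟩ : Idx (Res M) G)) (hab : ∀ x ∈ P, ∀ y ∈ P, x * y = y * x)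
    (hPC : P ≤ C[Q]) (hQP : Q ≤ P)
    (h : PairOf p F (⟨P.subgroupOf C[Q], down hPC (centralizer_anti hQP) c⟩ :
      Idx (Res M) C[Q])) :
    Nilp p F ↔ ∀ x ∈ stab (⟨P, c⟩ : Idx (Res M) G), x ∈ C[Q] → x ∈ C[P] := by
  have htopH := top_down_of_top hPC (centralizer_anti hQP) c htop
  have habH : ∀ x ∈ P.subgroupOf C[Q], ∀ y ∈ P.subgroupOf C[Q], x * y = y * x :=
    fun x hx y hy => Subtype.ext (hab _ hx _ hy)
  constructor
  · intro hnil x hx hxQ
    let xH : C[Q] := ⟨x, hxQ⟩
    have hxs : xH ∈ stab (⟨P.subgroupOf C[Q], down hPC (centralizer_anti hQP) c⟩ :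
        Idx (Res M) C[Q]) := (mem_stab_down_iff hPC _ c xH).mpr hx
    obtain ⟨u, hu, he⟩ := exists_inner_of_nilp hnil htopH h
      ⟨P.subgroupOf C[Q], down hPC (centralizer_anti hQP) c⟩ xH Relation.ReflTransGen.refl
      (by rw [mem_stab.mp hxs]; exact Relation.ReflTransGen.refl)
    intro q hq
    have h1 := congrArg Subtype.val (he ⟨q, hPC hq⟩ hq)
    simp only [Subgroup.coe_mul, Subgroup.coe_inv] at h1
    have h2 : (u : G) * q * (u : G)⁻¹ = q := by
      have hu' : (u : G) ∈ P := hu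
      rw [hab _ hu' q hq, mul_inv_cancel_right]
    rw [h2] at h1
    have h3 : x * q * x⁻¹ = q := h1
    calc q * x = x * q * x⁻¹ * x := by rw [h3]
      _ = x * q := inv_mul_cancel_right _ _
  · intro hfree
    refine nilp_of_stab_le htopH h habH fun x hx => ?_
    exact (mem_centralizer_subgroupOf_iff hPC x).mpr
      (hfree _ ((mem_stab_down_iff hPC _ c x).mp hx) x.2)

end Cfsg.Agent.Lib.BrauerPairs.LocalAbelian
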