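import Mathlib
import Cfsg.Agent.Lib.Blocks.MajorSection
import Cfsg.Agent.Lib.BC78.Subsections
import Cfsg.Agent.Lib.BrauerPairs.LocalAbelian
import Cfsg.Agent.Lib.BrauerPairs.CentralRank

/-!
# Blocks with abelian defect group and trivial inertial quotient

They have one modular character and as many ordinary characters as the defect group has elements.
Proof by induction: the subsections are the elements of the defect group, and a major subsection
with one modular character bounds the number of characters by the order of the defect group.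
-/

set_option autoImplicit false
set_option linter.style.haveILetI false
set_option linter.unusedSectionVars false

namespace Cfsg.Agent.Lib.BrauerPairs.RankAbelian

open MonoidAlgebra Cfsg.Agent.Lib.BrauerMap.Basic
open Cfsg.Agent.Lib.BrauerPairs.Center Cfsg.Agent.Lib.BrauerPairs.Trunc
open Cfsg.Agent.Lib.BrauerPairs.Conj Cfsg.Agent.Lib.BrauerPairs.Pairs
open Cfsg.Agent.Lib.BrauerPairs.Transport Cfsg.Agent.Lib.BrauerPairs.Maximal
open Cfsg.Agent.Lib.BrauerPairs.Bridge Cfsg.Agent.Lib.BrauerPairs.Embed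
open Cfsg.Agent.Lib.BrauerPairs.Local Cfsg.Agent.Lib.BrauerPairs.Abelian
open Cfsg.Agent.Lib.BrauerPairs.LocalAbelian
open Cfsg.Agent.Lib.Blocks.Contrib Cfsg.Agent.Lib.BC78.Subsections

universe u

attribute [local instance] Ideal.Quotient.field

variable {M : Ideal Cfsg.AlgInt} [M.IsMaximal] {G : Type u} [Group G] [Finite G]
  {p : ℕ} [Fact p.Prime]

local notation "C[" P "]" => Subgroup.centralizer ((P : Subgroup G) : Set G)

/-- The block of `H` with the idempotent of a pair. -/
def pairSet (a : Idx (Res M) G) (H : Subgroup G) : Set (Cfsg.IrrCharacter H) :=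
  {ξ | bext H (blkOf M ξ) = bext C[a.1] a.2}

theorem pairSet_eq (a : Idx (Res M) G) : pairSet a C[a.1] = toSet a.2 := by
  ext ξ
  exact ⟨fun h => bext_injective _ h, fun h => congrArg (bext _) (mem_toSet.mp h)⟩

theorem blockRank_pairSet (a : Idx (Res M) G) {H : Subgroup G} (hH : H = C[a.1]) :
    Cfsg.blockRank p (pairSet a H) = Cfsg.blockRank p (toSet a.2) := by
  subst hH
  rw [pairSet_eq]

theorem blockDefect_pairSet (a : Idx (Res M) G) {H : Subgroup G} (hH : H = C[a.1]) :
    Cfsg.blockDefect p (pairSet a H) = Cfsg.blockDefect p (toSet a.2) := by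
  subst hH
  rw [pairSet_eq]

theorem eq_of_pairSet_eq {a a' : Idx (Res M) G} (h1 : a.1 = a'.1) {H : Subgroup G}
    (hH : H = C[a.1]) (h : pairSet a H = pairSet a' H) : a = a' := by
  subst hH
  obtain ⟨ξ, hξ⟩ := exists_mem a.2
  have e1 : ξ ∈ pairSet a C[a.1] := by rw [pairSet_eq]; exact hξ
  have e2 : ξ ∈ pairSet a' C[a.1] := h ▸ e1
  exact sigma_ext_of_bext h1
    ((show bext C[a.1] (blkOf M ξ) = bext C[a.1] a.2 from e1).symm.trans e2)

theorem eq_of_sigma_eq {a a' : Idx (Res M) G} {x y : G} (h1 : a.1 = Subgroup.zpowers x)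
    (h2 : a'.1 = Subgroup.zpowers y)
    (h : (⟨x, pairSet a (Subgroup.centralizer ({x} : Set G))⟩ :
        Σ z : G, Set (Cfsg.IrrCharacter (Subgroup.centralizer ({z} : Set G)))) =
      ⟨y, pairSet a' (Subgroup.centralizer ({y} : Set G))⟩) : a = a' := by
  obtain ⟨rfl, h⟩ := Sigma.mk.inj_iff.mp h
  refine eq_of_pairSet_eq (h1.trans h2.symm) ?_ (eq_of_heq h)
  rw [h1, Cfsg.Agent.Lib.BrauerMap.PrincipalSection.centralizer_zpowers_eq]

theorem eq_centralizer_of_eq_zpowers {a : Idx (Res M) G} {x : G}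
    (h1 : a.1 = Subgroup.zpowers x) : Subgroup.centralizer ({x} : Set G) = C[a.1] := by
  rw [h1, Cfsg.Agent.Lib.BrauerMap.PrincipalSection.centralizer_zpowers_eq]

theorem one_le_blockRank {H : Type u} [Group H] [Finite H] (hM : Cfsg.IsPModular p M)
    {B : Set (Cfsg.IrrCharacter H)} (hB : Cfsg.IsPBlock M B) : 1 ≤ Cfsg.blockRank p B := by
  obtain ⟨χ, hχ, -⟩ := exists_height_zero (p := p) hB
  have hpos : 0 < ∑ ξ ∈ bset B, contribN p ξ ξ :=
    Finset.sum_pos (fun ξ hξ => contribN_self_pos hM hB (mem_bset.mp hξ))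
      ⟨χ, mem_bset.mpr hχ⟩
  rw [sum_contribN_self hM hB] at hpos
  rcases Nat.eq_zero_or_pos (Cfsg.blockRank p B) with h | h
  · simp [h] at hpos
  · exact h

/-- Representatives of the classes of `p`-elements. -/
theorem exists_reps (p : ℕ) : ∃ X : Finset G, (1 : G) ∈ X ∧
    (∀ x ∈ X, ∃ k : ℕ, orderOf x = p ^ k) ∧
    ∀ g : G, (∃ k : ℕ, orderOf g = p ^ k) → ∃! x, x ∈ X ∧ IsConj g x := by
  classical
  haveI := Fintype.ofFinite G
  let r : G → G := fun g => (ConjClasses.mk g).out
  have hr : ∀ g, IsConj g (r g) := fun g =>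
    (ConjClasses.mk_eq_mk_iff_isConj.mp (Quotient.out_eq (ConjClasses.mk g))).symm
  refine ⟨(Finset.univ.filter fun g : G => ∃ k : ℕ, orderOf g = p ^ k).image r, ?_, ?_, ?_⟩
  · exact Finset.mem_image.mpr ⟨1, Finset.mem_filter.mpr ⟨Finset.mem_univ _, 0, by simp⟩,
      isConj_one_right.mp (hr 1)⟩
  · intro x hx
    obtain ⟨g, hg, rfl⟩ := Finset.mem_image.mp hx
    obtain ⟨k, hk⟩ := (Finset.mem_filter.mp hg).2
    obtain ⟨t, ht⟩ := isConj_iff.mp (hr g)
    exact ⟨k, by rw [← ht, show orderOf (t * g * t⁻¹) = orderOf g from (MulAut.conj t).orderOf_eq g,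
      hk]⟩
  · intro g hg
    refine ⟨r g, ⟨Finset.mem_image.mpr ⟨g, Finset.mem_filter.mpr ⟨Finset.mem_univ _, hg⟩, rfl⟩,
      hr g⟩, ?_⟩
    rintro y ⟨hy, hgy⟩
    obtain ⟨h, -, rfl⟩ := Finset.mem_image.mp hy
    exact congrArg Quotient.out (ConjClasses.mk_eq_mk_iff_isConj.mpr (hgy.trans (hr h).symm)).symm

/-- The regular rank of a block is at most that of the blocks above it in `C(1)`. -/
theorem blockRank_le_sum_one (hM : Cfsg.IsPModular p M) {B : Set (Cfsg.IrrCharacter G)}
    (hB : Cfsg.IsPBlock M B) :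
    Cfsg.blockRank p B ≤ ∑ b ∈ indBlocks M (1 : G) B, Cfsg.blockRank p b := by
  classical
  set C := Subgroup.centralizer ({(1 : G)} : Set G) with hC
  let L : (G → ℂ) →ₗ[ℂ] (C → ℂ) := LinearMap.funLeft ℂ ℂ C.subtype
  have hsurj : Function.Surjective C.subtype := fun g =>
    ⟨⟨g, Subgroup.mem_centralizer_singleton_iff.mpr (by simp)⟩, rfl⟩
  have hinj : Function.Injective L := LinearMap.funLeft_injective_of_surjective ℂ ℂ _ hsurj
  have hsup : (regSpan p B).map L ≤ (indBlocks M (1 : G) B).sup fun b => regSpan p b := by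
    rw [regSpan, Submodule.map_span_le]
    rintro _ ⟨χ, hχ, rfl⟩
    have h := mem_regSpan hM (1 : G) (i := 0) (by simp) hB hχ
    have e : L (Cfsg.pRegularPart p (χ : G → ℂ)) =
        fun y : C => if p ∣ orderOf y then 0 else (χ : G → ℂ) (1 * y) := by
      funext y
      rw [one_mul]
      show Cfsg.pRegularPart p (χ : G → ℂ) (y : G) = _
      rw [pRegularPart_apply, Subgroup.orderOf_coe]
    rw [e]
    refine Submodule.span_le.mpr ?_ h
    refine Set.iUnion₂_subset fun b hb => ?_
    exact (Submodule.subset_span).trans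
      (Finset.le_sup (f := fun b => regSpan p b) (mem_indBlocks.2 hb))
  have hfin : ∀ S : Finset (Set (Cfsg.IrrCharacter C)),
      Module.finrank ℂ (S.sup fun b => regSpan p b : Submodule ℂ (C → ℂ)) ≤
        ∑ b ∈ S, Cfsg.blockRank p b := by
    intro S
    induction S using Finset.induction_on with
    | empty => simp
    | insert b S hbS ih =>
      rw [Finset.sup_insert, Finset.sum_insert hbS]
      exact (Submodule.finrank_add_le_finrank_add_finrank _ _).trans (Nat.add_le_add le_rfl ih)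
  refine le_trans ?_ ((Submodule.finrank_mono hsup).trans (hfin _))
  exact le_of_eq (Submodule.equivMapOfInjective L hinj (regSpan p B)).finrank_eq

section Main

variable (hM : Cfsg.IsPModular p M) [CharP (Res M) p]
include hM

/-- The defect of the block of a maximal pair. -/
theorem card_top {ψ : Blk (Res M) G} {b : Idx (Res M) G} (hb : Top p b) (hψ : PairOf p ψ b) :
    Nat.card b.1 = p ^ Cfsg.blockDefect p (toSet ψ) := by
  refine Cfsg.Agent.Lib.Blocks.card_isDefectGroup hM (isPBlock_toSet ψ) ?_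
  rw [isDefectGroup_iff (isPBlock_toSet ψ), blk_toSet]
  exact isDef_of_top hb hψ

/-- The induced block of a pair at a cyclic subgroup. -/
theorem isInducedBlock_pairSet {ψ : Blk (Res M) G} {a : Idx (Res M) G} (ha : PairOf p ψ a)
    {H : Subgroup G} (hH : H = C[a.1]) :
    Cfsg.IsInducedBlock M H (pairSet a H) (toSet ψ) := by
  subst hH
  rw [pairSet_eq]
  exact (InducedPair.isInducedBlock_iff ha.1 (isPBlock_toSet _) (isPBlock_toSet _)).mpr
    (by rwa [blk_toSet, blk_toSet])

end Main

/-- The statement proved by induction. -/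
def Good (p : ℕ) (M : Ideal Cfsg.AlgInt) [M.IsMaximal] [Fact p.Prime] (G : Type u) [Group G]
    [Finite G] : Prop :=
  ∀ (P : Subgroup G) (c : Blk (Res M) (Subgroup.centralizer (P : Set G))) (ψ : Blk (Res M) G),
    Top p (⟨P, c⟩ : Idx (Res M) G) → PairOf p ψ (⟨P, c⟩ : Idx (Res M) G) →
      (∀ x ∈ P, ∀ y ∈ P, x * y = y * x) →
        (∀ x ∈ stab (⟨P, c⟩ : Idx (Res M) G), x ∈ Subgroup.centralizer (P : Set G)) →
          Cfsg.blockRank p (toSet ψ) = 1 ∧ Nat.card (toSet ψ) = Nat.card P

theorem good_step (hM : Cfsg.IsPModular p M) [CharP (Res M) p]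
    (ih : ∀ H : Subgroup G, Nat.card H < Nat.card G → Good p M H) : Good p M G := by
  classical
  intro P c ψ htop hψ hab hst
  haveI := Fintype.ofFinite G
  haveI := Fintype.ofFinite P
  have hP : IsPGroup p P := htop.1
  have hB := isPBlock_toSet ψ
  have hcard := card_top hM htop hψ
  simp only at hcard
  -- the pairs below
  have hQP : ∀ u ∈ P, Subgroup.zpowers u ≤ P := fun u hu => Subgroup.zpowers_le.mpr hu
  have hPC : ∀ u ∈ P, P ≤ C[Subgroup.zpowers u] := fun u hu =>
    le_centralizer_of_le_abelian hab (hQP u hu)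
  have hCC : ∀ u ∈ P, C[P] ≤ C[Subgroup.zpowers u] := fun u hu => centralizer_anti (hQP u hu)
  let dpair : ∀ u (hu : u ∈ P), Idx (Res M) C[Subgroup.zpowers u] := fun u hu =>
    ⟨P.subgroupOf C[Subgroup.zpowers u], down (hPC u hu) (hCC u hu) c⟩
  have hdp : ∀ u (hu : u ∈ P), IsPGroup p (dpair u hu).1 := fun u hu =>
    hP.of_equiv (Subgroup.subgroupOfEquivOfLe (hPC u hu)).symm
  let F : ∀ u (hu : u ∈ P), Blk (Res M) C[Subgroup.zpowers u] := fun u hu => pairBlk (hdp u hu)
  have hF : ∀ u (hu : u ∈ P), PairOf p (F u hu) (dpair u hu) := fun u hu =>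
    pairOf_iff.mpr ⟨hdp u hu, rfl⟩
  let A : ∀ u (hu : u ∈ P), Idx (Res M) G := fun u hu => ⟨Subgroup.zpowers u, F u hu⟩
  have hle : ∀ u (hu : u ∈ P), Le p (A u hu) (⟨P, c⟩ : Idx (Res M) G) := fun u hu =>
    le_of_pairOf hP (hPC u hu) (hQP u hu) (hF u hu)
  have hApair : ∀ u (hu : u ∈ P), PairOf p ψ (A u hu) := fun u hu =>
    (pairOf_iff_of_le hP (hle u hu) ψ).mpr hψ
  have htopd : ∀ u (hu : u ∈ P), Top p (dpair u hu) := fun u hu =>
    top_down_of_top (hPC u hu) (hCC u hu) c htop
  have hdef : ∀ u (hu : u ∈ P),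
      Cfsg.blockDefect p (toSet (F u hu)) = Cfsg.blockDefect p (toSet ψ) := by
    intro u hu
    refine Nat.pow_right_injective (Fact.out : p.Prime).two_le ?_
    show p ^ _ = p ^ _
    rw [← hcard, ← card_top hM (htopd u hu) (hF u hu)]
    exact Nat.card_congr (Subgroup.subgroupOfEquivOfLe (hPC u hu)).toEquiv
  -- one major subsection with one modular character
  obtain ⟨u₀, hu₀, hl₀⟩ : ∃ u₀, ∃ hu₀ : u₀ ∈ P, Cfsg.blockRank p (toSet (F u₀ hu₀)) = 1 := by
    by_cases hcen : P ≤ Subgroup.center G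
    · refine ⟨1, one_mem P, ?_⟩
      haveI := Fintype.ofFinite C[Subgroup.zpowers (1 : G)]
      refine CentralRank.blockRank_eq_one hM (isPBlock_toSet _)
        (Z := P.subgroupOf C[Subgroup.zpowers (1 : G)]) ?_ ?_
      · rw [isDefectGroup_iff (isPBlock_toSet _), blk_toSet]
        exact isDef_of_top (htopd 1 (one_mem P)) (hF 1 (one_mem P))
      · intro z hz
        exact Subgroup.mem_center_iff.mpr fun g =>
          Subtype.ext (Subgroup.mem_center_iff.mp (hcen hz) g)
    · obtain ⟨u, hu, huc⟩ := SetLike.not_le_iff_exists.mp hcen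
      refine ⟨u, hu, ?_⟩
      have hlt : Nat.card C[Subgroup.zpowers u] < Nat.card G := by
        refine lt_of_le_of_ne (Subgroup.card_le_card_group _) fun e => huc ?_
        have h1 := Subgroup.eq_top_of_card_eq _ e
        refine Subgroup.mem_center_iff.mpr fun g => ?_
        exact (Subgroup.mem_centralizer_iff.mp (h1 ▸ Subgroup.mem_top g) u
          (Subgroup.mem_zpowers u)).symm
      refine (ih _ hlt _ _ _ (htopd u hu) (hF u hu)
        (fun x hx y hy => Subtype.ext (hab _ hx _ hy)) fun x hx => ?_).1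
      exact (mem_centralizer_subgroupOf_iff (hPC u hu) x).mpr
        (hst _ ((mem_stab_down_iff (hPC u hu) (hCC u hu) c x).mp hx))
  -- the bound
  have hub : Nat.card (toSet ψ) ≤ Nat.card P := by
    haveI := Fintype.ofFinite C[Subgroup.zpowers u₀]
    have hx : Cfsg.Agent.Lib.Blocks.SectionMatrix.Pelt p
        (⟨u₀, hPC u₀ hu₀ hu₀⟩ : C[Subgroup.zpowers u₀]) :=
      ⟨IsPGroup.iff_orderOf.mp hP ⟨u₀, hu₀⟩ |>.imp fun k hk => by
        rw [← hk]; exact (Subgroup.orderOf_coe (⟨u₀, hu₀⟩ : P)), rfl⟩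
    have hind : Cfsg.IsInducedBlock M C[Subgroup.zpowers u₀] (toSet (F u₀ hu₀)) (toSet ψ) := by
      have h := isInducedBlock_pairSet hM (hApair u₀ hu₀) (H := C[Subgroup.zpowers u₀]) rfl
      rwa [show pairSet (A u₀ hu₀) C[Subgroup.zpowers u₀] = toSet (F u₀ hu₀) from
        pairSet_eq (A u₀ hu₀)] at h
    have h := Cfsg.Agent.Lib.Blocks.MajorSection.card_le hM hx hind (hdef u₀ hu₀)
    rwa [hl₀, mul_one, hdef u₀ hu₀, ← hcard] at h
  -- Brauer's count
  obtain ⟨X, hX1, hX, hXrep⟩ := exists_reps (G := G) p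
  have hsum := card_eq_sum hM X hX hXrep hB
  rw [← Finset.add_sum_erase X _ hX1] at hsum
  have hpel : ∀ u : P, ∃ k : ℕ, orderOf (u : G) = p ^ k := fun u => by
    obtain ⟨k, hk⟩ := IsPGroup.iff_orderOf.mp hP u
    exact ⟨k, by rw [Subgroup.orderOf_coe, hk]⟩
  choose x hx hxconj using fun u : P => (hXrep (u : G) (hpel u)).exists
  choose g hg using fun u : P => isConj_iff.mp (hxconj u)
  let a' : P → Idx (Res M) G := fun u => cPair (g u) (A u u.2)
  have ha1 : ∀ u : P, (a' u).1 = Subgroup.zpowers (x u) := fun u => by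
    show (Subgroup.zpowers (u : G)).map (MulAut.conj (g u)).toMonoidHom = _
    rw [MonoidHom.map_zpowers, ← hg u]
    rfl
  let Φ : P → Σ z : G, Set (Cfsg.IrrCharacter (Subgroup.centralizer ({z} : Set G))) := fun u =>
    ⟨x u, pairSet (a' u) (Subgroup.centralizer ({x u} : Set G))⟩
  have hΦinj : Function.Injective Φ := by
    intro u v huv
    have hxe : x u = x v := congrArg Sigma.fst huv
    have he : a' u = a' v := eq_of_sigma_eq (ha1 u) (ha1 v) huv
    set k := (g v)⁻¹ * g u with hk
    have hkA : cPair k (A u u.2) = A v v.2 := by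
      rw [hk, cPair_mul]
      show cPair (g v)⁻¹ (a' u) = _
      rw [he]
      show cPair (g v)⁻¹ (cPair (g v) (A v v.2)) = _
      rw [← cPair_mul, inv_mul_cancel, cPair_one]
    obtain ⟨z, hz, hzk⟩ := exists_mul_mem_stab htop hab (hle u u.2) (g := k)
      (by rw [hkA]; exact hle v v.2)
    rw [hkA] at hz
    have h1 : (u : G) * (z * k) = z * k * (u : G) :=
      Subgroup.mem_centralizer_iff.mp (hst _ hzk) (u : G) u.2
    have h2 : (v : G) * z = z * (v : G) :=
      Subgroup.mem_centralizer_iff.mp hz (v : G) (Subgroup.mem_zpowers (v : G))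
    have h3 : k * (u : G) = (v : G) * k := by
      have e1 := hg u
      rw [hxe, ← hg v] at e1
      rw [hk]
      calc (g v)⁻¹ * g u * (u : G) = (g v)⁻¹ * (g u * (u : G) * (g u)⁻¹) * g u := by group
        _ = (v : G) * ((g v)⁻¹ * g u) := by rw [e1]; group
    have h4 : (u : G) * (z * k) = (v : G) * (z * k) := by
      rw [h1, mul_assoc, h3, ← mul_assoc, ← h2, mul_assoc]
    exact Subtype.ext (mul_right_cancel h4)
  have hrest : Nat.card P - 1 ≤
      ∑ y ∈ X.erase 1, ∑ e ∈ indBlocks M y (toSet ψ), Cfsg.blockRank p e := by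
    have h1 : ∀ y : G, ∀ e ∈ indBlocks M y (toSet ψ), 1 ≤ Cfsg.blockRank p e := fun y e he =>
      one_le_blockRank hM (mem_indBlocks.mp he).1
    rw [Finset.sum_sigma' (X.erase 1) (fun y => indBlocks M y (toSet ψ))
      (fun y e => Cfsg.blockRank p e)]
    calc Nat.card P - 1 = ((Finset.univ : Finset P).erase 1).card := by
          rw [Finset.card_erase_of_mem (Finset.mem_univ _), Finset.card_univ,
            Nat.card_eq_fintype_card]
      _ ≤ ((X.erase 1).sigma fun y => indBlocks M y (toSet ψ)).card := by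
          refine Finset.card_le_card_of_injOn Φ (fun u hu => ?_) hΦinj.injOn
          have hu1 : u ≠ 1 := (Finset.mem_erase.mp hu).1
          refine Finset.mem_sigma.mpr ⟨Finset.mem_erase.mpr ⟨fun e => hu1 ?_, hx u⟩, ?_⟩
          · have e1 := hg u
            rw [show x u = 1 from e, conj_eq_one_iff] at e1
            exact Subtype.ext e1
          · exact mem_indBlocks.mpr (isInducedBlock_pairSet hM (pairOf_cPair (hApair u u.2) (g u))
              (eq_centralizer_of_eq_zpowers (ha1 u)))
      _ ≤ _ := by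
          rw [Finset.card_eq_sum_ones]
          exact Finset.sum_le_sum fun s hs => h1 s.1 s.2 (Finset.mem_sigma.mp hs).2
  have hone := blockRank_le_sum_one hM hB
  have hlow := one_le_blockRank hM hB
  have hPpos : 0 < Nat.card P := Nat.card_pos
  omega

/-- **Abelian defect group and trivial inertial quotient**: one modular character and as many
ordinary characters as the defect group has elements. -/
theorem good (hM : Cfsg.IsPModular p M) [CharP (Res M) p] : Good p M G := by
  suffices h : ∀ (n : ℕ) (H : Type u) [Group H] [Finite H], Nat.card H = n → Good p M H from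
    h _ G rfl
  intro n
  induction n using Nat.strong_induction_on with
  | _ n ih =>
    intro H _ _ hH
    exact good_step hM fun K hK => ih _ (hH ▸ hK) K rfl

end Cfsg.Agent.Lib.BrauerPairs.RankAbelian
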