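import Mathlib
import Cfsg.Agent.Lib.BrauerPairs.RankAbelian

/-!
# The subsections of a block with abelian defect group

`k(B) = l(B) + ∑ l(f_r)`, the sum over representatives of the orbits of the stabilizer of the
maximal pair on the nonidentity elements of the defect group.
-/

set_option autoImplicit false
set_option linter.style.haveILetI false
set_option linter.unusedSectionVars false

namespace Cfsg.Agent.Lib.BrauerPairs.SubsectionCount

open MonoidAlgebra Cfsg.Agent.Lib.BrauerMap.Basic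
open Cfsg.Agent.Lib.BrauerPairs.Center Cfsg.Agent.Lib.BrauerPairs.Trunc
open Cfsg.Agent.Lib.BrauerPairs.Conj Cfsg.Agent.Lib.BrauerPairs.Pairs
open Cfsg.Agent.Lib.BrauerPairs.Transport Cfsg.Agent.Lib.BrauerPairs.Maximal
open Cfsg.Agent.Lib.BrauerPairs.Bridge Cfsg.Agent.Lib.BrauerPairs.Embed
open Cfsg.Agent.Lib.BrauerPairs.Local Cfsg.Agent.Lib.BrauerPairs.Abelian
open Cfsg.Agent.Lib.BrauerPairs.LocalAbelian Cfsg.Agent.Lib.BrauerPairs.RankAbelian
open Cfsg.Agent.Lib.Blocks.Contrib Cfsg.Agent.Lib.BC78.Subsections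
open Cfsg.Agent.Lib.Characters.Basic

universe u

attribute [local instance] Ideal.Quotient.field

variable {M : Ideal Cfsg.AlgInt} [M.IsMaximal] {G : Type u} [Group G] [Finite G]
  {p : ℕ} [Fact p.Prime]

local notation "C[" P "]" => Subgroup.centralizer ((P : Subgroup G) : Set G)

/-! ### The identity section -/

section One

omit [Finite G] in
theorem mem_centralizer_one (g : G) : g ∈ Subgroup.centralizer ({(1 : G)} : Set G) :=
  Subgroup.mem_centralizer_singleton_iff.mpr (by simp)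

/-- The centralizer of the identity is the group. -/
def oneEquiv (G : Type u) [Group G] : Subgroup.centralizer ({(1 : G)} : Set G) ≃* G where
  toFun h := h
  invFun g := ⟨g, mem_centralizer_one g⟩
  left_inv _ := rfl
  right_inv _ := rfl
  map_mul' _ _ := rfl

theorem inducedCentralChar_one (ξ : Cfsg.IrrCharacter (Subgroup.centralizer ({(1 : G)} : Set G)))
    (g : G) :
    Cfsg.inducedCentralChar (Subgroup.centralizer ({(1 : G)} : Set G)) (ξ : _ → ℂ) g =
      Cfsg.centralChar (pushIrr (oneEquiv G) ξ : G → ℂ) g := by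
  classical
  set χ := pushIrr (oneEquiv G) ξ with hχ
  have hv : ∀ k : Subgroup.centralizer ({(1 : G)} : Set G),
      (ξ : _ → ℂ) k = (χ : G → ℂ) (k : G) := fun _ => rfl
  rw [Cfsg.inducedCentralChar, Cfsg.centralChar,
    finsum_mem_eq_finite_toFinset_sum _ (Set.toFinite _)]
  have hcls : ∀ k ∈ (Set.toFinite
      {k : Subgroup.centralizer ({(1 : G)} : Set G) | IsConj g (k : G)}).toFinset,
      (ξ : Subgroup.centralizer ({(1 : G)} : Set G) → ℂ) k /
        (ξ : Subgroup.centralizer ({(1 : G)} : Set G) → ℂ) 1 =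
          (χ : G → ℂ) g / (χ : G → ℂ) 1 := by
    intro k hk
    obtain ⟨t, ht⟩ := isConj_iff.mp
      (show IsConj g (k : G) by simpa using hk)
    rw [hv, hv, OneMemClass.coe_one, ← ht, Cfsg.Agent.Lib.Blocks.char_conj_apply]
  rw [Finset.sum_congr rfl hcls, Finset.sum_const, nsmul_eq_mul, mul_div_assoc]
  congr 2
  rw [← BrauerMap.ClassSum.card_isConj, ← Set.ncard_eq_toFinset_card _ (Set.toFinite _),
    ← Nat.card_coe_set_eq]
  exact Nat.card_congr ((oneEquiv G).toEquiv.subtypeEquiv fun k => Iff.rfl)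

/-- The blocks of `C(1)` inducing `B` contribute the rank of `B`. -/
theorem sum_indBlocks_one (hM : Cfsg.IsPModular p M) {B : Set (Cfsg.IrrCharacter G)}
    (hB : Cfsg.IsPBlock M B) :
    ∑ b ∈ indBlocks M (1 : G) B, Cfsg.blockRank p b = Cfsg.blockRank p B := by
  classical
  set C := Subgroup.centralizer ({(1 : G)} : Set G) with hC
  set θ := oneEquiv G with hθ
  haveI := charP_res hM
  have hpush : ∀ ξ ξ' : Cfsg.IrrCharacter C,
      blkOf M ξ = blkOf M ξ' ↔ blkOf M (pushIrr θ ξ) = blkOf M (pushIrr θ ξ') := by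
    intro ξ ξ'
    rw [blkOf_pushIrr, blkOf_pushIrr]
    refine ⟨fun h => by rw [h], fun h => AlgHom.ext fun z => ?_⟩
    have h1 := DFunLike.congr_fun h (zMap θ z)
    simp only [AlgHom.comp_apply] at h1
    rwa [zMap_symm] at h1
  have hinv : ∀ χ : Cfsg.IrrCharacter G, pushIrr θ (pushIrr θ.symm χ) = χ := fun χ =>
    Subtype.ext (funext fun g => by
      rw [pushIrr_apply, pushIrr_apply, MulEquiv.symm_symm, MulEquiv.apply_symm_apply])
  obtain ⟨χ₀, hχ₀⟩ := Cfsg.Agent.Lib.Blocks.isPBlock_nonempty hB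
  set e : Set (Cfsg.IrrCharacter C) := {ξ | pushIrr θ ξ ∈ B} with he
  have hmemB : ∀ χ : Cfsg.IrrCharacter G, χ ∈ B ↔ blkOf M χ = blk hB := fun χ => by
    rw [← mem_toSet, toSet_blk]
  have heblk : e = toSet (blkOf M (pushIrr θ.symm χ₀)) := by
    ext ξ
    rw [mem_toSet, hpush, hinv]
    show pushIrr θ ξ ∈ B ↔ _
    rw [hmemB, blkOf_of_mem hB hχ₀]
  have hind : Cfsg.IsInducedBlock M C e B := by
    refine ⟨heblk ▸ isPBlock_toSet _, hB, fun ξ hξ χ hχ g => ?_⟩
    rw [inducedCentralChar_one]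
    have h1 := Cfsg.Agent.Lib.Blocks.sameBlock_iff_omegaBar.mpr
      ((blkOf_of_mem hB (show pushIrr θ ξ ∈ B from hξ)).trans (blkOf_of_mem hB hχ).symm)
    exact h1 g
  have huniq : indBlocks M (1 : G) B = {e} := by
    ext b
    rw [Finset.mem_singleton, mem_indBlocks]
    refine ⟨fun hb => ?_, fun hb => hb ▸ hind⟩
    obtain ⟨ξ, hξ⟩ := Cfsg.Agent.Lib.Blocks.isPBlock_nonempty hb.1
    have hsame : Cfsg.SameBlock M (pushIrr θ ξ : G → ℂ) (χ₀ : G → ℂ) := fun g => by
      rw [← inducedCentralChar_one]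
      exact hb.2.2 ξ hξ χ₀ hχ₀ g
    have hξe : ξ ∈ e := by
      show pushIrr θ ξ ∈ B
      rw [hmemB, ← blkOf_of_mem hB hχ₀]
      exact Cfsg.Agent.Lib.Blocks.sameBlock_iff_omegaBar.mp hsame
    rw [Cfsg.Agent.Lib.Blocks.isPBlock_eq_blockOf hb.1 hξ,
      Cfsg.Agent.Lib.Blocks.isPBlock_eq_blockOf hind.1 hξe]
  rw [huniq, Finset.sum_singleton]
  let L : (G → ℂ) →ₗ[ℂ] (C → ℂ) := LinearMap.funLeft ℂ ℂ C.subtype
  have hinj : Function.Injective L := LinearMap.funLeft_injective_of_surjective ℂ ℂ _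
    fun g => ⟨⟨g, mem_centralizer_one g⟩, rfl⟩
  have himg : (regSpan p B).map L = regSpan p e := by
    rw [regSpan, regSpan, Submodule.map_span, Set.image_image]
    refine congrArg (Submodule.span ℂ) (Set.Subset.antisymm ?_ ?_)
    · rintro _ ⟨χ, hχ, rfl⟩
      refine ⟨pushIrr θ.symm χ, show pushIrr θ (pushIrr θ.symm χ) ∈ B by rw [hinv]; exact hχ, ?_⟩
      funext y
      show Cfsg.pRegularPart p (pushIrr θ.symm χ : C → ℂ) y =
        Cfsg.pRegularPart p (χ : G → ℂ) (y : G)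
      rw [pRegularPart_apply, pRegularPart_apply, Subgroup.orderOf_coe]
      rfl
    · rintro _ ⟨ξ, hξ, rfl⟩
      refine ⟨pushIrr θ ξ, hξ, ?_⟩
      funext y
      show Cfsg.pRegularPart p (pushIrr θ ξ : G → ℂ) (y : G) =
        Cfsg.pRegularPart p (ξ : C → ℂ) y
      rw [pRegularPart_apply, pRegularPart_apply, Subgroup.orderOf_coe]
      rfl
  show Module.finrank ℂ (regSpan p e) = Module.finrank ℂ (regSpan p B)
  rw [← himg]
  exact ((Submodule.equivMapOfInjective L hinj (regSpan p B)).finrank_eq).symm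

end One

/-! ### The other sections -/

section Local

variable {P : Subgroup G} {c : Blk (Res M) (Subgroup.centralizer (P : Set G))}

theorem le_centralizer_zpowers (hab : ∀ x ∈ P, ∀ y ∈ P, x * y = y * x) {u : G} (hu : u ∈ P) :
    P ≤ C[Subgroup.zpowers u] :=
  le_centralizer_of_le_abelian hab (Subgroup.zpowers_le.mpr hu)

/-- The maximal pair seen in `C(u)`. -/
noncomputable def localPair (c : Blk (Res M) (Subgroup.centralizer (P : Set G)))
    (hab : ∀ x ∈ P, ∀ y ∈ P, x * y = y * x) {u : G} (hu : u ∈ P) :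
    Idx (Res M) C[Subgroup.zpowers u] :=
  ⟨P.subgroupOf C[Subgroup.zpowers u],
    down (le_centralizer_zpowers hab hu) (centralizer_anti (Subgroup.zpowers_le.mpr hu)) c⟩

theorem isPGroup_localPair (hP : IsPGroup p P) (hab : ∀ x ∈ P, ∀ y ∈ P, x * y = y * x) {u : G}
    (hu : u ∈ P) : IsPGroup p (localPair c hab hu).1 :=
  hP.of_equiv (Subgroup.subgroupOfEquivOfLe (le_centralizer_zpowers hab hu)).symm

variable [CharP (Res M) p]

/-- The block of `C(u)` below the maximal pair. -/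
noncomputable def localBlk (c : Blk (Res M) (Subgroup.centralizer (P : Set G)))
    (hP : IsPGroup p P) (hab : ∀ x ∈ P, ∀ y ∈ P, x * y = y * x) {u : G} (hu : u ∈ P) :
    Blk (Res M) C[Subgroup.zpowers u] :=
  pairBlk (isPGroup_localPair (c := c) hP hab hu)

theorem pairOf_localBlk (hP : IsPGroup p P) (hab : ∀ x ∈ P, ∀ y ∈ P, x * y = y * x) {u : G}
    (hu : u ∈ P) : PairOf p (localBlk c hP hab hu) (localPair c hab hu) :=
  pairOf_iff.mpr ⟨isPGroup_localPair hP hab hu, rfl⟩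

theorem le_localBlk (hP : IsPGroup p P) (hab : ∀ x ∈ P, ∀ y ∈ P, x * y = y * x) {u : G}
    (hu : u ∈ P) :
    Le p (⟨Subgroup.zpowers u, localBlk c hP hab hu⟩ : Idx (Res M) G) ⟨P, c⟩ :=
  le_of_pairOf hP (le_centralizer_zpowers hab hu) (Subgroup.zpowers_le.mpr hu)
    (pairOf_localBlk hP hab hu)

theorem top_localPair (htop : Top p (⟨P, c⟩ : Idx (Res M) G))
    (hab : ∀ x ∈ P, ∀ y ∈ P, x * y = y * x) {u : G} (hu : u ∈ P) :
    Top p (localPair c hab hu) :=
  top_down_of_top (le_centralizer_zpowers hab hu)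
    (centralizer_anti (Subgroup.zpowers_le.mpr hu)) c htop

/-- A local block with trivial inertial quotient has rank one. -/
theorem blockRank_localBlk (hM : Cfsg.IsPModular p M) (htop : Top p (⟨P, c⟩ : Idx (Res M) G))
    (hab : ∀ x ∈ P, ∀ y ∈ P, x * y = y * x) {u : G} (hu : u ∈ P)
    (hfree : ∀ x ∈ stab (⟨P, c⟩ : Idx (Res M) G), x * u = u * x → x ∈ C[P]) :
    Cfsg.blockRank p (toSet (localBlk c htop.1 hab hu)) = 1 ∧
      Nat.card (toSet (localBlk c htop.1 hab hu)) = Nat.card P := by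
  have h := RankAbelian.good hM (G := C[Subgroup.zpowers u]) _ _ _ (top_localPair htop hab hu)
    (pairOf_localBlk htop.1 hab hu) (fun x hx y hy => Subtype.ext (hab _ hx _ hy)) fun x hx =>
      (mem_centralizer_subgroupOf_iff (le_centralizer_zpowers hab hu) x).mpr
        (hfree _ ((mem_stab_down_iff (le_centralizer_zpowers hab hu)
          (centralizer_anti (Subgroup.zpowers_le.mpr hu)) c x).mp hx)
          ((Subgroup.mem_centralizer_iff.mp x.2 u (Subgroup.mem_zpowers u)).symm))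
  refine ⟨h.1, h.2.trans ?_⟩
  exact Nat.card_congr (Subgroup.subgroupOfEquivOfLe (le_centralizer_zpowers hab hu)).toEquiv

/-- The defect of a local block. -/
theorem blockDefect_localBlk (hM : Cfsg.IsPModular p M) {ψ : Blk (Res M) G}
    (htop : Top p (⟨P, c⟩ : Idx (Res M) G)) (hψ : PairOf p ψ (⟨P, c⟩ : Idx (Res M) G))
    (hab : ∀ x ∈ P, ∀ y ∈ P, x * y = y * x) {u : G} (hu : u ∈ P) :
    Cfsg.blockDefect p (toSet (localBlk c htop.1 hab hu)) = Cfsg.blockDefect p (toSet ψ) := by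
  refine Nat.pow_right_injective (Fact.out : p.Prime).two_le ?_
  show p ^ _ = p ^ _
  rw [← card_top hM (top_localPair htop hab hu) (pairOf_localBlk htop.1 hab hu),
    ← card_top hM htop hψ]
  exact Nat.card_congr (Subgroup.subgroupOfEquivOfLe (le_centralizer_zpowers hab hu)).toEquiv

theorem isInducedBlock_localBlk (hM : Cfsg.IsPModular p M) {ψ : Blk (Res M) G}
    (hP : IsPGroup p P) (hψ : PairOf p ψ (⟨P, c⟩ : Idx (Res M) G))
    (hab : ∀ x ∈ P, ∀ y ∈ P, x * y = y * x) {u : G} (hu : u ∈ P) :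
    Cfsg.IsInducedBlock M C[Subgroup.zpowers u] (toSet (localBlk c hP hab hu)) (toSet ψ) := by
  have h := isInducedBlock_pairSet hM
    (a := (⟨Subgroup.zpowers u, localBlk c hP hab hu⟩ : Idx (Res M) G))
    ((pairOf_iff_of_le hP (le_localBlk hP hab hu) ψ).mpr hψ)
    (H := C[Subgroup.zpowers u]) rfl
  rwa [show pairSet (⟨Subgroup.zpowers u, localBlk c hP hab hu⟩ : Idx (Res M) G)
    C[Subgroup.zpowers u] = toSet (localBlk c hP hab hu) from pairSet_eq _] at h

omit [CharP (Res M) p] in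
theorem blockRank_transport {H H' : Type u} [Group H] [Group H'] [Finite H] [Finite H']
    (θ : H ≃* H') (ω : Blk (Res M) H) :
    Cfsg.blockRank p (toSet (ω.comp (zMap θ.symm))) = Cfsg.blockRank p (toSet ω) := by
  let L : (H → ℂ) →ₗ[ℂ] (H' → ℂ) := LinearMap.funLeft ℂ ℂ θ.symm
  have hinj : Function.Injective L :=
    LinearMap.funLeft_injective_of_surjective ℂ ℂ _ θ.symm.surjective
  have hb : ∀ ξ : Cfsg.IrrCharacter H,
      pushIrr θ ξ ∈ toSet (ω.comp (zMap θ.symm)) ↔ ξ ∈ toSet ω := by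
    intro ξ
    rw [mem_toSet, mem_toSet, blkOf_pushIrr]
    refine ⟨fun h => AlgHom.ext fun z => ?_, fun h => by rw [h]⟩
    have h1 := DFunLike.congr_fun h (zMap θ z)
    simp only [AlgHom.comp_apply] at h1
    rwa [zMap_symm] at h1
  have himg : (regSpan p (toSet ω)).map L = regSpan p (toSet (ω.comp (zMap θ.symm))) := by
    rw [regSpan, regSpan, Submodule.map_span, Set.image_image]
    refine congrArg (Submodule.span ℂ) (Set.Subset.antisymm ?_ ?_)
    · rintro _ ⟨ξ, hξ, rfl⟩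
      refine ⟨pushIrr θ ξ, (hb ξ).mpr hξ, funext fun y => ?_⟩
      show Cfsg.pRegularPart p (pushIrr θ ξ : H' → ℂ) y =
        Cfsg.pRegularPart p (ξ : H → ℂ) (θ.symm y)
      rw [pRegularPart_apply, pRegularPart_apply, MulEquiv.orderOf_eq, pushIrr_apply]
    · rintro _ ⟨ξ', hξ', rfl⟩
      have e : pushIrr θ (pushIrr θ.symm ξ') = ξ' := Subtype.ext (funext fun y => by
        rw [pushIrr_apply, pushIrr_apply, MulEquiv.symm_symm, MulEquiv.apply_symm_apply])
      refine ⟨pushIrr θ.symm ξ', (hb _).mp (by rw [e]; exact hξ'), funext fun y => ?_⟩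
      show Cfsg.pRegularPart p (pushIrr θ.symm ξ' : H → ℂ) (θ.symm y) =
        Cfsg.pRegularPart p (ξ' : H' → ℂ) y
      rw [pRegularPart_apply, pRegularPart_apply, MulEquiv.orderOf_eq, pushIrr_apply,
        MulEquiv.symm_symm, MulEquiv.apply_symm_apply]
  show Module.finrank ℂ (regSpan p (toSet (ω.comp (zMap θ.symm)))) =
    Module.finrank ℂ (regSpan p (toSet ω))
  rw [← himg]
  exact ((Submodule.equivMapOfInjective L hinj _).finrank_eq).symm

omit [CharP (Res M) p] in
theorem blockRank_cPair (g : G) (a : Idx (Res M) G) :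
    Cfsg.blockRank p (toSet (cPair g a).2) = Cfsg.blockRank p (toSet a.2) :=
  blockRank_transport (conjEquiv g C[a.1] _ (mem_centralizer_map_iff g a.1)) a.2

omit [CharP (Res M) p] in
theorem eq_pairSet {x : G} {e : Set (Cfsg.IrrCharacter (Subgroup.centralizer ({x} : Set G)))}
    (he : Cfsg.IsPBlock M e) :
    ∃ a : Idx (Res M) G, a.1 = Subgroup.zpowers x ∧
      e = pairSet a (Subgroup.centralizer ({x} : Set G)) := by
  suffices ∀ (H : Subgroup G) (e : Set (Cfsg.IrrCharacter H)), Cfsg.IsPBlock M e →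
      H = C[Subgroup.zpowers x] →
        ∃ a : Idx (Res M) G, a.1 = Subgroup.zpowers x ∧ e = pairSet a H from
    this _ e he (Cfsg.Agent.Lib.BrauerMap.PrincipalSection.centralizer_zpowers_eq x).symm
  rintro H e he rfl
  exact ⟨⟨Subgroup.zpowers x, blk he⟩, rfl, by rw [pairSet_eq, toSet_blk]⟩

omit [CharP (Res M) p] in
theorem pairOf_of_isInducedBlock [CharP (Res M) p] {ψ : Blk (Res M) G} {a : Idx (Res M) G}
    (ha : IsPGroup p a.1) {H : Subgroup G} (hH : H = C[a.1])
    (h : Cfsg.IsInducedBlock M H (pairSet a H) (toSet ψ)) : PairOf p ψ a := by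
  subst hH
  rw [pairSet_eq] at h
  have := (InducedPair.isInducedBlock_iff ha (isPBlock_toSet _) (isPBlock_toSet _)).mp h
  rwa [blk_toSet, blk_toSet] at this

/-- `R` represents the orbits of the stabilizer on the nonidentity elements of `P`. -/
structure OrbitReps (p : ℕ) (b : Idx (Res M) G) (R : Finset G) : Prop where
  mem : ∀ r ∈ R, r ∈ b.1
  ne_one : ∀ r ∈ R, r ≠ 1
  exists_conj : ∀ u ∈ b.1, u ≠ 1 → ∃ r ∈ R, ∃ t ∈ stab b, t * u * t⁻¹ = r
  unique : ∀ r ∈ R, ∀ s ∈ R, ∀ t ∈ stab b, t * r * t⁻¹ = s → r = s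

open scoped Classical in
/-- Some set of orbit representatives. -/
theorem exists_orbitReps (b : Idx (Res M) G) :
    ∃ R : Finset G, OrbitReps p b R := by
  haveI := Fintype.ofFinite G
  let Rel : G → G → Prop := fun u v => ∃ t ∈ stab b, t * u * t⁻¹ = v
  have hr : Equivalence Rel := by
    refine ⟨fun u => ⟨1, one_mem _, by simp⟩, ?_, ?_⟩
    · rintro u v ⟨t, ht, rfl⟩
      exact ⟨t⁻¹, inv_mem ht, by group⟩
    · rintro u v w ⟨t, ht, rfl⟩ ⟨s, hs, rfl⟩
      exact ⟨s * t, mul_mem hs ht, by group⟩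
  let q : Setoid G := ⟨Rel, hr⟩
  let r : G → G := fun u => (Quotient.mk q u).out
  have hru : ∀ u, Rel u (r u) := fun u => hr.symm (Quotient.mk_out (s := q) u)
  have hmem : ∀ u ∈ b.1, ∀ v, Rel u v → v ∈ b.1 := by
    rintro u hu v ⟨t, ht, rfl⟩
    exact (Subgroup.mem_normalizer_iff.mp (stab_le_normalizer b ht) u).mp hu
  refine ⟨(Finset.univ.filter fun u : G => u ∈ b.1 ∧ u ≠ 1).image r, ⟨?_, ?_, ?_, ?_⟩⟩
  · intro v hv
    obtain ⟨u, hu, rfl⟩ := Finset.mem_image.mp hv
    exact hmem u (Finset.mem_filter.mp hu).2.1 _ (hru u)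
  · intro v hv
    obtain ⟨u, hu, rfl⟩ := Finset.mem_image.mp hv
    obtain ⟨t, -, ht⟩ := hru u
    intro h1
    rw [h1, conj_eq_one_iff] at ht
    exact (Finset.mem_filter.mp hu).2.2 ht
  · intro u hu hu1
    exact ⟨r u, Finset.mem_image.mpr ⟨u, Finset.mem_filter.mpr ⟨Finset.mem_univ _, hu, hu1⟩, rfl⟩,
      hru u⟩
  · intro v hv w hw t ht htv
    obtain ⟨u, -, rfl⟩ := Finset.mem_image.mp hv
    obtain ⟨u', -, rfl⟩ := Finset.mem_image.mp hw
    exact congrArg Quotient.out (Quotient.sound (s := q)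
      (hr.trans (hru u) (hr.trans ⟨t, ht, htv⟩ (hr.symm (hru u')))))

/-- **The count**: `k(B) = l(B) + ∑ l(f_r)`. -/
theorem card_eq (hM : Cfsg.IsPModular p M) {ψ : Blk (Res M) G}
    (htop : Top p (⟨P, c⟩ : Idx (Res M) G)) (hψ : PairOf p ψ (⟨P, c⟩ : Idx (Res M) G))
    (hab : ∀ x ∈ P, ∀ y ∈ P, x * y = y * x) {R : Finset G}
    (hR : OrbitReps p (⟨P, c⟩ : Idx (Res M) G) R) :
    Nat.card (toSet ψ) = Cfsg.blockRank p (toSet ψ) +
      ∑ r ∈ R.attach,
        Cfsg.blockRank p (toSet (localBlk c htop.1 hab (hR.mem r.1 r.2))) := by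
  classical
  haveI := Fintype.ofFinite G
  have hP := htop.1
  have hB := isPBlock_toSet ψ
  obtain ⟨X, hX1, hX, hXrep⟩ := exists_reps (G := G) p
  have hsum := card_eq_sum hM X hX hXrep hB
  rw [← Finset.add_sum_erase X _ hX1, sum_indBlocks_one hM hB,
    Finset.sum_sigma' (X.erase 1) (fun y => indBlocks M y (toSet ψ))
      (fun y e => Cfsg.blockRank p e)] at hsum
  rw [hsum]
  congr 1
  have hpel : ∀ r : {r // r ∈ R}, ∃ k : ℕ, orderOf (r : G) = p ^ k := fun r => by
    obtain ⟨k, hk⟩ := IsPGroup.iff_orderOf.mp hP ⟨r, hR.mem r.1 r.2⟩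
    exact ⟨k, (Subgroup.orderOf_coe (⟨r, hR.mem r.1 r.2⟩ : P)).trans hk⟩
  choose x hx hxconj using fun r : {r // r ∈ R} => (hXrep (r : G) (hpel r)).exists
  choose g hg using fun r : {r // r ∈ R} => isConj_iff.mp (hxconj r)
  let A : {r // r ∈ R} → Idx (Res M) G := fun r =>
    ⟨Subgroup.zpowers (r : G), localBlk c hP hab (hR.mem r.1 r.2)⟩
  let a' : {r // r ∈ R} → Idx (Res M) G := fun r => cPair (g r) (A r)
  have ha1 : ∀ r, (a' r).1 = Subgroup.zpowers (x r) := fun r => by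
    show (Subgroup.zpowers (r : G)).map (MulAut.conj (g r)).toMonoidHom = _
    rw [MonoidHom.map_zpowers, ← hg r]
    rfl
  have hApair : ∀ r, PairOf p ψ (a' r) := fun r =>
    pairOf_cPair ((pairOf_iff_of_le hP (le_localBlk hP hab _) ψ).mpr hψ) (g r)
  symm
  refine Finset.sum_bij (fun r _ => ⟨x r, pairSet (a' r) (Subgroup.centralizer ({x r} : Set G))⟩)
    (fun r _ => ?_) (fun r _ s _ hrs => ?_) (fun s hs => ?_) (fun r _ => ?_)
  · refine Finset.mem_sigma.mpr ⟨Finset.mem_erase.mpr ⟨fun e => hR.ne_one r.1 r.2 ?_, hx r⟩, ?_⟩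
    · have e1 := hg r
      rwa [show x r = 1 from e, conj_eq_one_iff] at e1
    · exact mem_indBlocks.mpr
        (isInducedBlock_pairSet hM (hApair r) (eq_centralizer_of_eq_zpowers (ha1 r)))
  · have hxe : x r = x s := congrArg Sigma.fst hrs
    have he : a' r = a' s := eq_of_sigma_eq (ha1 r) (ha1 s) hrs
    set k := (g s)⁻¹ * g r with hk
    have hkA : cPair k (A r) = A s := by
      rw [hk, cPair_mul]
      show cPair (g s)⁻¹ (a' r) = _
      rw [he]
      show cPair (g s)⁻¹ (cPair (g s) (A s)) = _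
      rw [← cPair_mul, inv_mul_cancel, cPair_one]
    obtain ⟨z, hz, hzk⟩ := exists_mul_mem_stab htop hab (le_localBlk hP hab (hR.mem r.1 r.2))
      (g := k) (by
        show Le p (cPair k (A r)) _
        rw [hkA]; exact le_localBlk hP hab _)
    have hz' : (s : G) * z = z * (s : G) := by
      have h1 : z ∈ C[(cPair k (A r)).1] := hz
      rw [hkA] at h1
      exact Subgroup.mem_centralizer_iff.mp h1 (s : G) (Subgroup.mem_zpowers (s : G))
    refine Subtype.ext (hR.unique r.1 r.2 s.1 s.2 (z * k) hzk ?_)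
    have e1 := hg r
    rw [hxe, ← hg s] at e1
    calc z * k * (r : G) * (z * k)⁻¹ =
          z * ((g s)⁻¹ * (g r * (r : G) * (g r)⁻¹) * g s) * z⁻¹ := by rw [hk]; group
      _ = z * (s : G) * z⁻¹ := by rw [e1]; group
      _ = (s : G) := by rw [← hz', mul_inv_cancel_right]
  · obtain ⟨y, e⟩ := s
    obtain ⟨hy, hey⟩ := Finset.mem_sigma.mp hs
    obtain ⟨hy1, hyX⟩ := Finset.mem_erase.mp hy
    have hind : Cfsg.IsInducedBlock M (Subgroup.centralizer ({y} : Set G)) e (toSet ψ) :=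
      mem_indBlocks.mp hey
    clear hey hs
    obtain ⟨a, ha, rfl⟩ := eq_pairSet hind.1
    obtain ⟨j, hj⟩ := hX y hyX
    have hap : IsPGroup p a.1 := by
      rw [ha]
      exact IsPGroup.of_card (n := j) (by rw [Nat.card_zpowers, hj])
    have hpair := pairOf_of_isInducedBlock hap (eq_centralizer_of_eq_zpowers ha) hind
    obtain ⟨t, ht⟩ := exists_le_conj_top hpair htop hψ
    have hu : t * y * t⁻¹ ∈ P :=
      ht.subgroup_le ⟨y, ha ▸ Subgroup.mem_zpowers y, rfl⟩
    obtain ⟨r, hrR, v, hv, hvr⟩ := hR.exists_conj _ hu (fun h => hy1 (conj_eq_one_iff.mp h))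
    have h2 := le_cPair v ht
    rw [mem_stab.mp hv, ← cPair_mul] at h2
    have e0 : (v * t) * y * (v * t)⁻¹ = r := by rw [← hvr]; group
    have e2 : cPair (v * t) a = A ⟨r, hrR⟩ := by
      refine Fusion.eq_of_le_of_le hP ?_ h2 (le_localBlk hP hab (hR.mem r hrR))
      show a.1.map (MulAut.conj (v * t)).toMonoidHom = Subgroup.zpowers r
      rw [ha, MonoidHom.map_zpowers, ← e0]
      rfl
    have hxy : x ⟨r, hrR⟩ = y :=
      (hXrep r (hpel ⟨r, hrR⟩)).unique ⟨hx ⟨r, hrR⟩, hxconj ⟨r, hrR⟩⟩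
        ⟨hyX, (isConj_iff.mpr ⟨v * t, e0⟩).symm⟩
    refine ⟨⟨r, hrR⟩, Finset.mem_attach _ _, ?_⟩
    -- the conjugating element centralizes `y`
    set w := g ⟨r, hrR⟩ * (v * t) with hw
    have hwy : w ∈ C[a.1] := by
      rw [ha, Cfsg.Agent.Lib.BrauerMap.SecondMain.mem_centralizer_zpowers_iff]
      show w * y = y * w
      have e1 := hg ⟨r, hrR⟩
      rw [hxy] at e1
      simp only at e1
      calc w * y = g ⟨r, hrR⟩ * ((v * t) * y * (v * t)⁻¹) * (v * t) := by rw [hw]; group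
        _ = g ⟨r, hrR⟩ * r * (v * t) := by rw [e0]
        _ = g ⟨r, hrR⟩ * r * (g ⟨r, hrR⟩)⁻¹ * w := by rw [hw]; group
        _ = y * w := by rw [e1]
    have hae : a' ⟨r, hrR⟩ = a := by
      show cPair (g ⟨r, hrR⟩) (A ⟨r, hrR⟩) = a
      rw [← e2, ← cPair_mul]
      exact cPair_of_mem_centralizer hwy
    rw [hae, hxy]
  · rw [blockRank_pairSet _ (eq_centralizer_of_eq_zpowers (ha1 r))]
    exact (blockRank_cPair (g r) (A r)).symm

/-- With free action all the local blocks have rank one. -/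
theorem card_eq_of_free (hM : Cfsg.IsPModular p M) {ψ : Blk (Res M) G}
    (htop : Top p (⟨P, c⟩ : Idx (Res M) G)) (hψ : PairOf p ψ (⟨P, c⟩ : Idx (Res M) G))
    (hab : ∀ x ∈ P, ∀ y ∈ P, x * y = y * x)
    (hfree : ∀ x ∈ stab (⟨P, c⟩ : Idx (Res M) G), ∀ u ∈ P, u ≠ 1 → x * u = u * x → x ∈ C[P])
    {R : Finset G} (hR : OrbitReps p (⟨P, c⟩ : Idx (Res M) G) R) :
    Nat.card (toSet ψ) = Cfsg.blockRank p (toSet ψ) + R.card := by
  rw [card_eq hM htop hψ hab hR, ← Finset.card_attach, Finset.card_eq_sum_ones]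
  congr 1
  exact Finset.sum_congr rfl fun r _ => (blockRank_localBlk hM htop hab (hR.mem r.1 r.2)
    fun x hx h => hfree x hx r.1 (hR.mem r.1 r.2) (hR.ne_one r.1 r.2) h).1

end Local

end Cfsg.Agent.Lib.BrauerPairs.SubsectionCount
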