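import Mathlib

/-!
# Groups of automorphisms of order prime to p of a cyclic p-group
-/

set_option autoImplicit false

namespace Cfsg.Agent.Lib.BrauerPairs.CyclicAut

universe u

variable {P : Type u} [Group P] [Finite P] {p : ℕ} [Fact p.Prime]

theorem exists_omega (hP : IsPGroup p P) (hc : IsCyclic P) [Nontrivial P] :
    ∃ (a : P) (k : ℕ), (∀ x, x ∈ Subgroup.zpowers a) ∧ orderOf a = p ^ (k + 1) ∧
      orderOf (a ^ p ^ k) = p ∧
      (∀ x : P, x ^ p = 1 → ∃ i : ℕ, (a ^ p ^ k) ^ i = x) := by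
  have hp : p.Prime := Fact.out
  obtain ⟨a, ha⟩ := hc.exists_generator
  obtain ⟨n, hn⟩ := IsPGroup.iff_card.mp hP
  have hcard : orderOf a = p ^ n := by
    rw [← hn]; exact orderOf_eq_card_of_forall_mem_zpowers ha
  rcases n with _ | k
  · exact absurd hn (by simpa using (Finite.one_lt_card (α := P)).ne')
  refine ⟨a, k, ha, hcard, ?_, fun x hx => ?_⟩
  · rw [orderOf_pow_of_dvd (pow_ne_zero _ hp.ne_zero) (by rw [hcard, pow_succ]; exact dvd_mul_right _ _),
      hcard, pow_succ, Nat.mul_div_cancel_left _ (pow_pos hp.pos _)]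
  · obtain ⟨i, rfl⟩ := (Submonoid.mem_powers_iff _ _).mp
      ((isOfFinOrder_of_finite a).mem_powers_iff_mem_zpowers.mpr (ha x))
    rw [← pow_mul, ← orderOf_dvd_iff_pow_eq_one, hcard, pow_succ] at hx
    obtain ⟨j, hj⟩ := Nat.dvd_of_mul_dvd_mul_right hp.pos hx
    exact ⟨j, by rw [← pow_mul, hj]⟩

/-- A group of automorphisms of order prime to `p` of a nontrivial cyclic p-group is cyclic, of
order dividing `p - 1`, and acts freely. -/
theorem cyclic_aut (hP : IsPGroup p P) (hc : IsCyclic P) [Nontrivial P]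
    (A : Subgroup (MulAut P)) (hA : ¬ p ∣ Nat.card A) :
    IsCyclic A ∧ Nat.card A ∣ p - 1 ∧
      ∀ σ ∈ A, ∀ x : P, x ≠ 1 → σ x = x → σ = 1 := by
  classical
  have hp : p.Prime := Fact.out
  obtain ⟨a, k, ha, hord, hzord, hz⟩ := exists_omega hP hc
  set z := a ^ p ^ k with hzdef
  have hzp : z ^ p = 1 := by rw [← hzord]; exact pow_orderOf_eq_one z
  have hpow : ∀ i j : ℕ, z ^ i = z ^ j ↔ (i : ZMod p) = j := fun i j => by
    rw [pow_eq_pow_iff_modEq, hzord, ZMod.natCast_eq_natCast_iff]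
  have hex : ∀ σ : MulAut P, ∃ i : ℕ, z ^ i = σ z := fun σ =>
    hz _ (by rw [← map_pow, hzp, map_one])
  choose e he using hex
  let χ : MulAut P →* ZMod p :=
    { toFun := fun σ => (e σ : ZMod p)
      map_one' := by
        rw [← Nat.cast_one, ← hpow, he, pow_one, MulAut.one_apply]
      map_mul' := fun σ τ => by
        rw [← Nat.cast_mul, ← hpow, he, MulAut.mul_apply, ← he τ, map_pow, ← he σ, ← pow_mul] }
  have hker : ∀ σ ∈ A, σ z = z → σ = 1 := by
    intro σ hσ hσz
    obtain ⟨i, hi⟩ : ∃ i : ℕ, a ^ i = σ a := (Submonoid.mem_powers_iff _ _).mp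
      ((isOfFinOrder_of_finite a).mem_powers_iff_mem_zpowers.mpr (ha (σ a)))
    have hi1 : (p : ℤ) ∣ (i : ℤ) - 1 := by
      have h1 : z ^ i = z ^ 1 := by
        rw [pow_one]
        conv_rhs => rw [← hσz, hzdef, map_pow, ← hi]
        rw [hzdef, ← pow_mul, ← pow_mul, mul_comm]
      rw [hpow, ← sub_eq_zero] at h1
      have h2 : (((i : ℤ) - 1 : ℤ) : ZMod p) = 0 := by push_cast; simpa using h1
      exact (ZMod.intCast_zmod_eq_zero_iff_dvd _ _).mp h2
    have hiter : ∀ m : ℕ, (σ ^ m) a = a ^ i ^ m := by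
      intro m
      induction m with
      | zero => simp
      | succ m ih => rw [pow_succ', MulAut.mul_apply, ih, map_pow, ← hi, ← pow_mul, pow_succ']
    have hfix : (σ ^ p ^ k) a = a := by
      rw [hiter]
      conv_rhs => rw [← pow_one a]
      rw [pow_eq_pow_iff_modEq, hord, Nat.modEq_iff_dvd]
      have h3 := dvd_sub_pow_of_dvd_sub (R := ℤ) (p := p) (b := 1) hi1 k
      rw [one_pow] at h3
      rw [dvd_sub_comm]
      push_cast
      exact h3
    have h4 : σ ^ p ^ k = 1 := by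
      refine MulEquiv.ext fun x => ?_
      obtain ⟨j, rfl⟩ := Subgroup.mem_zpowers_iff.mp (ha x)
      rw [map_zpow, hfix, MulAut.one_apply]
    rw [← orderOf_eq_one_iff]
    refine Nat.eq_one_of_dvd_coprimes ?_ (orderOf_dvd_of_pow_eq_one h4)
      (A.orderOf_dvd_natCard hσ)
    exact Nat.Coprime.pow_left _ ((Nat.Prime.coprime_iff_not_dvd hp).mpr hA)
  set φ : A →* (ZMod p)ˣ := (χ.comp A.subtype).toHomUnits with hφ
  have hφinj : Function.Injective φ := by
    refine (injective_iff_map_eq_one φ).mpr fun σ hσ => ?_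
    have h1 : ((φ σ : (ZMod p)ˣ) : ZMod p) = 1 := by rw [hσ, Units.val_one]
    have h2 : (e (σ : MulAut P) : ZMod p) = ((1 : ℕ) : ZMod p) := by
      rw [Nat.cast_one]; exact h1
    rw [← hpow, he, pow_one] at h2
    exact Subtype.ext (hker _ σ.2 h2)
  refine ⟨isCyclic_of_injective φ hφinj, ?_, fun σ hσ x hx hσx => ?_⟩
  · have := Subgroup.card_dvd_of_injective φ hφinj
    rwa [Nat.card_eq_fintype_card (α := (ZMod p)ˣ), ZMod.card_units] at this
  · refine hker σ hσ ?_
    obtain ⟨n, hn⟩ := IsPGroup.iff_orderOf.mp hP x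
    rcases n with _ | n
    · exact absurd (orderOf_eq_one_iff.mp (by simpa using hn)) hx
    have hyo : orderOf (x ^ p ^ n) = p := by
      rw [orderOf_pow_of_dvd (pow_ne_zero _ hp.ne_zero)
        (by rw [hn, pow_succ]; exact dvd_mul_right _ _), hn, pow_succ,
        Nat.mul_div_cancel_left _ (pow_pos hp.pos _)]
    obtain ⟨i, hi⟩ := hz (x ^ p ^ n) (by
      conv_lhs => arg 2; rw [← hyo]
      exact pow_orderOf_eq_one _)
    have hfx : σ (z ^ i) = z ^ i := by rw [hi, map_pow, hσx]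
    have hie : z ∈ Subgroup.zpowers (z ^ i) := by
      have hc' : Subgroup.zpowers (z ^ i) = Subgroup.zpowers z := by
        refine Subgroup.eq_of_le_of_card_ge (Subgroup.zpowers_le.mpr
          (pow_mem (Subgroup.mem_zpowers z) i)) ?_
        rw [Nat.card_zpowers, Nat.card_zpowers, hi, hyo, hzord]
      rw [hc']
      exact Subgroup.mem_zpowers z
    obtain ⟨j, hj⟩ := Subgroup.mem_zpowers_iff.mp hie
    rw [← hj, map_zpow, hfx]

end Cfsg.Agent.Lib.BrauerPairs.CyclicAut
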