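import Mathlib
import Cfsg.Agent.Lib.BrauerPairs.Embed
import Cfsg.Agent.Lib.BrauerPairs.LocalDefect
import Cfsg.Agent.Lib.BrauerPairs.Bridge

/-!
# The inertial quotient of a maximal pair has order prime to p
-/

set_option autoImplicit false
set_option linter.style.haveILetI false

namespace Cfsg.Agent.Lib.BrauerPairs.Inertial

open MonoidAlgebra Cfsg.Agent.Lib.BrauerMap.Basic Cfsg.Agent.Lib.BrauerMap.ClassSum
open Cfsg.Agent.Lib.BrauerPairs.Center Cfsg.Agent.Lib.BrauerPairs.Trunc
open Cfsg.Agent.Lib.BrauerPairs.Conj Cfsg.Agent.Lib.BrauerPairs.Pairs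
open Cfsg.Agent.Lib.BrauerPairs.Maximal Cfsg.Agent.Lib.BrauerPairs.Embed
open Cfsg.Agent.Lib.BrauerPairs.Bridge (zMap_classSumC)

universe u v

variable {k : Type v} [Field k] [IsAlgClosed k] {G : Type u} [Group G] [Finite G]
variable {p : ℕ} [Fact p.Prime] [CharP k p]

local notation "C[" P "]" => Subgroup.centralizer (SetLike.coe P)

/-- The elements fixing `a`. -/
def fixer (a : MonoidAlgebra k G) : Subgroup G where
  carrier := {u | conjA u a = a}
  mul_mem' := fun {x y} hx hy => by
    show conjA (x * y) a = a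
    rw [conjA_mul, hy, hx]
  one_mem' := conjA_one a
  inv_mem' := fun {x} hx => by
    show conjA x⁻¹ a = a
    conv_lhs => rw [← (hx : conjA x a = a)]
    rw [← conjA_mul, inv_mul_cancel, conjA_one]

omit [IsAlgClosed k] in
theorem isFixedBy_of_le_fixer {R : Subgroup G} {a : MonoidAlgebra k G} (h : R ≤ fixer a) :
    IsFixedBy R a :=
  (isFixedBy_iff R a).mpr fun _ hu => h hu

/-- An element of p-power order fixing a block of `C(Q)` fixes one of the classes in the support
of its idempotent. -/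
theorem exists_coeff_fixed {Q : Subgroup G} (ω : Blk k C[Q]) {u : G}
    (hu : IsPGroup p (Subgroup.zpowers u)) (huN : u ∈ Subgroup.normalizer (Q : Set G))
    (hfix : conjA u (bext C[Q] ω) = bext C[Q] ω) :
    ∃ g : C[Q], (bidem ω).coeff g ≠ 0 ∧
      ∃ c ∈ C[Q], Commute (c * u) (g : G) := by
  classical
  haveI : Finite (ConjClasses C[Q]) := Quotient.finite _
  haveI := Fintype.ofFinite (ConjClasses C[Q])
  set R := Subgroup.zpowers u with hR
  have hRN : R ≤ Subgroup.normalizer (Q : Set G) := (Subgroup.zpowers_le).mpr huN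
  have hRf : R ≤ fixer (bext C[Q] ω) := (Subgroup.zpowers_le).mpr hfix
  let θ : R → (C[Q] ≃* C[Q]) := fun r =>
    conjEquiv (r : G) C[Q] C[Q] (mem_centralizer_conj_iff (hRN r.2))
  letI : MulAction R (ConjClasses C[Q]) :=
    { smul := fun r c => ConjClasses.map (θ r).toMonoidHom c
      one_smul := fun c => by
        induction c using Quotient.inductionOn with
        | h a =>
          refine congrArg ConjClasses.mk (Subtype.ext ?_)
          show ((1 : R) : G) * (a : G) * ((1 : R) : G)⁻¹ = a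
          simp
      mul_smul := fun r s c => by
        induction c using Quotient.inductionOn with
        | h a =>
          refine congrArg ConjClasses.mk (Subtype.ext ?_)
          show ((r * s : R) : G) * (a : G) * ((r * s : R) : G)⁻¹ =
            (r : G) * ((s : G) * (a : G) * (s : G)⁻¹) * (r : G)⁻¹
          simp [mul_assoc] }
  set f : ConjClasses C[Q] → k := fun c => (bidem ω).coeff c.out * ω (classSumC k c.out) with hf
  have hout : ∀ a : C[Q], IsConj a (ConjClasses.mk a).out := fun a =>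
    ConjClasses.mk_eq_mk_iff_isConj.mp (Quotient.out_eq (ConjClasses.mk a)).symm
  have hval : ∀ a : C[Q], f (ConjClasses.mk a) = (bidem ω).coeff a * ω (classSumC k a) := by
    intro a
    obtain ⟨x, hx⟩ := isConj_iff.mp (hout a)
    simp only [hf]
    have e : classSumC k (ConjClasses.mk a).out = classSumC k a :=
      Subtype.ext (classSum_eq_of_isConj (hout a).symm)
    rw [e, ← hx, (mem_center_iff_coeff _).1 (bidem_mem ω) x a]
  have hinv : ∀ (r : R) (c : ConjClasses C[Q]), f (r • c) = f c := by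
    intro r c
    induction c using Quotient.inductionOn with
    | h a =>
      show f (ConjClasses.mk (θ r a)) = f (ConjClasses.mk a)
      rw [hval, hval]
      have hr : conjA (r : G) (bext C[Q] ω) = bext C[Q] ω := hRf r.2
      have hb : cBlk (r : G) C[Q] C[Q] (mem_centralizer_conj_iff (hRN r.2)) ω = ω :=
        bext_injective _ (by rw [bext_cBlk]; exact hr)
      congr 1
      · have h1 := congrArg (fun z : MonoidAlgebra k G => z.coeff ((r : G) * a * (r : G)⁻¹)) hr
        rw [show (r : G) * (a : G) * (r : G)⁻¹ = ((θ r a : C[Q]) : G) from rfl] at h1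
        simp only [bext, coeff_ext] at h1
        rw [coeff_conjA] at h1
        have e : ((r : G))⁻¹ * ((θ r a : C[Q]) : G) * (r : G) = (a : G) := by
          show (r : G)⁻¹ * ((r : G) * (a : G) * (r : G)⁻¹) * (r : G) = (a : G)
          simp [mul_assoc]
        rw [e, coeff_ext] at h1
        exact h1.symm
      · conv_lhs => rw [← hb]
        show ω (zMap (θ r).symm (classSumC k (θ r a))) = _
        rw [zMap_classSumC, MulEquiv.symm_apply_apply]
  have hsum : ∑ c, f c = 1 := by
    have hx : idem ω = ∑ c : ConjClasses C[Q], (bidem ω).coeff c.out • classSumC k c.out := by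
      refine Subtype.ext ?_
      rw [AddSubmonoidClass.coe_finsetSum]
      exact eq_sum_classSum (bidem_mem ω)
    have h1 := apply_idem_self (k := k) ω
    rw [hx, map_sum] at h1
    rw [← h1]
    exact Finset.sum_congr rfl fun c _ => by rw [map_smul, smul_eq_mul]
  rw [Cfsg.Agent.Lib.BrauerMap.Basic.sum_eq_sum_fixed hu f hinv] at hsum
  obtain ⟨c, hc, hne⟩ := Finset.exists_ne_zero_of_sum_ne_zero (hsum.symm ▸ one_ne_zero)
  refine ⟨c.out, left_ne_zero_of_mul hne, ?_⟩
  have hcfix := (Finset.mem_filter.mp hc).2 ⟨u, Subgroup.mem_zpowers u⟩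
  rw [← Quotient.out_eq c] at hcfix
  obtain ⟨x, hx⟩ := isConj_iff.mp (ConjClasses.mk_eq_mk_iff_isConj.mp hcfix)
  refine ⟨(x : G), x.2, ?_⟩
  have h2 := congrArg Subtype.val hx
  have h3 : (x : G) * (u * (c.out : G) * u⁻¹) * (x : G)⁻¹ = (c.out : G) := h2
  show (x : G) * u * (c.out : G) = (c.out : G) * ((x : G) * u)
  calc (x : G) * u * (c.out : G)
      = (x : G) * (u * (c.out : G) * u⁻¹) * (x : G)⁻¹ * ((x : G) * u) := by
        simp [mul_assoc]
    _ = (c.out : G) * ((x : G) * u) := by rw [h3]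

omit [Finite G] in
theorem exists_pPart_mem {C : Subgroup G} {y u : G} (hy : IsOfFinOrder y)
    (hu : IsPGroup p (Subgroup.zpowers u)) (hyu : ∀ n : ℕ, u ^ n * (y ^ n)⁻¹ ∈ C) :
    ∃ n : ℕ, IsPGroup p (Subgroup.zpowers (y ^ n)) ∧ u * (y ^ n)⁻¹ ∈ C := by
  have hp : p.Prime := Fact.out
  obtain ⟨b, hb⟩ := IsPGroup.iff_orderOf.mp hu ⟨u, Subgroup.mem_zpowers u⟩
  rw [Subgroup.orderOf_mk] at hb
  obtain ⟨a, m, hm, hord⟩ :=
    Nat.exists_eq_pow_mul_and_not_dvd hy.orderOf_pos.ne' p hp.ne_one
  have hco : Nat.Coprime m (p ^ b) :=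
    Nat.Coprime.pow_right _ ((Nat.Prime.coprime_iff_not_dvd hp).mpr hm).symm
  obtain ⟨s, -, hs⟩ := Nat.exists_mul_mod_eq_of_coprime 1 hco (pow_ne_zero _ hp.ne_zero)
  refine ⟨m * s, fun x => ⟨a, Subtype.ext ?_⟩, ?_⟩
  · obtain ⟨i, hi⟩ := Subgroup.mem_zpowers_iff.mp x.2
    rw [SubmonoidClass.coe_pow, ← hi, OneMemClass.coe_one]
    have h1 : (y ^ (m * s)) ^ p ^ a = 1 := by
      rw [← pow_mul, show m * s * p ^ a = orderOf y * s by rw [hord]; ring, pow_mul,
        pow_orderOf_eq_one, one_pow]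
    rw [← zpow_natCast, ← zpow_mul, mul_comm i, zpow_mul, zpow_natCast, h1, one_zpow]
  · have e : u ^ (m * s) = u := by
      conv_rhs => rw [← pow_one u]
      rw [pow_eq_pow_iff_modEq, hb]
      exact hs
    have := hyu (m * s)
    rwa [e] at this

/-- An element of p-power order fixing a maximal pair lies in `P C(P)`. -/
theorem mem_sup_of_top {a : Idx k G} (ha : Top p a) {u : G}
    (huN : u ∈ Subgroup.normalizer (a.1 : Set G)) (hu : IsPGroup p (Subgroup.zpowers u))
    (hfix : conjA u (bext C[a.1] a.2) = bext C[a.1] a.2) : u ∈ a.1 ⊔ C[a.1] := by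
  obtain ⟨P, ω⟩ := a
  obtain ⟨g, hg, c, hc, hcomm⟩ := exists_coeff_fixed ω hu huN hfix
  set y := c * u with hy
  have hCn : ∀ n : ℕ, u ^ n * (y ^ n)⁻¹ ∈ C[P] := by
    intro n
    induction n with
    | zero => simp
    | succ n ih =>
      have h1 : u * (u ^ n * (y ^ n)⁻¹) * u⁻¹ ∈ C[P] :=
        (mem_centralizer_conj_iff huN _).mp ih
      have e : u ^ (n + 1) * (y ^ (n + 1))⁻¹ = u * (u ^ n * (y ^ n)⁻¹) * u⁻¹ * c⁻¹ := by
        rw [pow_succ' u, pow_succ' y, hy]
        simp [mul_assoc]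
      rw [e]
      exact mul_mem h1 (inv_mem hc)
  obtain ⟨n, hv, hvC⟩ := exists_pPart_mem (isOfFinOrder_of_finite y) hu hCn
  by_cases hvP : y ^ n ∈ P
  · have : u = u * (y ^ n)⁻¹ * y ^ n := by simp
    rw [this]
    exact mul_mem (Subgroup.mem_sup_right hvC) (Subgroup.mem_sup_left hvP)
  exfalso
  have hyN : y ∈ Subgroup.normalizer (P : Set G) :=
    mul_mem (Subgroup.centralizer_le_normalizer _ hc) huN
  have hyf : y ∈ fixer (bext C[P] ω) :=
    mul_mem ((isFixedBy_iff _ _).mp (isFixedBy_bext _ ω) c hc) hfix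
  set R := P ⊔ Subgroup.zpowers (y ^ n) with hR
  have hRN : R ≤ Subgroup.normalizer (P : Set G) :=
    sup_le Subgroup.le_normalizer ((Subgroup.zpowers_le).mpr (pow_mem hyN n))
  have hRp : IsPGroup p R :=
    ha.1.to_sup_of_normal_left' hv ((Subgroup.zpowers_le).mpr (pow_mem hyN n))
  have hlt : P < R := by
    refine lt_of_le_of_ne le_sup_left fun e => hvP ?_
    rw [e]
    exact Subgroup.mem_sup_right (Subgroup.mem_zpowers _)
  have hRf : R ≤ fixer (bext C[P] ω) :=
    sup_le (fun x hx => (isFixedBy_iff _ _).mp (LocalDefect.isFixedBy_self P _) x hx)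
      ((Subgroup.zpowers_le).mpr (pow_mem hyf n))
  have h0 := ((top_iff _).mp ha).2 R hRp hlt hRN (isFixedBy_of_le_fixer hRf)
  have hgR : (g : G) ∈ C[R] := by
    refine mem_centralizer_of_le (sup_le (mem_centralizer_singleton_of g.2) ?_)
    rw [Subgroup.zpowers_le, Subgroup.mem_centralizer_singleton_iff]
    exact (hcomm.pow_left n).eq
  exact hg ((coeff_ext _ _ g).symm.trans ((coeff_eq_zero_iff_br _).mp h0 g hgR))

end Cfsg.Agent.Lib.BrauerPairs.Inertial
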