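import Cfsg.Agent.Lib.Blocks.LocalRing
import Mathlib.LinearAlgebra.Matrix.NonsingularInverse

/-!
# Dimensions do not grow under reduction

`finrank_le_of_lift`: a space of functions to the residue field in which every element lifts to a
given space of complex functions has at most the dimension of that space.
-/

set_option autoImplicit false

namespace Cfsg.Agent.Lib.BrauerPairs.LiftRank

open Cfsg.Agent.Lib.Blocks (localRing residue residue_surjective)

attribute [local instance] Ideal.Quotient.field

variable {M : Ideal Cfsg.AlgInt} [M.IsMaximal] {X : Type*} [Fintype X]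

/-- Section of the residue map. -/
noncomputable def sec (r : Cfsg.AlgInt ⧸ M) : localRing M :=
  Function.surjInv (residue_surjective (M := M)) r

theorem residue_sec (r : Cfsg.AlgInt ⧸ M) : residue M (sec r) = r :=
  Function.surjInv_eq _ r

theorem finrank_le_of_lift (U : Submodule (Cfsg.AlgInt ⧸ M) (X → Cfsg.AlgInt ⧸ M))
    (U' : Submodule ℂ (X → ℂ))
    (h : ∀ u ∈ U, ∃ F : X → localRing M, (fun x => (F x : ℂ)) ∈ U' ∧ ∀ x, residue M (F x) = u x) :
    Module.finrank (Cfsg.AlgInt ⧸ M) U ≤ Module.finrank ℂ U' := by
  classical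
  let b := Module.finBasis (Cfsg.AlgInt ⧸ M) U
  choose F hF using fun j => h (b j) (b j).2
  obtain ⟨L, hL⟩ := LinearMap.exists_extend b.equivFun.toLinearMap
  let W : Matrix (Fin (Module.finrank (Cfsg.AlgInt ⧸ M) U)) X (localRing M) :=
    Matrix.of fun i x => sec (L (Pi.single x 1) i)
  let Fm : Matrix X (Fin (Module.finrank (Cfsg.AlgInt ⧸ M) U)) (localRing M) :=
    Matrix.of fun x j => F j x
  have hWF : (W * Fm).map (residue M) = 1 := by
    ext i j
    have h1 : L (b j : X → Cfsg.AlgInt ⧸ M) = b.equivFun (b j) := LinearMap.congr_fun hL (b j)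
    have h2 : (b j : X → Cfsg.AlgInt ⧸ M) =
        ∑ x, (b j : X → Cfsg.AlgInt ⧸ M) x • Pi.single x (1 : Cfsg.AlgInt ⧸ M) := by
      funext y
      simp [Finset.sum_apply, Pi.single_apply]
    rw [h2, map_sum] at h1
    have h3 := congrFun h1 i
    rw [Module.Basis.equivFun_self] at h3
    simp only [map_smul, Finset.sum_apply, Pi.smul_apply, smul_eq_mul] at h3
    simp only [Matrix.map_apply, Matrix.mul_apply, W, Fm, Matrix.of_apply, map_sum, map_mul,
      residue_sec, (hF _).2, Matrix.one_apply]
    rw [show (if i = j then (1 : Cfsg.AlgInt ⧸ M) else 0) = if j = i then 1 else 0 by simp [eq_comm],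
      ← h3]
    exact Finset.sum_congr rfl fun x _ => mul_comm _ _
  have hdet : (((W * Fm).det : localRing M) : ℂ) ≠ 0 := by
    intro h0
    have h1 : residue M (W * Fm).det = 0 := by
      rw [show (W * Fm).det = 0 from Subtype.ext h0, map_zero]
    rw [RingHom.map_det, RingHom.mapMatrix_apply, hWF, Matrix.det_one] at h1
    exact one_ne_zero h1
  let G : Fin (Module.finrank (Cfsg.AlgInt ⧸ M) U) → U' := fun j => ⟨fun x => (F j x : ℂ), (hF j).1⟩
  have hli : LinearIndependent ℂ G := by
    refine LinearIndependent.of_comp U'.subtype ?_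
    rw [Fintype.linearIndependent_iff]
    intro c hc
    have hc' : ∀ x, ∑ j, c j * (F j x : ℂ) = 0 := fun x => by
      simpa [G, Finset.sum_apply] using congrFun hc x
    have hmul : ((W * Fm).map (localRing M).subtype).mulVec c = 0 := by
      funext i
      simp only [Matrix.mulVec, dotProduct, Matrix.map_apply, Matrix.mul_apply, Pi.zero_apply, Fm,
        Matrix.of_apply, map_sum, map_mul, Finset.sum_mul]
      rw [Finset.sum_comm]
      refine Finset.sum_eq_zero fun x _ => ?_
      simp only [mul_assoc, ← Finset.mul_sum]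
      rw [Finset.sum_congr rfl fun j _ => mul_comm ((localRing M).subtype (F j x)) (c j)]
      exact mul_eq_zero_of_right _ (hc' x)
    have hd : ((W * Fm).map (localRing M).subtype).det ≠ 0 := by
      rw [← RingHom.mapMatrix_apply, ← RingHom.map_det]
      exact hdet
    exact congrFun (Matrix.eq_zero_of_mulVec_eq_zero hd hmul)
  have := hli.fintype_card_le_finrank
  rwa [Fintype.card_fin] at this

end Cfsg.Agent.Lib.BrauerPairs.LiftRank
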