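import Mathlib.LinearAlgebra.Dual.Lemmas
import Mathlib.LinearAlgebra.Matrix.ToLin
import Mathlib.RingTheory.Idempotents
import Mathlib.Algebra.Algebra.Operations
import Mathlib.RingTheory.TwoSidedIdeal.Operations

/-!
# A finite-dimensional algebra with one simple module on a central summand

`π` is a full matrix representation of `e * A` with nilpotent kernel `I`. The summand has dimension
`n * n` times the dimension of a corner `f * A * f`, and if the trace forms on the summand form a
space of dimension `2`, the corner has dimension `2`.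
-/

set_option autoImplicit false

namespace Cfsg.Agent.Lib.BrauerPairs.CornerAlgebra

open Module

variable (k : Type*) [Field k] {A : Type*} [Ring A] [Algebra k A]

/-- The functionals invariant under the central idempotent with the trace property. -/
def traceForms (e : A) : Submodule k (Dual k A) where
  carrier := {Φ | (∀ x, Φ (e * x) = Φ x) ∧ ∀ x y, Φ (x * y) = Φ (y * x)}
  zero_mem' := ⟨fun _ => rfl, fun _ _ => rfl⟩
  add_mem' := fun ha hb => ⟨fun x => by simp [ha.1, hb.1], fun x y => by simp [ha.2 x y, hb.2 x y]⟩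
  smul_mem' := fun c a ha => ⟨fun x => by simp [ha.1], fun x y => by simp [ha.2 x y]⟩

variable {k}

theorem mem_traceForms {e : A} {Φ : Dual k A} :
    Φ ∈ traceForms k e ↔ (∀ x, Φ (e * x) = Φ x) ∧ ∀ x y, Φ (x * y) = Φ (y * x) := Iff.rfl

variable (k) in
/-- The corner. -/
def corner (f : A) : Submodule k A where
  carrier := {x | f * x = x ∧ x * f = x}
  zero_mem' := ⟨mul_zero f, zero_mul f⟩
  add_mem' := fun {a b} ha hb => ⟨by rw [mul_add, ha.1, hb.1], by rw [add_mul, ha.2, hb.2]⟩
  smul_mem' := fun c a ha => ⟨by rw [mul_smul_comm, ha.1], by rw [smul_mul_assoc, ha.2]⟩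

variable (k) in
/-- Fixed space of left multiplication. -/
def leftFix (f : A) : Submodule k A where
  carrier := {x | f * x = x}
  zero_mem' := mul_zero f
  add_mem' := fun {a b} ha hb => by
    simp only [Set.mem_ofPred_eq] at *; rw [mul_add, ha, hb]
  smul_mem' := fun c a ha => by
    simp only [Set.mem_ofPred_eq] at *; rw [mul_smul_comm, ha]

theorem mem_corner {f x : A} : x ∈ corner k f ↔ f * x = x ∧ x * f = x := Iff.rfl

theorem mem_leftFix {f x : A} : x ∈ leftFix k f ↔ f * x = x := Iff.rfl

variable [FiniteDimensional k A] {n : ℕ} {π : A →ₐ[k] Matrix (Fin n) (Fin n) k}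

/-- Left or right elimination along a nilpotent ideal. -/
theorem eq_zero_of_left {ι : Type*} [Fintype ι] {I : Submodule k A} {N : ℕ}
    (hN : I ^ (N + 1) = ⊥) {y : ι → A} {m : ι → ι → A} (hm : ∀ i j, m i j ∈ I)
    (h : ∀ i, y i = ∑ j, m i j * y j) (i : ι) : y i = 0 := by
  have key : ∀ (t : ℕ) (i : ι), y i ∈ I ^ t * (⊤ : Submodule k A) := by
    intro t
    induction t with
    | zero =>
      intro i
      rw [pow_zero, one_mul]
      trivial
    | succ t ih =>
      intro i
      rw [h i, pow_succ', mul_assoc]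
      exact Submodule.sum_mem _ fun j _ => Submodule.mul_mem_mul (hm i j) (ih j)
  simpa [hN] using key (N + 1) i

theorem eq_zero_of_right {ι : Type*} [Fintype ι] {I : Submodule k A} {N : ℕ}
    (hN : I ^ (N + 1) = ⊥) {y : ι → A} {m : ι → ι → A} (hm : ∀ i j, m i j ∈ I)
    (h : ∀ i, y i = ∑ j, y j * m j i) (i : ι) : y i = 0 := by
  have key : ∀ (t : ℕ) (i : ι), y i ∈ (⊤ : Submodule k A) * I ^ t := by
    intro t
    induction t with
    | zero =>
      intro i
      rw [pow_zero, mul_one]
      trivial
    | succ t ih =>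
      intro i
      rw [h i, pow_succ, ← mul_assoc]
      exact Submodule.sum_mem _ fun j _ => Submodule.mul_mem_mul (ih j) (hm j i)
  simpa [hN] using key (N + 1) i

variable (π) in
/-- Elements of the summand killed by `π`. -/
def kerPart (e : A) : Submodule k A := leftFix k e ⊓ LinearMap.ker π.toLinearMap

theorem mem_kerPart {e x : A} : x ∈ kerPart π e ↔ e * x = x ∧ π x = 0 := by
  simp [kerPart, mem_leftFix]

variable {e : A} (he : e * e = e) (hc : ∀ x : A, e * x = x * e)
  (hπ : Function.Surjective π) (hπe : π e = 1) {N : ℕ} (hN : kerPart π e ^ (N + 1) = ⊥)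

/-- A system of matrix units modulo the kernel. -/
structure Units (π : A →ₐ[k] Matrix (Fin n) (Fin n) k) (e : A) (i₀ : Fin n) where
  f : A
  a : Fin n → A
  b : Fin n → A
  f_idem : f * f = f
  e_f : e * f = f
  e_a : ∀ i, e * a i = a i
  a_f : ∀ i, a i * f = a i
  f_b : ∀ i, f * b i = b i
  sum_eq : ∑ i, a i * b i = e
  pi_f : π f = Matrix.single i₀ i₀ 1
  pi_ba : ∀ i j, π (b i * a j) = if i = j then π f else 0

include he hc hπ hπe hN

theorem exists_units (i₀ : Fin n) : Nonempty (Units π e i₀) := by
  classical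
  choose σ hσ using hπ
  let E : Fin n → Fin n → A := fun i j => e * σ (Matrix.single i j 1)
  have hE : ∀ i j, π (E i j) = Matrix.single i j 1 := fun i j => by
    rw [map_mul, hπe, one_mul, hσ]
  have heE : ∀ i j, e * E i j = E i j := fun i j => by rw [← mul_assoc, he]
  -- lift the idempotent
  have hnil : ∀ x ∈ kerPart π e, x ^ (N + 1) = 0 := fun x hx => by
    simpa [hN] using Submodule.pow_mem_pow _ hx (N + 1)
  set q := E i₀ i₀ with hq
  have hqk : q - q ^ 2 ∈ kerPart π e := by
    rw [mem_kerPart]
    refine ⟨?_, ?_⟩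
    · rw [pow_two, mul_sub, ← mul_assoc e q q, show e * q = q from heE i₀ i₀]
    · rw [map_sub, map_pow, hE, pow_two, Matrix.single_mul_single_same, one_mul, sub_self]
  set f := 1 - (1 - q ^ (N + 1)) ^ (N + 1) with hf
  have hff : f * f = f := isIdempotentElem_one_sub_one_sub_pow_pow _ _ (hnil _ hqk)
  have hef : e * f = f := by
    obtain ⟨r, hr⟩ : ∃ r, f = q ^ (N + 1) * r := by
      refine ⟨∑ i ∈ Finset.range (N + 1), (1 - q ^ (N + 1)) ^ i, ?_⟩
      rw [hf, ← mul_neg_geom_sum, sub_sub_cancel]
    rw [hr, ← mul_assoc, pow_succ', ← mul_assoc e, heE]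
  have hpif : π f = Matrix.single i₀ i₀ 1 := by
    have h1 : IsIdempotentElem (Matrix.single i₀ i₀ (1 : k)) := by
      rw [IsIdempotentElem, Matrix.single_mul_single_same, one_mul]
    rw [hf, map_sub, map_one, map_pow, map_sub, map_one, map_pow, hE, h1.pow_succ_eq,
      h1.one_sub.pow_succ_eq, sub_sub_cancel]
  let a' : Fin n → A := fun i => E i i₀ * f
  let b : Fin n → A := fun i => f * E i₀ i
  have hpa : ∀ i, π (a' i) = Matrix.single i i₀ 1 := fun i => by
    rw [map_mul, hE, hpif, Matrix.single_mul_single_same, one_mul]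
  have hpb : ∀ i, π (b i) = Matrix.single i₀ i 1 := fun i => by
    rw [map_mul, hE, hpif, Matrix.single_mul_single_same, one_mul]
  set u := ∑ i, a' i * b i with hu
  have heu : e * u = u := by
    rw [hu, Finset.mul_sum]
    refine Finset.sum_congr rfl fun i _ => ?_
    simp only [a']
    rw [show e * (E i i₀ * f * b i) = e * E i i₀ * f * b i by simp only [mul_assoc], heE]
  have hpu : π u = 1 := by
    rw [hu, map_sum]
    simp only [map_mul, hpa, hpb, Matrix.single_mul_single_same, one_mul]
    ext i j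
    rw [Matrix.sum_apply, Matrix.one_apply]
    rcases eq_or_ne i j with rfl | h
    · rw [if_pos rfl, Finset.sum_eq_single i] <;> simp +contextual [Matrix.single_apply]
    · rw [if_neg h]
      refine Finset.sum_eq_zero fun c _ => ?_
      simp +contextual [Matrix.single_apply, h]
  set m := e - u with hm
  have hmk : m ∈ kerPart π e := by
    rw [mem_kerPart, hm, mul_sub, he, heu, map_sub, hπe, hpu, sub_self]
    exact ⟨rfl, rfl⟩
  set w := e * ∑ j ∈ Finset.range (N + 1), m ^ j with hw
  have hwu : w * u = e := by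
    have h1 : w * e = w := by rw [← hc w, hw, ← mul_assoc, he]
    rw [show u = e * (1 - m) by rw [mul_sub, mul_one, (mem_kerPart.mp hmk).1, hm, sub_sub_cancel],
      ← mul_assoc, h1, hw, mul_assoc, geom_sum_mul_neg, hnil m hmk, sub_zero, mul_one]
  have hpw : π w = 1 := by
    rw [hw, map_mul, hπe, one_mul, map_sum, Finset.sum_range_succ']
    simp [map_pow, (mem_kerPart.mp hmk).2]
  refine ⟨⟨f, fun i => w * a' i, b, hff, hef, fun i => ?_, fun i => ?_, fun i => ?_, ?_, hpif,
    fun i j => ?_⟩⟩
  · rw [← mul_assoc, hw, ← mul_assoc e, he]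
  · simp only [a']
    rw [mul_assoc w, mul_assoc (E i i₀), hff]
  · simp only [b]
    rw [← mul_assoc, hff]
  · rw [← hwu, hu, Finset.mul_sum]
    exact Finset.sum_congr rfl fun i _ => mul_assoc _ _ _
  · rw [map_mul, hpb, map_mul, hpw, one_mul, hpa]
    split_ifs with h
    · subst h
      rw [Matrix.single_mul_single_same, one_mul, hpif]
    · rw [Matrix.single_mul_single_of_ne _ _ _ _ h]

omit hπ in
theorem finrank_leftFix_eq {i₀ : Fin n} (U : Units π e i₀) :
    finrank k (leftFix k e) = n * n * finrank k (corner k U.f) := by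
  classical
  have hbe : ∀ i, U.b i * e = e * U.b i := fun i => (hc _).symm
  have heb : ∀ i, e * U.b i = U.b i := fun i => by
    rw [← U.f_b, ← mul_assoc, U.e_f]
  let m : Fin n → Fin n → A := fun i j => (if i = j then U.f else 0) - U.b i * U.a j
  have hm : ∀ i j, m i j ∈ kerPart π e := fun i j => by
    rw [mem_kerPart]
    refine ⟨?_, ?_⟩
    · simp only [m]
      rw [mul_sub, ← mul_assoc, heb]
      split_ifs <;> simp [U.e_f]
    · simp only [m]
      rw [map_sub, U.pi_ba]
      split_ifs <;> simp
  have hae : ∀ i, U.a i * e = U.a i := fun i => by rw [← hc, U.e_a]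
  -- left step
  have h1 : finrank k (leftFix k e) = n * finrank k (leftFix k U.f) := by
    let Φ : leftFix k e →ₗ[k] Fin n → leftFix k U.f :=
      LinearMap.pi fun i => LinearMap.codRestrict _
        ((LinearMap.mulLeft k (U.b i)).comp (leftFix k e).subtype) fun x => by
          simp [mem_leftFix, ← mul_assoc, U.f_b]
    let Ψ : (Fin n → leftFix k U.f) →ₗ[k] leftFix k e :=
      LinearMap.codRestrict _ (∑ i, (LinearMap.mulLeft k (U.a i)).comp
        ((leftFix k U.f).subtype.comp (LinearMap.proj i))) fun y => by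
          simp [mem_leftFix, Finset.mul_sum, ← mul_assoc, U.e_a]
    have hΦ : Function.Injective Φ := by
      rw [injective_iff_map_eq_zero]
      intro x hx
      apply Subtype.ext
      have hx' : ∀ i, U.b i * (x : A) = 0 := fun i => congrArg Subtype.val (congrFun hx i)
      rw [show (x : A) = (∑ i, U.a i * U.b i) * x by
        rw [U.sum_eq]; exact (mem_leftFix.mp x.2).symm, Finset.sum_mul]
      simp [mul_assoc, hx']
    have hΨ : Function.Injective Ψ := by
      rw [injective_iff_map_eq_zero]
      intro y hy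
      have hy' : ∑ i, U.a i * (y i : A) = 0 := by
        have := congrArg Subtype.val hy
        simpa [Ψ] using this
      funext i
      apply Subtype.ext
      refine eq_zero_of_left hN (y := fun i => (y i : A)) hm (fun i => ?_) i
      have h0 : ∑ j, U.b i * U.a j * (y j : A) = 0 := by
        simp [mul_assoc, ← Finset.mul_sum, hy']
      simp only [m, sub_mul, Finset.sum_sub_distrib, ite_mul, zero_mul, Finset.sum_ite_eq,
        Finset.mem_univ, if_true, h0, sub_zero]
      exact (mem_leftFix.mp (y i).2).symm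
    have e1 := LinearMap.finrank_le_finrank_of_injective hΦ
    have e2 := LinearMap.finrank_le_finrank_of_injective hΨ
    rw [finrank_pi_fintype, Finset.sum_const, Finset.card_univ, Fintype.card_fin, smul_eq_mul]
      at e1 e2
    omega
  have h2 : finrank k (leftFix k U.f) = n * finrank k (corner k U.f) := by
    let Φ : leftFix k U.f →ₗ[k] Fin n → corner k U.f :=
      LinearMap.pi fun i => LinearMap.codRestrict _
        ((LinearMap.mulRight k (U.a i)).comp (leftFix k U.f).subtype) fun x => by
          simp [mem_corner, mul_assoc, U.a_f, ← mul_assoc U.f, mem_leftFix.mp x.2]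
    let Ψ : (Fin n → corner k U.f) →ₗ[k] leftFix k U.f :=
      LinearMap.codRestrict _ (∑ i, (LinearMap.mulRight k (U.b i)).comp
        ((corner k U.f).subtype.comp (LinearMap.proj i))) fun y => by
          simp [mem_leftFix, Finset.mul_sum, ← mul_assoc, (mem_corner.mp (y _).2).1]
    have hΦ : Function.Injective Φ := by
      rw [injective_iff_map_eq_zero]
      intro x hx
      apply Subtype.ext
      have hx' : ∀ i, (x : A) * U.a i = 0 := fun i => congrArg Subtype.val (congrFun hx i)
      have hxe : (x : A) * e = x := by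
        rw [← hc, ← mem_leftFix.mp x.2, ← mul_assoc, U.e_f]
      rw [show (x : A) = x * ∑ i, U.a i * U.b i by rw [U.sum_eq, hxe], Finset.mul_sum]
      simp [← mul_assoc, hx']
    have hΨ : Function.Injective Ψ := by
      rw [injective_iff_map_eq_zero]
      intro y hy
      have hy' : ∑ i, (y i : A) * U.b i = 0 := by
        have := congrArg Subtype.val hy
        simpa [Ψ] using this
      funext i
      apply Subtype.ext
      refine eq_zero_of_right hN (y := fun i => (y i : A)) hm (fun i => ?_) i
      have h0 : ∑ j, (y j : A) * (U.b j * U.a i) = 0 := by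
        simp [← mul_assoc, ← Finset.sum_mul, hy']
      simp only [m, mul_sub, Finset.sum_sub_distrib, mul_ite, mul_zero, Finset.sum_ite_eq',
        Finset.mem_univ, if_true, h0, sub_zero]
      exact (mem_corner.mp (y i).2).2.symm
    have e1 := LinearMap.finrank_le_finrank_of_injective hΦ
    have e2 := LinearMap.finrank_le_finrank_of_injective hΨ
    rw [finrank_pi_fintype, Finset.sum_const, Finset.card_univ, Fintype.card_fin, smul_eq_mul]
      at e1 e2
    omega
  rw [h1, h2, mul_assoc]

omit hπ in
/-- If the trace forms make a space of dimension two, so does the corner. -/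
theorem finrank_corner_eq_two {i₀ : Fin n} (U : Units π e i₀)
    (h2 : finrank k (traceForms k e) = 2) : finrank k (corner k U.f) = 2 := by
  classical
  set C := corner k U.f with hC
  set J := C ⊓ kerPart π e with hJ
  have hfC : U.f ∈ C := mem_corner.mpr ⟨U.f_idem, U.f_idem⟩
  have hmulC : ∀ {x y : A}, x ∈ C → y ∈ C → x * y ∈ C := fun {x y} hx hy =>
    mem_corner.mpr ⟨by rw [← mul_assoc, (mem_corner.mp hx).1],
      by rw [mul_assoc, (mem_corner.mp hy).2]⟩
  have heC : ∀ {x : A}, x ∈ C → e * x = x := fun {x} hx => by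
    rw [← (mem_corner.mp hx).1, ← mul_assoc, U.e_f]
  have hdec : ∀ x ∈ C, x - π x i₀ i₀ • U.f ∈ J := by
    intro x hx
    refine ⟨C.sub_mem hx (C.smul_mem _ hfC), mem_kerPart.mpr ⟨?_, ?_⟩⟩
    · rw [mul_sub, mul_smul_comm, U.e_f, heC hx]
    · obtain ⟨h1, h2⟩ := mem_corner.mp hx
      have : π x = Matrix.single i₀ i₀ 1 * π x * Matrix.single i₀ i₀ 1 := by
        rw [← U.pi_f, ← map_mul, ← map_mul, h1, h2]
      rw [map_sub, map_smul, U.pi_f]
      nth_rw 1 [this]
      ext i j
      simp [Matrix.mul_apply, Matrix.single_apply, Finset.sum_ite_eq, ite_and]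
  have hJJ : J * J ≤ J := Submodule.mul_le.mpr fun x hx y hy =>
    ⟨hmulC hx.1 hy.1, mem_kerPart.mpr ⟨by rw [← mul_assoc, heC hx.1],
      by rw [map_mul, (mem_kerPart.mp hy.2).2, mul_zero]⟩⟩
  -- functionals killing the square of the radical come from trace forms
  let D2 : Submodule k C := (J * J).comap C.subtype
  have hsym : ∀ ψ ∈ D2.dualAnnihilator, ∀ x y : C,
      ψ ⟨(x : A) * y, hmulC x.2 y.2⟩ = ψ ⟨(y : A) * x, hmulC y.2 x.2⟩ := by
    intro ψ hψ x y
    rw [← sub_eq_zero, ← map_sub]
    apply (Submodule.mem_dualAnnihilator ψ).mp hψ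
    show (x : A) * y - y * x ∈ J * J
    set m := (x : A) - π (x : A) i₀ i₀ • U.f
    set m' := (y : A) - π (y : A) i₀ i₀ • U.f
    have : (x : A) * y - y * x = m * m' - m' * m := by
      obtain ⟨hx1, hx2⟩ := mem_corner.mp x.2
      obtain ⟨hy1, hy2⟩ := mem_corner.mp y.2
      simp only [m, m', sub_mul, mul_sub, smul_mul_assoc, mul_smul_comm, hx1, hx2, hy1, hy2,
        U.f_idem, smul_smul, smul_sub]
      rw [mul_comm (π (y : A) i₀ i₀) (π (x : A) i₀ i₀)]
      abel
    rw [this]
    exact Submodule.sub_mem _ (Submodule.mul_mem_mul (hdec _ x.2) (hdec _ y.2))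
      (Submodule.mul_mem_mul (hdec _ y.2) (hdec _ x.2))
  have hτmem : ∀ (x : A) (i : Fin n), U.b i * x * U.a i ∈ C := fun x i =>
    mem_corner.mpr ⟨by rw [← mul_assoc, ← mul_assoc, U.f_b], by rw [mul_assoc, U.a_f]⟩
  let τ : A →ₗ[k] C := LinearMap.codRestrict C
    (∑ i, (LinearMap.mulRight k (U.a i)).comp (LinearMap.mulLeft k (U.b i))) fun x => by
      simpa using Submodule.sum_mem _ fun i _ => hτmem x i
  have hτ : ∀ x, τ x = ∑ i, (⟨U.b i * x * U.a i, hτmem x i⟩ : C) := fun x => by
    apply Subtype.ext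
    simp [τ]
  have hbe : ∀ i, U.b i * e = U.b i := fun i => by
    rw [← hc, ← U.f_b, ← mul_assoc, U.e_f]
  -- the space of symmetric functionals on the corner
  let S : Submodule k (Dual k C) :=
    { carrier := {ψ | ∀ x y : C,
        ψ ⟨(x : A) * y, hmulC x.2 y.2⟩ = ψ ⟨(y : A) * x, hmulC y.2 x.2⟩}
      zero_mem' := fun _ _ => rfl
      add_mem' := fun ha hb x y => by simp [ha x y, hb x y]
      smul_mem' := fun c a ha x y => by simp [ha x y] }
  let P : Dual k C →ₗ[k] Dual k A := τ.dualMap
  have hP : ∀ ψ ∈ S, P ψ ∈ traceForms k e := by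
    intro ψ hψ
    refine ⟨fun x => ?_, fun x y => ?_⟩
    · show ψ (τ (e * x)) = ψ (τ x)
      congr 1
      rw [hτ, hτ]
      refine Finset.sum_congr rfl fun i _ => Subtype.ext ?_
      show U.b i * (e * x) * U.a i = U.b i * x * U.a i
      rw [← mul_assoc, hbe]
    · show ψ (τ (x * y)) = ψ (τ (y * x))
      have hsplit : ∀ u v : A, τ (u * v) = ∑ i, ∑ j, (⟨(U.b i * u * U.a j) * (U.b j * v * U.a i),
          hmulC (mem_corner.mpr ⟨by rw [← mul_assoc, ← mul_assoc, U.f_b],
            by rw [mul_assoc, U.a_f]⟩) (mem_corner.mpr ⟨by rw [← mul_assoc, ← mul_assoc, U.f_b],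
            by rw [mul_assoc, U.a_f]⟩)⟩ : C) := by
        intro u v
        rw [hτ]
        refine Finset.sum_congr rfl fun i _ => Subtype.ext ?_
        show U.b i * (u * v) * U.a i = _
        rw [Submodule.coe_sum]
        have : U.b i * u * e = U.b i * u := by
          rw [mul_assoc, ← hc, ← mul_assoc, hbe]
        calc U.b i * (u * v) * U.a i = U.b i * u * e * v * U.a i := by
              rw [this, ← mul_assoc (U.b i) u v]
          _ = _ := by
              rw [show U.b i * u * e = U.b i * u * ∑ j, U.a j * U.b j by rw [U.sum_eq],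
                Finset.mul_sum, Finset.sum_mul, Finset.sum_mul]
              simp [mul_assoc]
      rw [hsplit, hsplit, map_sum, map_sum]
      simp only [map_sum]
      rw [Finset.sum_comm]
      exact Finset.sum_congr rfl fun i _ => Finset.sum_congr rfl fun j _ =>
        hψ ⟨_, mem_corner.mpr ⟨by rw [← mul_assoc, ← mul_assoc, U.f_b],
          by rw [mul_assoc, U.a_f]⟩⟩ ⟨_, mem_corner.mpr ⟨by rw [← mul_assoc, ← mul_assoc, U.f_b],
          by rw [mul_assoc, U.a_f]⟩⟩
  have hPsec : ∀ ψ ∈ S, ∀ c : C, P ψ c = ψ c := by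
    intro ψ hψ c
    show ψ (τ c) = ψ c
    obtain ⟨hc1, hc2⟩ := mem_corner.mp c.2
    have hb : ∀ i, U.b i * U.f ∈ C := fun i =>
      mem_corner.mpr ⟨by rw [← mul_assoc, U.f_b], by rw [mul_assoc, U.f_idem]⟩
    have ha : ∀ i, (c : A) * U.a i ∈ C := fun i =>
      mem_corner.mpr ⟨by rw [← mul_assoc, hc1], by rw [mul_assoc, U.a_f]⟩
    rw [hτ, map_sum]
    have e1 : ∀ i, ψ ⟨U.b i * c * U.a i, hτmem c i⟩ =
        ψ ⟨((c : A) * U.a i) * (U.b i * U.f), hmulC (ha i) (hb i)⟩ := fun i => by
      rw [← hψ ⟨_, hb i⟩ ⟨_, ha i⟩]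
      congr 1
      apply Subtype.ext
      show U.b i * c * U.a i = U.b i * U.f * ((c : A) * U.a i)
      rw [mul_assoc (U.b i) U.f, ← mul_assoc U.f, hc1, mul_assoc]
    rw [Finset.sum_congr rfl fun i _ => e1 i, ← map_sum]
    congr 1
    apply Subtype.ext
    rw [Submodule.coe_sum]
    show ∑ i, (c : A) * U.a i * (U.b i * U.f) = c
    calc ∑ i, (c : A) * U.a i * (U.b i * U.f) = (c : A) * (∑ i, U.a i * U.b i) * U.f := by
          rw [Finset.mul_sum, Finset.sum_mul]; simp [mul_assoc]
      _ = c := by rw [U.sum_eq, mul_assoc, U.e_f, hc2]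
  have hle : finrank k S ≤ 2 := by
    rw [← h2]
    let Q : S →ₗ[k] traceForms k e :=
      LinearMap.codRestrict _ (P.comp S.subtype) fun ψ => hP ψ ψ.2
    refine LinearMap.finrank_le_finrank_of_injective (f := Q) ?_
    intro ψ φ h
    apply Subtype.ext
    refine LinearMap.ext fun c => ?_
    have := congrFun (congrArg DFunLike.coe (congrArg Subtype.val h)) (c : A)
    rw [← hPsec ψ ψ.2 c, ← hPsec φ φ.2 c]
    exact this
  -- the radical of the corner is cyclic modulo its square
  obtain ⟨z, hz, hJz⟩ : ∃ z ∈ J, J ≤ k ∙ z ⊔ J * J := by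
    by_cases hJ2 : J ≤ J * J
    · exact ⟨0, J.zero_mem, le_sup_of_le_right hJ2⟩
    obtain ⟨z, hz, hz2⟩ := SetLike.not_le_iff_exists.mp hJ2
    refine ⟨z, hz, ?_⟩
    have hsub : k ∙ z ⊔ J * J ≤ J := sup_le ((Submodule.span_singleton_le_iff_mem _ _).mpr hz) hJJ
    have hgt : finrank k ↥(J * J) < finrank k ↥(k ∙ z ⊔ J * J) :=
      Submodule.finrank_lt_finrank_of_lt (lt_of_le_of_ne le_sup_right fun h => hz2 (by
        rw [h]; exact le_sup_left (a := k ∙ z) (Submodule.mem_span_singleton_self z)))
    have hD2 : finrank k D2 = finrank k ↥(J * J) :=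
      (Submodule.comapSubtypeEquivOfLe (hJJ.trans inf_le_left)).finrank_eq
    have hann := Subspace.finrank_add_finrank_dualAnnihilator_eq D2
    have hS : finrank k D2.dualAnnihilator ≤ 2 :=
      le_trans (Submodule.finrank_mono (t := S) fun ψ hψ x y => hsym ψ hψ x y) hle
    have hJC : finrank k J + 1 ≤ finrank k C := by
      have hlt : J < C := lt_of_le_of_ne inf_le_left fun h => by
        have h1 := (mem_kerPart.mp ((h ▸ hfC : U.f ∈ J)).2).2
        rw [U.pi_f] at h1
        simpa using congrFun (congrFun h1 i₀) i₀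
      exact Submodule.finrank_lt_finrank_of_lt hlt
    exact (Submodule.eq_of_le_of_finrank_le hsub (by omega)).ge
  -- hence generated by powers of `z`
  have hpow : ∀ t : ℕ, J ^ (t + 1) ≤ k ∙ z ^ (t + 1) ⊔ J ^ (t + 2) := by
    intro t
    induction t with
    | zero => simpa [pow_two] using hJz
    | succ t ih =>
      have hz' : k ∙ z ^ (t + 1) ≤ J ^ (t + 1) :=
        (Submodule.span_singleton_le_iff_mem _ _).mpr (Submodule.pow_mem_pow J hz (t + 1))
      have h3 : J * (k ∙ z ^ (t + 1)) ≤ k ∙ z ^ (t + 1 + 1) ⊔ J ^ (t + 1 + 2) := by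
        refine (mul_le_mul' hJz le_rfl).trans ?_
        rw [Submodule.sup_mul, Submodule.span_mul_span, Set.singleton_mul_singleton,
          ← pow_succ' z]
        refine sup_le le_sup_left ((mul_le_mul' le_rfl hz').trans (le_trans ?_ le_sup_right))
        rw [← pow_two, ← pow_add, Nat.add_comm 2 (t + 1)]
      rw [pow_succ' J]
      refine (mul_le_mul' le_rfl ih).trans ?_
      rw [Submodule.mul_sup, ← pow_succ']
      exact sup_le h3 le_sup_right
  let T : Submodule k A := Submodule.span k (insert U.f (Set.range fun t : ℕ => z ^ (t + 1)))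
  have hJT : J ≤ T := by
    have key : ∀ t : ℕ, J ≤ T ⊔ J ^ (t + 1) := by
      intro t
      induction t with
      | zero => simp
      | succ t ih =>
        refine ih.trans (sup_le le_sup_left ((hpow t).trans (sup_le_sup_right ?_ _)))
        exact (Submodule.span_singleton_le_iff_mem _ _).mpr
          (Submodule.subset_span (Or.inr ⟨t, rfl⟩))
    refine (key N).trans (sup_le le_rfl ?_)
    have hle' : J ^ (N + 1) ≤ kerPart π e ^ (N + 1) := pow_le_pow_left' inf_le_right _
    rw [hN] at hle'
    exact hle'.trans bot_le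
  have hcomm : ∀ x ∈ C, ∀ y ∈ C, x * y = y * x := by
    have hCT : C ≤ T := fun x hx => by
      have := T.add_mem (hJT (hdec x hx))
        (T.smul_mem (π x i₀ i₀) (Submodule.subset_span (Or.inl rfl)))
      rwa [sub_add_cancel] at this
    intro x hx y hy
    have hgen : ∀ u ∈ insert U.f (Set.range fun t : ℕ => z ^ (t + 1)),
        ∀ v ∈ insert U.f (Set.range fun t : ℕ => z ^ (t + 1)), u * v = v * u := by
      have hzf : Commute U.f z :=
        (mem_corner.mp hz.1).1.trans (mem_corner.mp hz.1).2.symm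
      rintro u (rfl | ⟨s, rfl⟩) v (rfl | ⟨t, rfl⟩)
      · rfl
      · exact (hzf.pow_right (t + 1)).eq
      · exact (hzf.pow_right (s + 1)).eq.symm
      · exact (Commute.pow_pow_self z _ _).eq
    refine Submodule.span_induction₂ (p := fun u v _ _ => u * v = v * u) (fun u v hu hv => hgen u hu v hv)
      (by simp) (by simp) (fun u v w _ _ _ h h' => by rw [add_mul, mul_add, h, h'])
      (fun u v w _ _ _ h h' => by rw [add_mul, mul_add, h, h'])
      (fun c u v _ _ h => by rw [smul_mul_assoc, mul_smul_comm, h])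
      (fun c u v _ _ h => by rw [smul_mul_assoc, mul_smul_comm, h]) (hCT hx) (hCT hy)
  have hStop : S = ⊤ := eq_top_iff.mpr fun ψ _ x y => by
    congr 1
    exact Subtype.ext (hcomm _ x.2 _ y.2)
  apply le_antisymm
  · rw [← Subspace.dual_finrank_eq (K := k) (V := C), ← finrank_top k (Dual k C), ← hStop]
    exact hle
  · rw [← h2, ← Subspace.dual_finrank_eq (K := k) (V := C)]
    let R : traceForms k e →ₗ[k] Dual k C :=
      C.subtype.dualMap.comp (traceForms k e).subtype
    refine LinearMap.finrank_le_finrank_of_injective (f := R) ?_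
    intro Φ Ψ h
    apply Subtype.ext
    refine LinearMap.ext fun x => ?_
    have key : ∀ Φ : traceForms k e, (Φ : Dual k A) x =
        ∑ i, (Φ : Dual k A) (U.b i * x * U.a i) := fun Φ => by
      rw [← (mem_traceForms.mp Φ.2).1 x, show e * x = (∑ i, U.a i * U.b i) * x by rw [U.sum_eq],
        Finset.sum_mul, map_sum]
      refine Finset.sum_congr rfl fun i _ => ?_
      rw [mul_assoc, (mem_traceForms.mp Φ.2).2]
    rw [key Φ, key Ψ]
    exact Finset.sum_congr rfl fun i _ => LinearMap.congr_fun h ⟨_, hτmem x i⟩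

end Cfsg.Agent.Lib.BrauerPairs.CornerAlgebra
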