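import Cfsg.Agent.Lib.Blocks.DefectGroup
import Cfsg.Agent.Lib.Blocks.ContribRank
import Cfsg.Agent.Lib.BlocksChars5.Basic

/-!
# Blocks of regular rank one

`exists_phi`: a basic function `φ` with degree `g` and multiples `d`, and the sum of the squares of
the multiples is `p ^ blockDefect`.
-/

set_option autoImplicit false

namespace Cfsg.Agent.Lib.BrauerPairs.RankOne

open scoped ComplexConjugate
open Cfsg.Agent.Lib Cfsg.Agent.Lib.BlocksChars5.Basic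
open Cfsg.Agent.Lib.Blocks.Contrib

universe u

variable {G : Type u} [Group G] [Finite G] {p : ℕ} [Fact p.Prime] {M : Ideal Cfsg.AlgInt}
  [M.IsMaximal] (hM : Cfsg.IsPModular p M) {B : Set (Cfsg.IrrCharacter G)}
  (hB : Cfsg.IsPBlock M B) (hl : Cfsg.blockRank p B = 1)

include hl in
omit [Finite G] [M.IsMaximal] in
/-- Degrees control the regular parts. -/
theorem mul_apply_one {χ ψ : Cfsg.IrrCharacter G} (hχ : χ ∈ B) (hψ : ψ ∈ B) {s : G}
    (hs : ¬ p ∣ orderOf s) :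
    (χ : G → ℂ) s * (ψ : G → ℂ) 1 = (ψ : G → ℂ) s * (χ : G → ℂ) 1 := by
  have h1 : ¬ p ∣ orderOf (1 : G) := by rw [orderOf_one]; exact (Fact.out : p.Prime).not_dvd_one
  let W := Submodule.span ℂ ((fun χ : Cfsg.IrrCharacter G =>
    Cfsg.pRegularPart p (χ : G → ℂ)) '' B)
  let v : W := ⟨Cfsg.pRegularPart p (ψ : G → ℂ), Submodule.subset_span ⟨ψ, hψ, rfl⟩⟩
  have hv : v ≠ 0 := fun h => Characters.Basic.apply_one_ne_zero ψ (by
    have h2 := congrFun (congrArg Subtype.val h) 1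
    simp only [v] at h2
    rw [pRegularPart_apply, if_neg h1] at h2
    exact h2)
  obtain ⟨c, hc⟩ := (finrank_eq_one_iff_of_nonzero' v hv).mp hl
    ⟨Cfsg.pRegularPart p (χ : G → ℂ), Submodule.subset_span ⟨χ, hχ, rfl⟩⟩
  have hval : ∀ t : G, ¬ p ∣ orderOf t → c * (ψ : G → ℂ) t = (χ : G → ℂ) t := by
    intro t ht
    have h2 := congrFun (congrArg Subtype.val hc) t
    simp only [v, Submodule.coe_smul, Pi.smul_apply, smul_eq_mul] at h2
    rwa [pRegularPart_apply, pRegularPart_apply, if_neg ht, if_neg ht] at h2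
  rw [← hval s hs, ← hval 1 h1]
  ring

include hM hB hl in
theorem exists_phi : ∃ (g : ℕ) (a : Cfsg.IrrCharacter G → ℤ) (d : Cfsg.IrrCharacter G → ℕ),
    0 < g ∧ (∀ χ ∈ B, Cfsg.charDegree (χ : G → ℂ) = g * d χ) ∧
    (∀ χ ∈ B, ∀ s : G, ¬ p ∣ orderOf s → (χ : G → ℂ) s =
      (d χ : ℂ) * ∑ ψ ∈ bset B, (a ψ : ℂ) * (ψ : G → ℂ) s) ∧
    ∑ χ ∈ bset B, d χ ^ 2 = p ^ Cfsg.blockDefect p B := by
  classical
  letI := Fintype.ofFinite G
  have hp : p.Prime := Fact.out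
  let deg : Cfsg.IrrCharacter G → ℕ := fun χ => Cfsg.charDegree (χ : G → ℂ)
  let g := (bset B).gcd deg
  obtain ⟨χ₀, hχ₀, h₀⟩ := exists_height_zero (p := p) hB
  have hdvd : ∀ χ ∈ B, g ∣ deg χ := fun χ hχ => Finset.gcd_dvd (mem_bset.mpr hχ)
  have hg : 0 < g := Nat.pos_of_dvd_of_pos (hdvd χ₀ hχ₀) (degree_pos χ₀)
  -- Bezout
  obtain ⟨a, ha⟩ : ∃ a : Cfsg.IrrCharacter G → ℤ, ∑ ψ ∈ bset B, a ψ * (deg ψ : ℤ) = (g : ℤ) := by
    obtain ⟨a, ha⟩ := Finset.gcd_eq_sum_mul (bset B) (fun ψ => (deg ψ : ℤ))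
    refine ⟨a, ?_⟩
    have hnat : ∀ s : Finset (Cfsg.IrrCharacter G),
        s.gcd (fun ψ => (deg ψ : ℤ)) = ((s.gcd deg : ℕ) : ℤ) := by
      intro s
      induction s using Finset.induction_on with
      | empty => simp
      | insert x s hx ih =>
        rw [Finset.gcd_insert, Finset.gcd_insert, ih, ← Int.coe_gcd, Int.gcd_natCast_natCast]
        rfl
    rw [hnat] at ha
    rw [← show ((g : ℕ) : ℤ) = (((bset B).gcd deg : ℕ) : ℤ) from rfl] at ha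
    rw [ha]
    exact Finset.sum_congr rfl fun ψ _ => mul_comm _ _
  choose! d hd using hdvd
  have hphi : ∀ χ ∈ B, ∀ s : G, ¬ p ∣ orderOf s → (χ : G → ℂ) s * (g : ℂ) =
      (deg χ : ℂ) * ∑ ψ ∈ bset B, (a ψ : ℂ) * (ψ : G → ℂ) s := by
    intro χ hχ s hs
    have hgC : (g : ℂ) = ∑ ψ ∈ bset B, (a ψ : ℂ) * (deg ψ : ℂ) := by exact_mod_cast ha.symm
    rw [hgC, Finset.mul_sum, Finset.mul_sum]
    refine Finset.sum_congr rfl fun ψ hψ => ?_
    have := mul_apply_one hl hχ (mem_bset.mp hψ) hs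
    rw [BlocksChars5.Basic.apply_one, BlocksChars5.Basic.apply_one] at this
    linear_combination (a ψ : ℂ) * this
  refine ⟨g, a, d, hg, hd, fun χ hχ s hs => ?_, ?_⟩
  · have := hphi χ hχ s hs
    rw [show (deg χ : ℂ) = (g : ℂ) * (d χ : ℂ) from mod_cast hd χ hχ, mul_comm _ (g : ℂ),
      mul_assoc] at this
    exact mul_left_cancel₀ (Nat.cast_ne_zero.mpr hg.ne') this
  -- the diagonal entries
  let k : ℤ := ∑ φ ∈ bset B, ∑ ψ ∈ bset B, a φ * a ψ * contribN p φ ψ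
  have hm : (primeToCard p G : ℂ) ≠ 0 := Nat.cast_ne_zero.mpr (primeToCard_pos p).ne'
  have hgC0 : (g : ℂ) ≠ 0 := Nat.cast_ne_zero.mpr hg.ne'
  have hprod : ∀ χ ∈ B, ∀ φ ∈ B, ∀ ψ ∈ B, contribN p χ χ * (deg φ : ℤ) * (deg ψ : ℤ) =
      contribN p φ ψ * (deg χ : ℤ) * (deg χ : ℤ) := by
    intro χ hχ φ hφ ψ hψ
    have h1 : regSum p (χ : G → ℂ) (χ : G → ℂ) * (deg φ : ℂ) * (deg ψ : ℂ) =
        regSum p (φ : G → ℂ) (ψ : G → ℂ) * (deg χ : ℂ) * (deg χ : ℂ) := by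
      simp only [regSum_eq_sum, Finset.sum_mul]
      refine Finset.sum_congr rfl fun s _ => ?_
      by_cases hs : p ∣ orderOf s
      · simp [hs]
      · rw [if_neg hs, if_neg hs]
        have e1 := mul_apply_one hl hχ hφ hs
        have e2 := mul_apply_one hl hχ hψ (s := s⁻¹) (by rwa [orderOf_inv])
        rw [BlocksChars5.Basic.apply_one, BlocksChars5.Basic.apply_one] at e1 e2
        show _ * ((deg φ : ℕ) : ℂ) * ((deg ψ : ℕ) : ℂ) = _ * ((deg χ : ℕ) : ℂ) * ((deg χ : ℕ) : ℂ)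
        linear_combination ((χ : G → ℂ) s⁻¹ * (deg ψ : ℂ)) * e1 +
          ((φ : G → ℂ) s * (deg χ : ℂ)) * e2
    rw [regSum_eq_contribN, regSum_eq_contribN] at h1
    have h2 : (contribN p χ χ : ℂ) * (deg φ : ℂ) * (deg ψ : ℂ) =
        (contribN p φ ψ : ℂ) * (deg χ : ℂ) * (deg χ : ℂ) :=
      mul_left_cancel₀ hm (by linear_combination h1)
    exact_mod_cast h2
  have hk : ∀ χ ∈ B, contribN p χ χ = k * (d χ : ℤ) ^ 2 := by
    intro χ hχ
    refine mul_right_cancel₀ (pow_ne_zero 2 (mod_cast hg.ne' : (g : ℤ) ≠ 0)) ?_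
    have : contribN p χ χ * ((∑ φ ∈ bset B, a φ * (deg φ : ℤ)) *
        ∑ ψ ∈ bset B, a ψ * (deg ψ : ℤ)) = k * ((deg χ : ℤ) * (deg χ : ℤ)) := by
      simp only [k, Finset.sum_mul, Finset.mul_sum]
      refine Finset.sum_congr rfl fun φ hφ => Finset.sum_congr rfl fun ψ hψ => ?_
      linear_combination a φ * a ψ * hprod χ hχ φ (mem_bset.mp hφ) ψ (mem_bset.mp hψ)
    rw [ha, show (deg χ : ℤ) = (g : ℤ) * (d χ : ℤ) from mod_cast hd χ hχ] at this
    linear_combination this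
  have htr := sum_contribN_self hM hB
  rw [hl, Nat.cast_one, mul_one, Finset.sum_congr rfl fun χ hχ => hk χ (mem_bset.mp hχ),
    ← Finset.mul_sum] at htr
  -- valuations
  have hgv : p ^ minVdeg p B ∣ g := Finset.dvd_gcd fun χ hχ =>
    (pow_dvd_pow _ (minVdeg_le (mem_bset.mp hχ))).trans (Nat.ordProj_dvd _ _)
  have hd0 : ¬ p ∣ d χ₀ := by
    intro h
    have h2 : p ^ (minVdeg p B + 1) ∣ deg χ₀ := by
      rw [hd χ₀ hχ₀, pow_succ]
      exact mul_dvd_mul hgv h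
    have := (hp.pow_dvd_iff_le_factorization (degree_pos χ₀).ne').mp h2
    change minVdeg p B + 1 ≤ vdeg p χ₀ at this
    omega
  have hcop : IsCoprime ((p : ℤ) ^ (minVdeg p B + 1)) ((d χ₀ : ℤ) ^ 2) :=
    ((Nat.isCoprime_iff_coprime.mpr (hp.coprime_iff_not_dvd.mpr hd0))).pow
  have hk0 : ¬ (p : ℤ) ^ (minVdeg p B + 1) ∣ k := by
    intro h
    apply not_dvd_contribN hM hB hχ₀ h₀ hχ₀
    rw [h₀, hk χ₀ hχ₀]
    exact h.mul_right _
  obtain ⟨k', hk'⟩ : (p : ℤ) ^ minVdeg p B ∣ k := by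
    have h := pow_minVdeg_dvd_contribN hM (p := p) hχ₀ χ₀
    rw [hk χ₀ hχ₀] at h
    exact ((Nat.isCoprime_iff_coprime.mpr (hp.coprime_iff_not_dvd.mpr hd0))).pow.dvd_of_dvd_mul_right
      h
  have hsum : k' * (∑ χ ∈ bset B, (d χ : ℤ) ^ 2) = (p : ℤ) ^ Cfsg.blockDefect p B := by
    have h3 := minVdeg_add_blockDefect (p := p) hB
    rw [← h3, pow_add, hk', mul_assoc] at htr
    exact mul_left_cancel₀ (pow_ne_zero _ (mod_cast hp.ne_zero)) htr
  have hdvd' : (∑ χ ∈ bset B, d χ ^ 2) ∣ p ^ Cfsg.blockDefect p B := by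
    rw [← Int.natCast_dvd_natCast]
    push_cast
    exact ⟨k', by rw [← hsum, mul_comm]⟩
  obtain ⟨i, hi, hS⟩ := (Nat.dvd_prime_pow hp).mp hdvd'
  rcases Nat.lt_or_ge i (Cfsg.blockDefect p B) with hlt | hge
  · exfalso
    apply hk0
    rw [hk', pow_succ]
    refine mul_dvd_mul_left _ ?_
    have hSZ : (∑ χ ∈ bset B, (d χ : ℤ) ^ 2) = (p : ℤ) ^ i := by exact_mod_cast hS
    obtain ⟨j, hj⟩ := Nat.exists_eq_add_of_lt hlt
    rw [hSZ, hj, show i + j + 1 = i + (j + 1) by omega, pow_add, mul_comm k'] at hsum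
    rw [mul_left_cancel₀ (pow_ne_zero _ (mod_cast hp.ne_zero)) hsum]
    exact dvd_pow_self _ (Nat.succ_ne_zero j)
  · rw [hS, le_antisymm hi hge]

end Cfsg.Agent.Lib.BrauerPairs.RankOne
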