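import Mathlib.LinearAlgebra.Matrix.ToLin
import Mathlib.LinearAlgebra.Matrix.Trace
import Mathlib.RingTheory.SimpleModule.Basic
import Mathlib.RingTheory.Artinian.Ring
import Mathlib.RepresentationTheory.AlgebraRepresentation.Basic

/-!
# Full matrix representations from simple modules

`exists_rep_of_notMem`: an element `e` outside the radical with `e` a central idempotent is the
identity in some full matrix representation. `mem_jacobson_of_forall`: an element killed by all
those representations lies in the radical.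
-/

set_option autoImplicit false

namespace Cfsg.Agent.Lib.BrauerPairs.SimpleRep

open Module

variable {k : Type*} [Field k] [IsAlgClosed k] {A : Type*} [Ring A] [Algebra k A]
  [FiniteDimensional k A]

/-- A simple module gives a surjection to a matrix algebra. -/
theorem exists_rep_of_simple (W : Type*) [AddCommGroup W] [Module A W] [Module k W]
    [IsScalarTower k A W] [IsSimpleModule A W] [FiniteDimensional k W] :
    ∃ n : ℕ, 0 < n ∧ ∃ π : A →ₐ[k] Matrix (Fin n) (Fin n) k, Function.Surjective π ∧
      (∀ x, π x = 0 ↔ ∀ w : W, x • w = 0) ∧ (∀ x, π x = 1 ↔ ∀ w : W, x • w = w) := by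
  classical
  haveI := IsSimpleModule.nontrivial A W
  have hb := Module.finBasis k W
  refine ⟨finrank k W, Module.finrank_pos,
    (algEquivMatrix hb).toAlgHom.comp (Algebra.lsmul k k W), ?_, fun x => ?_, fun x => ?_⟩
  · refine (algEquivMatrix hb).surjective.comp fun f => ?_
    let F : Module.End (Module.End A W) W :=
      { toFun := f
        map_add' := map_add f
        map_smul' := fun φ w => by
          obtain ⟨c, rfl⟩ :=
            (IsSimpleModule.algebraMap_end_bijective_of_isAlgClosed (A := A) (V := W) k).2 φ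
          simp [Module.algebraMap_end_apply] }
    obtain ⟨r, hr⟩ := jacobson_density F (Finset.univ.image hb)
    refine ⟨r, hb.ext fun i => ?_⟩
    exact (hr (hb i) (Finset.mem_image_of_mem _ (Finset.mem_univ i))).symm
  · show algEquivMatrix hb (Algebra.lsmul k k W x) = 0 ↔ _
    rw [EmbeddingLike.map_eq_zero_iff, LinearMap.ext_iff]
    rfl
  · show algEquivMatrix hb (Algebra.lsmul k k W x) = 1 ↔ _
    rw [EmbeddingLike.map_eq_one_iff, LinearMap.ext_iff]
    rfl

variable {e : A} (he : e * e = e) (hc : ∀ x : A, e * x = x * e)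

include he hc in
theorem rep_quotient (m : Ideal A) (hm : m.IsMaximal) :
    e ∈ m ∧ (∀ x, e * x = x → x ∈ m) ∨ ∃ n : ℕ, 0 < n ∧ ∃ π : A →ₐ[k] Matrix (Fin n) (Fin n) k,
      Function.Surjective π ∧ π e = 1 ∧ ∀ x, π x = 0 → x ∈ m := by
  haveI : IsSimpleModule A (A ⧸ m) := isSimpleModule_iff_isCoatom.mpr hm.out
  let E : (A ⧸ m) →ₗ[A] (A ⧸ m) :=
    { toFun := fun w => e • w
      map_add' := smul_add e
      map_smul' := fun a w => by simp [smul_smul, hc a] }
  have hmem : ∀ x : A, x • (Submodule.Quotient.mk (p := m) 1) = 0 ↔ x ∈ m := fun x => by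
    rw [← Submodule.Quotient.mk_smul, smul_eq_mul, mul_one, Submodule.Quotient.mk_eq_zero]
  rcases LinearMap.bijective_or_eq_zero E with hbij | hzero
  · right
    obtain ⟨n, hn, π, hπ, h0, h1⟩ := exists_rep_of_simple (k := k) (A := A) (A ⧸ m)
    refine ⟨n, hn, π, hπ, (h1 e).mpr fun w => hbij.1 ?_, fun x hx => ?_⟩
    · show e • e • w = e • w
      rw [smul_smul, he]
    · exact (hmem x).mp ((h0 x).mp hx _)
  · left
    have he0 : ∀ w : A ⧸ m, e • w = 0 := fun w => LinearMap.congr_fun hzero w
    refine ⟨(hmem e).mp (he0 _), fun x hx => ?_⟩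
    rw [← hx, ← hmem, mul_smul]
    exact he0 _

include he hc in
/-- An idempotent outside the radical is the identity in some full matrix representation. -/
theorem exists_rep (hne : e ≠ 0) : ∃ n : ℕ, 0 < n ∧ ∃ π : A →ₐ[k] Matrix (Fin n) (Fin n) k,
    Function.Surjective π ∧ π e = 1 := by
  haveI : IsArtinianRing A := IsArtinianRing.of_finite k A
  obtain ⟨N, hN⟩ := IsArtinianRing.isNilpotent_jacobson_bot (R := A)
  by_contra hno
  apply hne
  have hmem : e ∈ Ideal.jacobson (⊥ : Ideal A) := by
    rw [Ideal.jacobson, Submodule.mem_sInf]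
    intro m hm
    rcases rep_quotient (k := k) he hc m hm.2 with h | ⟨n, hn, π, hπ, he1, -⟩
    · exact h.1
    · exact absurd ⟨n, hn, π, hπ, he1⟩ hno
  have hpow : ∀ t : ℕ, e ∈ Ideal.jacobson (⊥ : Ideal A) ^ (t + 1) := by
    intro t
    induction t with
    | zero => rwa [Submodule.pow_one]
    | succ t ih =>
      rw [Submodule.pow_succ]
      have := Ideal.mul_mem_mul ih hmem
      rwa [he] at this
  have := hpow N
  rw [Submodule.pow_succ, hN] at this
  simpa using this

include he hc in
/-- Uniform nilpotency for elements of the summand killed by every representation. -/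
theorem exists_prod_eq_zero {S : Set A} (heS : ∀ x ∈ S, e * x = x)
    (hS : ∀ (n : ℕ) (π : A →ₐ[k] Matrix (Fin n) (Fin n) k), Function.Surjective π → π e = 1 →
      ∀ x ∈ S, π x = 0) :
    ∃ N : ℕ, (Submodule.span k S) ^ (N + 1) = ⊥ := by
  haveI : IsArtinianRing A := IsArtinianRing.of_finite k A
  obtain ⟨N, hN⟩ := IsArtinianRing.isNilpotent_jacobson_bot (R := A)
  have hle : Submodule.span k S ≤ (Ideal.jacobson (⊥ : Ideal A)).restrictScalars k := by
    rw [Submodule.span_le]
    intro x hx
    show x ∈ Ideal.jacobson (⊥ : Ideal A)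
    rw [Ideal.jacobson, Submodule.mem_sInf]
    intro m hm
    rcases rep_quotient (k := k) he hc m hm.2 with h | ⟨n, hn, π, hπ, he1, hx0⟩
    · exact h.2 x (heS x hx)
    · exact hx0 x (hS n π hπ he1 x hx)
  have hpow : ∀ t : ℕ, (Submodule.span k S) ^ (t + 1) ≤
      ((Ideal.jacobson (⊥ : Ideal A)) ^ (t + 1)).restrictScalars k := by
    intro t
    induction t with
    | zero => simpa only [pow_one, zero_add, Submodule.pow_one] using hle
    | succ t ih =>
      rw [pow_succ, Submodule.pow_succ]
      exact Submodule.mul_le.mpr fun x hx y hy => Ideal.mul_mem_mul (ih hx) (hle hy)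
  refine ⟨N, eq_bot_iff.mpr ((hpow N).trans ?_)⟩
  rw [Submodule.pow_succ, hN]
  simp

/-- The trace pairing of matrices is faithful. -/
theorem eq_zero_of_trace {n : ℕ} {X : Matrix (Fin n) (Fin n) k}
    (h : ∀ Y : Matrix (Fin n) (Fin n) k, (Y * X).trace = 0) : X = 0 := by
  ext i j
  have := h (Matrix.single j i 1)
  simpa [Matrix.trace, Matrix.mul_apply, Matrix.single_apply, ite_and, Finset.sum_ite_eq] using this

end Cfsg.Agent.Lib.BrauerPairs.SimpleRep
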