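import Cfsg.Agent.Lib.BrauerPairs.LiftRank
import Cfsg.Agent.Lib.BrauerPairs.SimpleRep
import Cfsg.Agent.Lib.BrauerPairs.CornerAlgebra
import Cfsg.Agent.Lib.BrauerPairs.RankOne
import Cfsg.Agent.Lib.BrauerPairs.Bridge
import Cfsg.Agent.Lib.Blocks.BlockPart

/-!
# The block algebra over the residue field

`finrank_eA`: dimension is the sum of the squares of the degrees. `finrank_traceForms`: the trace
forms have dimension `k(B)`. `exists_sum_sq`: if the block has two characters and regular rank
one, the sum of the squares of the degrees is twice a square.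
-/

set_option autoImplicit false
set_option linter.style.haveILetI false
set_option synthInstance.maxHeartbeats 400000

namespace Cfsg.Agent.Lib.BrauerPairs.BlockAlgebra

open MonoidAlgebra Module
open Cfsg.Agent.Lib Cfsg.Agent.Lib.Characters.Basic
open Cfsg.Agent.Lib.Blocks (localRing residue)
open Cfsg.Agent.Lib.BrauerPairs.LiftRank Cfsg.Agent.Lib.BrauerPairs.CornerAlgebra

attribute [local instance] Ideal.Quotient.field

universe u

section Op

variable {R : Type*} [CommRing R] {G : Type u} [Group G]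

/-- Functions as linear functionals on the group algebra. -/
noncomputable def ev : (G → R) ≃ₗ[R] Dual R (MonoidAlgebra R G) :=
  (MonoidAlgebra.basis G R).constr R

theorem ev_single (φ : G → R) (g : G) (r : R) : ev φ (single g r) = r * φ g := by
  have h : (MonoidAlgebra.basis G R) g = single g 1 := by simp
  have h2 : ev φ (single g (1 : R)) = φ g := by
    rw [← h, ev, Module.Basis.constr_basis]
  rw [show single g r = r • single g (1 : R) by simp, map_smul, h2, smul_eq_mul]

theorem ev_symm_apply (Φ : Dual R (MonoidAlgebra R G)) (g : G) :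
    ev.symm Φ g = Φ (single g 1) := by
  conv_rhs => rw [← ev.apply_symm_apply Φ, ev_single, one_mul]

/-- The transpose of right multiplication, on functions. -/
noncomputable def opR (c : MonoidAlgebra R G) : (G → R) →ₗ[R] G → R :=
  ev.symm.toLinearMap.comp ((LinearMap.mulRight R c).dualMap.comp ev.toLinearMap)

theorem ev_opR (c : MonoidAlgebra R G) (φ : G → R) (x : MonoidAlgebra R G) :
    ev (opR c φ) x = ev φ (x * c) := by
  simp [opR]

theorem opR_apply [Fintype G] (c : MonoidAlgebra R G) (φ : G → R) (g : G) :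
    opR c φ g = ∑ k : G, c.coeff k * φ (g * k) := by
  classical
  have h : c = ∑ k : G, single k (c.coeff k) := by
    ext x
    simp [coeff_sum, Finsupp.finsetSum_apply, coeff_single, Finsupp.single_apply]
  rw [← one_mul (opR c φ g), ← ev_single, ev_opR]
  nth_rw 1 [h]
  rw [Finset.mul_sum, map_sum]
  refine Finset.sum_congr rfl fun k _ => ?_
  rw [single_mul_single, one_mul, ev_single]

theorem opR_idem {c : MonoidAlgebra R G} (hc : c * c = c) (φ : G → R) :
    opR c (opR c φ) = opR c φ := by
  refine ev.injective (LinearMap.ext fun x => ?_)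
  rw [ev_opR, ev_opR, ev_opR, mul_assoc, hc]

variable (R G) in
/-- Class functions. -/
def classFns : Submodule R (G → R) where
  carrier := {φ | ∀ g h : G, φ (h * g * h⁻¹) = φ g}
  zero_mem' := fun _ _ => rfl
  add_mem' := fun ha hb g h => by simp [ha g h, hb g h]
  smul_mem' := fun c a ha g h => by simp [ha g h]

theorem ev_mul_comm {φ : G → R} (hφ : φ ∈ classFns R G) (x y : MonoidAlgebra R G) :
    ev φ (x * y) = ev φ (y * x) := by
  induction x using MonoidAlgebra.induction_on with
  | add a b ha hb => rw [add_mul, mul_add, map_add, map_add, ha, hb]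
  | smul r a ha => rw [smul_mul_assoc, mul_smul_comm, map_smul, map_smul, ha]
  | of g => ?_
  induction y using MonoidAlgebra.induction_on with
  | add a b ha hb => rw [add_mul, mul_add, map_add, map_add, ha, hb]
  | smul r a ha => rw [smul_mul_assoc, mul_smul_comm, map_smul, map_smul, ha]
  | of h => ?_
  simp only [MonoidAlgebra.of_apply, single_mul_single, ev_single]
  rw [show g * h = g * (h * g) * g⁻¹ by group, hφ]

theorem opR_mem_classFns {c : MonoidAlgebra R G} (hc : ∀ x, c * x = x * c) {φ : G → R}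
    (hφ : φ ∈ classFns R G) : opR c φ ∈ classFns R G := by
  intro g h
  rw [← one_mul (opR c φ (h * g * h⁻¹)), ← one_mul (opR c φ g), ← ev_single, ← ev_single,
    ev_opR, ev_opR]
  rw [show (single (h * g * h⁻¹) (1 : R)) = single h 1 * (single g 1 * single h⁻¹ 1) by
    simp [single_mul_single, mul_assoc], mul_assoc, ev_mul_comm hφ, mul_assoc, mul_assoc,
    hc (single h 1), ← mul_assoc (single h⁻¹ (1 : R)), single_mul_single, inv_mul_cancel, one_mul,
    ← MonoidAlgebra.one_def, one_mul]

end Op

variable {G : Type u} [Group G] [Fintype G] {M : Ideal Cfsg.AlgInt} [M.IsMaximal]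
  {B : Set (Cfsg.IrrCharacter G)}

/-- The block idempotent over the residue field. -/
noncomputable def eBar (hB : Cfsg.IsPBlock M B) : MonoidAlgebra (Bridge.Res M) G :=
  (Blocks.blockIdemBar hB).1

theorem eBar_mul_self (hB : Cfsg.IsPBlock M B) : eBar hB * eBar hB = eBar hB :=
  congrArg Subtype.val (Blocks.blockIdemBar_mul_self hB)

theorem eBar_comm (hB : Cfsg.IsPBlock M B) (x : MonoidAlgebra (Bridge.Res M) G) :
    eBar hB * x = x * eBar hB :=
  (Subalgebra.mem_center_iff.mp (Blocks.blockIdemBar hB).2 x).symm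

theorem idem_mul_self (A : Set (Cfsg.IrrCharacter G)) :
    (Blocks.idem A).1 * (Blocks.idem A).1 = (Blocks.idem A).1 := by
  have := congrArg Subtype.val (Blocks.idem_mul_idem A A)
  rwa [Set.inter_self] at this

/-- Lift of a function by the section, and of its block projection. -/
noncomputable def liftOp (hB : Cfsg.IsPBlock M B) (u : G → Bridge.Res M) : G → localRing M :=
  fun g => ∑ k : G, (Blocks.blockIdemR hB).1.coeff k * sec (u (g * k))

theorem residue_liftOp (hB : Cfsg.IsPBlock M B) (u : G → Bridge.Res M) (g : G) :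
    residue M (liftOp hB u g) = opR (eBar hB) u g := by
  rw [liftOp, map_sum, opR_apply]
  refine Finset.sum_congr rfl fun k _ => ?_
  rw [map_mul, residue_sec, eBar, Blocks.blockIdemBar, Blocks.coeff_mapCenter]

theorem coe_liftOp (hB : Cfsg.IsPBlock M B) (u : G → Bridge.Res M) :
    (fun g => (liftOp hB u g : ℂ)) = opR (Blocks.idem B).1 (fun g => (sec (u g) : ℂ)) := by
  funext g
  rw [opR_apply, liftOp]
  push_cast
  refine Finset.sum_congr rfl fun k _ => ?_
  rw [Blocks.coe_coeff_blockIdemR, Blocks.coeff_idem]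

theorem opR_idem_eq (A : Set (Cfsg.IrrCharacter G)) {F : G → ℂ}
    (hF : Cfsg.IsClassFunction G F) : opR (Blocks.idem A).1 F = Cfsg.blockPart A F := by
  funext g
  rw [opR_apply, Blocks.BlockPart.blockPart_eq_sum A hF]
  exact Finset.sum_congr rfl fun k _ => by rw [Blocks.coeff_idem]

theorem sec_classFun {u : G → Bridge.Res M} (hu : u ∈ classFns (Bridge.Res M) G) :
    Cfsg.IsClassFunction G (fun g => (sec (u g) : ℂ)) := fun g h => by
  show ((sec (u (h * g * h⁻¹)) : localRing M) : ℂ) = _
  rw [hu g h]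

open scoped Classical in
theorem trace_opR (A : Set (Cfsg.IrrCharacter G)) :
    LinearMap.trace ℂ (G → ℂ) (opR (Blocks.idem A).1) =
      ∑ φ ∈ (Set.toFinite A).toFinset, (φ : G → ℂ) 1 ^ 2 := by
  rw [LinearMap.trace_eq_matrix_trace ℂ (Pi.basisFun ℂ G), Matrix.trace]
  simp only [Matrix.diag, LinearMap.toMatrix_apply, Pi.basisFun_apply, Pi.basisFun_repr]
  have h1 : ∀ g : G, opR (Blocks.idem A).1 (Pi.single g (1 : ℂ)) g = Cfsg.blockCoeff A 1 := by
    intro g
    rw [opR_apply, Finset.sum_eq_single 1]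
    · simp [Blocks.coeff_idem]
    · intro k _ hk
      rw [Pi.single_eq_of_ne (fun h => hk (by simpa using h)), mul_zero]
    · intro h
      exact absurd (Finset.mem_univ _) h
  rw [Finset.sum_congr rfl fun g _ => h1 g, Finset.sum_const, Finset.card_univ,
    ← Nat.card_eq_fintype_card, nsmul_eq_mul, Cfsg.blockCoeff, ← mul_assoc,
    mul_inv_cancel₀ (Nat.cast_ne_zero.mpr Nat.card_pos.ne'), one_mul,
    finsum_mem_eq_finite_toFinset_sum _ (Set.toFinite A)]
  refine Finset.sum_congr rfl fun φ _ => ?_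
  rw [conj_apply_one (isCharacter_irr φ), pow_two]

/-- The dimension of the block algebra. -/
theorem finrank_eA (hB : Cfsg.IsPBlock M B) :
    (finrank (Bridge.Res M) (leftFix (Bridge.Res M) (eBar hB)) : ℂ) =
      ∑ φ ∈ (Set.toFinite B).toFinset, (φ : G → ℂ) 1 ^ 2 := by
  classical
  set Ek := opR (eBar hB) with hEk
  set Ec := opR (Blocks.idem B).1 with hEc
  have hc2 := opR_idem (idem_mul_self B)
  have hk2 := opR_idem (eBar_mul_self hB)
  have h1 : finrank (Bridge.Res M) (LinearMap.range Ek) ≤ finrank ℂ (LinearMap.range Ec) := by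
    refine finrank_le_of_lift _ _ fun u hu => ⟨liftOp hB u, ?_, fun g => ?_⟩
    · rw [coe_liftOp]
      exact LinearMap.mem_range_self _ _
    · obtain ⟨v, rfl⟩ := hu
      rw [residue_liftOp, hk2]
  have h2 : finrank (Bridge.Res M) (LinearMap.ker Ek) ≤ finrank ℂ (LinearMap.ker Ec) := by
    refine finrank_le_of_lift _ _ fun u hu =>
      ⟨fun g => sec (u g) - liftOp hB u g, ?_, fun g => ?_⟩
    · rw [LinearMap.mem_ker]
      have e : (fun g => ((sec (u g) - liftOp hB u g : localRing M) : ℂ)) =
          (fun g => (sec (u g) : ℂ)) - fun g => (liftOp hB u g : ℂ) := by funext g; simp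
      rw [e, coe_liftOp, map_sub, hEc, hc2, sub_self]
    · rw [map_sub, residue_sec, residue_liftOp, show opR (eBar hB) u = 0 from hu]
      simp
  have h3 := LinearMap.finrank_range_add_finrank_ker Ek
  have h4 := LinearMap.finrank_range_add_finrank_ker Ec
  rw [finrank_fintype_fun_eq_card] at h3 h4
  have h5 : finrank (Bridge.Res M) (LinearMap.range Ek) = finrank ℂ (LinearMap.range Ec) := by
    omega
  have h6 : finrank (Bridge.Res M) (LinearMap.range Ek) =
      finrank (Bridge.Res M) (leftFix (Bridge.Res M) (eBar hB)) := by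
    have e1 : LinearMap.range Ek =
        (LinearMap.range (LinearMap.mulRight (Bridge.Res M) (eBar hB)).dualMap).map
          (ev (R := Bridge.Res M) (G := G)).symm.toLinearMap := by
      rw [hEk, opR, LinearMap.range_comp, LinearMap.range_comp_of_range_eq_top _
        (LinearEquiv.range _)]
    rw [e1, LinearEquiv.finrank_map_eq, LinearMap.finrank_range_dualMap_eq_finrank_range]
    refine congrArg (fun S : Submodule (Bridge.Res M) (MonoidAlgebra (Bridge.Res M) G) =>
      finrank (Bridge.Res M) S) ?_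
    ext x
    rw [LinearMap.mem_range, mem_leftFix]
    constructor
    · rintro ⟨y, rfl⟩
      rw [LinearMap.mulRight_apply, eBar_comm, mul_assoc, eBar_mul_self]
    · intro hx
      exact ⟨x, by rw [LinearMap.mulRight_apply, ← eBar_comm, hx]⟩
  rw [← h6, h5, ← trace_opR, ← (LinearMap.IsProj.trace
    ⟨fun c => LinearMap.mem_range_self Ec c, by rintro _ ⟨c, rfl⟩; exact hc2 c⟩)]

open scoped Classical in
theorem finrank_classFns : finrank (Bridge.Res M) (classFns (Bridge.Res M) G) =
    Nat.card (ConjClasses G) := by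
  haveI := Fintype.ofFinite (ConjClasses G)
  let f : (ConjClasses G → Bridge.Res M) →ₗ[Bridge.Res M] G → Bridge.Res M :=
    LinearMap.funLeft _ _ ConjClasses.mk
  have hf : Function.Injective f := LinearMap.funLeft_injective_of_surjective _ _ _ fun c =>
    ⟨c.out, Quotient.out_eq c⟩
  have hr : LinearMap.range f = classFns (Bridge.Res M) G := by
    apply le_antisymm
    · rintro _ ⟨u, rfl⟩ g h
      show u (ConjClasses.mk (h * g * h⁻¹)) = u (ConjClasses.mk g)
      rw [ConjClasses.mk_eq_mk_iff_isConj.mpr (isConj_iff.mpr ⟨h, rfl⟩ : IsConj g (h * g * h⁻¹))]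
    · intro φ hφ
      refine ⟨fun c => φ c.out, funext fun g => ?_⟩
      show φ (ConjClasses.mk g).out = φ g
      obtain ⟨c, hc⟩ := isConj_iff.mp (ConjClasses.mk_eq_mk_iff_isConj.mp
        (show ConjClasses.mk (ConjClasses.mk g).out = ConjClasses.mk g from Quotient.out_eq _))
      conv_rhs => rw [← hc]
      exact (hφ _ c).symm
  rw [← hr, LinearMap.finrank_range_of_inj hf, finrank_fintype_fun_eq_card,
    Nat.card_eq_fintype_card]

theorem finrank_span_le (A : Set (Cfsg.IrrCharacter G)) :
    finrank ℂ (Submodule.span ℂ ((fun χ : Cfsg.IrrCharacter G => (χ : G → ℂ)) '' A)) ≤ Nat.card A := by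
  classical
  haveI := Fintype.ofFinite A
  rw [Set.image_eq_range, Nat.card_eq_fintype_card]
  exact finrank_range_le_card _

theorem blockPart_mem_span (A : Set (Cfsg.IrrCharacter G)) (F : G → ℂ) :
    Cfsg.blockPart A F ∈ Submodule.span ℂ ((fun χ : Cfsg.IrrCharacter G => (χ : G → ℂ)) '' A) := by
  classical
  have e : Cfsg.blockPart A F =
      ∑ φ ∈ (Set.toFinite A).toFinset, Cfsg.classInner F φ • (φ : G → ℂ) := by
    funext g
    rw [Blocks.BlockPart.blockPart_apply, Finset.sum_apply]
    rfl
  rw [e]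
  exact Submodule.sum_mem _ fun φ hφ => Submodule.smul_mem _ _
    (Submodule.subset_span ⟨φ, (Set.Finite.mem_toFinset _).mp hφ, rfl⟩)

/-- The trace forms of the block algebra. -/
theorem finrank_traceForms (hB : Cfsg.IsPBlock M B) :
    finrank (Bridge.Res M) (traceForms (Bridge.Res M) (eBar hB)) = Nat.card B := by
  classical
  haveI := Fintype.ofFinite (Cfsg.IrrCharacter G)
  set Ek := opR (eBar hB) with hEk
  set K := classFns (Bridge.Res M) G
  set U := K ⊓ LinearMap.range Ek with hU
  set V := K ⊓ LinearMap.ker Ek with hV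
  have hk2 := opR_idem (eBar_mul_self hB)
  have h1 : finrank (Bridge.Res M) U ≤ Nat.card B := by
    refine le_trans (finrank_le_of_lift U _ fun u hu => ⟨liftOp hB u, ?_, fun g => ?_⟩)
      (finrank_span_le B)
    · rw [coe_liftOp, opR_idem_eq B (sec_classFun hu.1)]
      exact blockPart_mem_span B _
    · obtain ⟨v, rfl⟩ := hu.2
      rw [residue_liftOp, hk2]
  have h2 : finrank (Bridge.Res M) V ≤ Nat.card (Bᶜ : Set (Cfsg.IrrCharacter G)) := by
    refine le_trans (finrank_le_of_lift V _ fun u hu =>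
      ⟨fun g => sec (u g) - liftOp hB u g, ?_, fun g => ?_⟩) (finrank_span_le _)
    · have hcl := sec_classFun hu.1
      have e : (fun g => ((sec (u g) - liftOp hB u g : localRing M) : ℂ)) =
          Cfsg.blockPart Bᶜ (fun g => (sec (u g) : ℂ)) := by
        funext g
        show _ = _
        rw [AddSubgroupClass.coe_sub, show ((liftOp hB u g : localRing M) : ℂ) = _ from
          congrFun (coe_liftOp hB u) g, opR_idem_eq B hcl, sub_eq_iff_eq_add]
        conv_lhs => rw [show (sec (u g) : ℂ) = (fun g => (sec (u g) : ℂ)) g from rfl,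
          Characters.Complete.classFunction_eq_sum hcl, Blocks.BlockPart.sum_smul_apply]
        rw [Blocks.BlockPart.blockPart_apply, Blocks.BlockPart.blockPart_apply,
          ← Finset.sum_union (by
            rw [Finset.disjoint_left]
            intro x hx hx'
            exact (Set.Finite.mem_toFinset _).mp hx ((Set.Finite.mem_toFinset _).mp hx'))]
        refine Finset.sum_congr ?_ fun φ _ => rfl
        ext φ
        simp [em']
      rw [e]
      exact blockPart_mem_span _ _
    · rw [map_sub, residue_sec, residue_liftOp, show opR (eBar hB) u = 0 from hu.2]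
      simp
  have h3 : Nat.card (ConjClasses G) ≤ finrank (Bridge.Res M) U + finrank (Bridge.Res M) V := by
    rw [← finrank_classFns (M := M), ← Submodule.finrank_sup_add_finrank_inf_eq]
    refine le_trans (Submodule.finrank_mono ?_) (Nat.le_add_right _ _)
    intro φ hφ
    rw [← add_sub_cancel (Ek φ) φ]
    refine Submodule.add_mem_sup ⟨opR_mem_classFns (eBar_comm hB) hφ, LinearMap.mem_range_self _ _⟩
      ⟨K.sub_mem hφ (opR_mem_classFns (eBar_comm hB) hφ), ?_⟩
    show Ek (φ - Ek φ) = 0
    rw [map_sub, hk2, sub_self]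
  have h4 : Nat.card B + Nat.card (Bᶜ : Set (Cfsg.IrrCharacter G)) = Nat.card (ConjClasses G) := by
    rw [← Characters.Complete.card_irr_eq_card_conjClasses, Nat.card_coe_set_eq,
      Nat.card_coe_set_eq, Set.ncard_add_ncard_compl]
  have h5 : finrank (Bridge.Res M) U = Nat.card B := by omega
  rw [← h5]
  have e : traceForms (Bridge.Res M) (eBar hB) = U.map (ev (R := Bridge.Res M) (G := G)).toLinearMap := by
    apply le_antisymm
    · intro Φ hΦ
      obtain ⟨he1, he2⟩ := mem_traceForms.mp hΦ
      refine ⟨ev.symm Φ, ⟨fun g h => ?_, ⟨ev.symm Φ, ?_⟩⟩, ev.apply_symm_apply Φ⟩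
      · rw [ev_symm_apply, ev_symm_apply, show (single (h * g * h⁻¹) (1 : Bridge.Res M)) =
          single (h * g) 1 * single h⁻¹ 1 by simp [single_mul_single], he2, single_mul_single,
          inv_mul_cancel_left, one_mul]
      · refine ev.injective (LinearMap.ext fun x => ?_)
        rw [ev_opR, ev.apply_symm_apply, ← eBar_comm, he1]
    · rintro _ ⟨φ, ⟨hφ, v, rfl⟩, rfl⟩
      refine mem_traceForms.mpr ⟨fun x => ?_, fun x y => ev_mul_comm hφ x y⟩
      show ev (Ek v) _ = ev (Ek v) _
      rw [hEk, ev_opR, ev_opR, ← eBar_comm, ← mul_assoc, eBar_mul_self, eBar_comm]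
  rw [e, LinearEquiv.finrank_map_eq]

variable {p : ℕ} [Fact p.Prime] [CharP (Bridge.Res M) p] {n : ℕ}

/-- The character of a matrix representation. -/
noncomputable def trFun (π : MonoidAlgebra (Bridge.Res M) G →ₐ[Bridge.Res M]
    Matrix (Fin n) (Fin n) (Bridge.Res M)) : G → Bridge.Res M :=
  fun g => (π (single g 1)).trace

theorem ev_trFun (π : MonoidAlgebra (Bridge.Res M) G →ₐ[Bridge.Res M]
    Matrix (Fin n) (Fin n) (Bridge.Res M)) (x : MonoidAlgebra (Bridge.Res M) G) :
    ev (trFun π) x = (π x).trace := by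
  induction x using MonoidAlgebra.induction_on with
  | add a b ha hb => rw [map_add, map_add, ha, hb, Matrix.trace_add]
  | smul r a ha => rw [map_smul, map_smul, ha, Matrix.trace_smul]
  | of g => ?_
  rw [MonoidAlgebra.of_apply, ev_single, one_mul, trFun]

omit [M.IsMaximal] in
theorem sub_pow_isNilpotent [Fact p.Prime] {R : Type*} [Ring R] [CharP R p] {a : R} {t : ℕ}
    (ha : a ^ p ^ t = 1) : IsNilpotent (a - 1) :=
  ⟨p ^ t, by rw [sub_pow_char_pow_of_commute _ _ (Commute.one_right a), ha, one_pow, sub_self]⟩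

/-- The character only depends on the regular part. -/
theorem exists_regular_trFun (π : MonoidAlgebra (Bridge.Res M) G →ₐ[Bridge.Res M]
    Matrix (Fin n) (Fin n) (Bridge.Res M)) (hn : 0 < n) (g : G) :
    ∃ s : G, ¬ p ∣ orderOf s ∧ trFun π g = trFun π s ∧
      ∀ (m : ℕ) (ρ : MonoidAlgebra (Bridge.Res M) G →ₐ[Bridge.Res M]
        Matrix (Fin m) (Fin m) (Bridge.Res M)), 0 < m → trFun ρ g = trFun ρ s := by
  obtain ⟨x, y, hxy, hcomm, ⟨t, ht⟩, hy⟩ := Blocks.exists_isPPart (Fact.out : p.Prime) g
  have key : ∀ (m : ℕ) (ρ : MonoidAlgebra (Bridge.Res M) G →ₐ[Bridge.Res M]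
      Matrix (Fin m) (Fin m) (Bridge.Res M)), 0 < m → trFun ρ g = trFun ρ y := by
    intro m ρ hm
    haveI : Nonempty (Fin m) := ⟨⟨0, hm⟩⟩
    set P := ρ (single x 1) with hP
    set S := ρ (single y 1) with hS
    have h1 : P ^ p ^ t = 1 := by
      rw [hP, ← map_pow, MonoidAlgebra.single_pow, one_pow, ← ht, pow_orderOf_eq_one,
        ← MonoidAlgebra.one_def, map_one]
    have hPS : Commute (P - 1) S := (Commute.sub_left (by
      rw [hP, hS, Commute, SemiconjBy, ← map_mul, ← map_mul, single_mul_single,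
        single_mul_single, hcomm.eq]) (Commute.one_left S))
    have hnil : IsNilpotent ((P - 1) * S) :=
      hPS.isNilpotent_mul_right (sub_pow_isNilpotent (p := p) h1)
    have h0 := (Matrix.isNilpotent_trace_of_isNilpotent hnil).eq_zero
    rw [sub_mul, one_mul, Matrix.trace_sub, sub_eq_zero] at h0
    show (ρ (single g 1)).trace = (ρ (single y 1)).trace
    rw [← hxy, ← h0, hP, hS, ← map_mul, single_mul_single, one_mul]
  exact ⟨y, hy, key n π hn, key⟩

/-- If the regular rank is one, all representations of the block have proportional characters. -/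
theorem trace_mul_trace (hM : Cfsg.IsPModular p M) (hB : Cfsg.IsPBlock M B)
    (hl : Cfsg.blockRank p B = 1) {m : ℕ} (hn : 0 < n) (hm : 0 < m)
    (π : MonoidAlgebra (Bridge.Res M) G →ₐ[Bridge.Res M] Matrix (Fin n) (Fin n) (Bridge.Res M))
    (ρ : MonoidAlgebra (Bridge.Res M) G →ₐ[Bridge.Res M] Matrix (Fin m) (Fin m) (Bridge.Res M))
    (hπ : π (eBar hB) = 1) (hρ : ρ (eBar hB) = 1) (x y : MonoidAlgebra (Bridge.Res M) G) :
    (π x).trace * (ρ y).trace = (π y).trace * (ρ x).trace := by
  classical
  -- lifts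
  have hlift : ∀ (d : ℕ) (τ : MonoidAlgebra (Bridge.Res M) G →ₐ[Bridge.Res M]
      Matrix (Fin d) (Fin d) (Bridge.Res M)), τ (eBar hB) = 1 →
      ∀ s : G, residue M (liftOp hB (trFun τ) s) = trFun τ s := by
    intro d τ hτ s
    rw [residue_liftOp, ← one_mul (opR _ _ s), ← ev_single, ev_opR, ev_trFun, map_mul, hτ, mul_one]
    rfl
  have hcl : ∀ (d : ℕ) (τ : MonoidAlgebra (Bridge.Res M) G →ₐ[Bridge.Res M]
      Matrix (Fin d) (Fin d) (Bridge.Res M)), trFun τ ∈ classFns (Bridge.Res M) G := by
    intro d τ g h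
    show (τ _).trace = (τ _).trace
    rw [show (single (h * g * h⁻¹) (1 : Bridge.Res M)) = single (h * g) 1 * single h⁻¹ 1 by
      simp [single_mul_single], map_mul, Matrix.trace_mul_comm, ← map_mul, single_mul_single,
      inv_mul_cancel_left, one_mul]
  obtain ⟨χ₀, hχ₀⟩ := Blocks.isPBlock_nonempty hB
  have hscal : ∀ (d : ℕ) (τ : MonoidAlgebra (Bridge.Res M) G →ₐ[Bridge.Res M]
      Matrix (Fin d) (Fin d) (Bridge.Res M)), ∃ c : ℂ, ∀ s : G, ¬ p ∣ orderOf s →
        (liftOp hB (trFun τ) s : ℂ) = c * (χ₀ : G → ℂ) s := by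
    intro d τ
    refine ⟨∑ φ ∈ (Set.toFinite B).toFinset, Cfsg.classInner (fun g => (sec (trFun τ g) : ℂ)) φ *
      ((φ : G → ℂ) 1 / (χ₀ : G → ℂ) 1), fun s hs => ?_⟩
    rw [show ((liftOp hB (trFun τ) s : localRing M) : ℂ) = _ from congrFun (coe_liftOp hB _) s,
      opR_idem_eq B (sec_classFun (hcl d τ)), Blocks.BlockPart.blockPart_apply, Finset.sum_mul]
    refine Finset.sum_congr rfl fun φ hφ => ?_
    have := RankOne.mul_apply_one hl ((Set.Finite.mem_toFinset _).mp hφ) hχ₀ hs
    rw [mul_assoc, div_mul_eq_mul_div, mul_comm ((φ : G → ℂ) 1), ← this,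
      mul_div_cancel_right₀ _ (apply_one_ne_zero χ₀)]
  have hreg : ∀ s t : G, ¬ p ∣ orderOf s → ¬ p ∣ orderOf t →
      trFun π s * trFun ρ t = trFun π t * trFun ρ s := by
    intro s t hs ht
    obtain ⟨c, hc⟩ := hscal n π
    obtain ⟨c', hc'⟩ := hscal m ρ
    rw [← hlift n π hπ s, ← hlift n π hπ t, ← hlift m ρ hρ s, ← hlift m ρ hρ t, ← map_mul,
      ← map_mul]
    congr 1
    apply Subtype.ext
    push_cast
    rw [hc s hs, hc t ht, hc' s hs, hc' t ht]
    ring
  have hall : ∀ g h : G, trFun π g * trFun ρ h = trFun π h * trFun ρ g := by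
    intro g h
    obtain ⟨s, hs, h1, hs'⟩ := exists_regular_trFun (p := p) π hn g
    obtain ⟨t, ht, h2, ht'⟩ := exists_regular_trFun (p := p) π hn h
    rw [h1, h2, hs' m ρ hm, ht' m ρ hm]
    exact hreg s t hs ht
  rw [← ev_trFun, ← ev_trFun, ← ev_trFun, ← ev_trFun]
  induction x using MonoidAlgebra.induction_on with
  | add a b ha hb => rw [map_add, map_add, add_mul, mul_add, ha, hb]
  | smul r a ha => rw [map_smul, map_smul, smul_mul_assoc, mul_smul_comm, ha]
  | of g => ?_
  induction y using MonoidAlgebra.induction_on with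
  | add a b ha hb => rw [map_add, map_add, add_mul, mul_add, ha, hb]
  | smul r a ha => rw [map_smul, map_smul, smul_mul_assoc, mul_smul_comm, ha]
  | of h => ?_
  simp only [MonoidAlgebra.of_apply, ev_single, one_mul]
  exact hall g h

/-- A block of regular rank one with two characters. -/
theorem exists_sum_sq (hM : Cfsg.IsPModular p M) (hB : Cfsg.IsPBlock M B)
    (hl : Cfsg.blockRank p B = 1) (hk : Nat.card B = 2) :
    ∃ d : ℕ, 0 < d ∧ ∑ χ ∈ (Set.toFinite B).toFinset,
      Cfsg.charDegree (χ : G → ℂ) ^ 2 = 2 * d ^ 2 := by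
  classical
  set e := eBar hB with he
  have hne : e ≠ 0 := fun h => Blocks.blockIdemBar_ne_zero hB (Subtype.ext h)
  obtain ⟨n, hn, π, hπ, hπe⟩ :=
    SimpleRep.exists_rep (k := Bridge.Res M) (eBar_mul_self hB) (eBar_comm hB) hne
  obtain ⟨N, hN⟩ := SimpleRep.exists_prod_eq_zero (k := Bridge.Res M) (eBar_mul_self hB)
    (eBar_comm hB) (S := (kerPart π e : Set (MonoidAlgebra (Bridge.Res M) G)))
    (fun x hx => (mem_kerPart.mp hx).1) (fun m ρ hρ hρe x hx => by
      rcases Nat.eq_zero_or_pos m with rfl | hm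
      · exact Subsingleton.elim _ _
      obtain ⟨y, hy⟩ := hπ (Matrix.single ⟨0, hn⟩ ⟨0, hn⟩ 1)
      refine SimpleRep.eq_zero_of_trace fun Y => ?_
      obtain ⟨a, rfl⟩ := hρ Y
      rw [← map_mul]
      have h := trace_mul_trace hM hB hl hn hm π ρ hπe hρe y (a * x)
      rw [hy, Matrix.trace_single_eq_same, one_mul, map_mul π, (mem_kerPart.mp hx).2, mul_zero,
        Matrix.trace_zero, zero_mul] at h
      exact h)
  rw [Submodule.span_eq] at hN
  obtain ⟨U⟩ := exists_units (eBar_mul_self hB) (eBar_comm hB) hπ hπe hN ⟨0, hn⟩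
  have h1 := finrank_leftFix_eq (eBar_mul_self hB) (eBar_comm hB) hπe hN U
  have h2 := finrank_corner_eq_two (eBar_mul_self hB) (eBar_comm hB) hπe hN U
    (by rw [finrank_traceForms, hk])
  refine ⟨n, hn, ?_⟩
  have h3 := finrank_eA hB
  rw [h1, h2] at h3
  have h4 : ((∑ χ ∈ (Set.toFinite B).toFinset, Cfsg.charDegree (χ : G → ℂ) ^ 2 : ℕ) : ℂ) =
      ((n * n * 2 : ℕ) : ℂ) := by
    rw [h3]
    push_cast
    exact Finset.sum_congr rfl fun χ _ => by rw [BlocksChars5.Basic.apply_one]
  rw [Nat.cast_inj] at h4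
  rw [h4]
  ring

end Cfsg.Agent.Lib.BrauerPairs.BlockAlgebra
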