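import Mathlib
import Cfsg.Agent.Lib.BrauerPairs.Fusion

/-!
# Abelian defect groups and the local blocks of nilpotent blocks

With abelian maximal subgroup every fusion map is induced by the stabilizer of the maximal pair.
The pairs of a nilpotent block have nilpotent blocks.
-/

set_option autoImplicit false
set_option linter.style.haveILetI false

namespace Cfsg.Agent.Lib.BrauerPairs.Abelian

open MonoidAlgebra Cfsg.Agent.Lib.BrauerMap.Basic
open Cfsg.Agent.Lib.BrauerPairs.Center Cfsg.Agent.Lib.BrauerPairs.Trunc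
open Cfsg.Agent.Lib.BrauerPairs.Conj Cfsg.Agent.Lib.BrauerPairs.Pairs
open Cfsg.Agent.Lib.BrauerPairs.Transport Cfsg.Agent.Lib.BrauerPairs.Maximal
open Cfsg.Agent.Lib.BrauerPairs.Bridge Cfsg.Agent.Lib.BrauerPairs.Local
open Cfsg.Agent.Lib.BrauerPairs.Extend Cfsg.Agent.Lib.BrauerPairs.Embed
open Cfsg.Agent.Lib.BrauerPairs.Fusion

universe u

attribute [local instance] Ideal.Quotient.field

variable {M : Ideal Cfsg.AlgInt} [M.IsMaximal] {G : Type u} [Group G] [Finite G]

local notation "C[" P "]" => Subgroup.centralizer ((P : Subgroup G) : Set G)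

theorem le_centralizer_of_le_abelian {P Q : Subgroup G} (hab : ∀ x ∈ P, ∀ y ∈ P, x * y = y * x)
    (hQ : Q ≤ P) : P ≤ C[Q] := fun x hx q hq => hab q (hQ hq) x hx

section Pairs

variable {p : ℕ} [Fact p.Prime] [CharP (Res M) p]

/-- With abelian maximal subgroup a map between pairs below extends to the maximal pair. -/
theorem exists_mul_mem_stab {b : Idx (Res M) G} (hb : Top p b)
    (hab : ∀ x ∈ b.1, ∀ y ∈ b.1, x * y = y * x) {a : Idx (Res M) G} {g : G} (ha : Le p a b)
    (hga : Le p (cPair g a) b) : ∃ z ∈ C[(cPair g a).1], z * g ∈ stab b := by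
  have hP : b.1 ≤ b.1 ⊓ Subgroup.normalizer (a.1 : Set G) :=
    le_inf le_rfl ((le_centralizer_of_le_abelian hab ha.subgroup_le).trans
      (Subgroup.centralizer_le_normalizer _))
  have hmax : ∀ g' : G, Le p (cPair g' (cPair g a)) b →
      Nat.card ↥(b.1.map (MulAut.conj g'⁻¹).toMonoidHom ⊓
          Subgroup.normalizer ((cPair g a).1 : Set G)) ≤
        Nat.card ↥(b.1 ⊓ Subgroup.normalizer ((cPair g a).1 : Set G)) := by
    intro g' _
    rw [inf_of_le_left ((le_centralizer_of_le_abelian hab hga.subgroup_le).trans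
      (Subgroup.centralizer_le_normalizer _))]
    refine (Nat.le_of_dvd Nat.card_pos (Subgroup.card_dvd_of_le inf_le_left)).trans ?_
    rw [card_map_conj]
  obtain ⟨μ, hμ, z, hz, hle⟩ := exists_extension hb hga hmax ha (g := g) rfl ha.subgroup_le hP
    (fun n hn => Subgroup.mem_sup_left
      ((mem_centralizer_map_iff g a.1 n).mp (le_centralizer_of_le_abelian hab ha.subgroup_le hn)))
  have hμb : (⟨b.1, μ⟩ : Idx (Res M) G) = b :=
    eq_of_le_of_le hb.1 rfl hμ Relation.ReflTransGen.refl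
  rw [hμb] at hle
  refine ⟨z, hz, mem_stab.mpr ?_⟩
  exact eq_of_le_of_le hb.1
    (Subgroup.eq_of_le_of_card_ge hle.subgroup_le (card_map_conj (z * g) b.1).ge)
    hle Relation.ReflTransGen.refl

/-- The elements of the stabilizer of the maximal pair normalizing the smaller one stabilize it. -/
theorem inf_stab_le {a b : Idx (Res M) G} (hb : IsPGroup p b.1) (ha : Le p a b) :
    stab b ⊓ Subgroup.normalizer (a.1 : Set G) ≤ stab a := by
  rintro y ⟨hy, hyN⟩
  have h := le_cPair y ha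
  rw [mem_stab.mp hy] at h
  exact mem_stab.mpr (eq_of_le_of_le hb (Subgroup.mem_normalizer_iff_map_conj_eq.mp hyN) h ha)

/-- The decomposition of the stabilizer of a pair below. -/
theorem exists_stab_mul {b : Idx (Res M) G} (hb : Top p b)
    (hab : ∀ x ∈ b.1, ∀ y ∈ b.1, x * y = y * x) {a : Idx (Res M) G} (ha : Le p a b) {x : G}
    (hx : x ∈ stab a) : ∃ y ∈ stab b, ∃ c ∈ C[a.1], x = y * c := by
  have hxa : cPair x a = a := mem_stab.mp hx
  obtain ⟨z, hz, hzx⟩ := exists_mul_mem_stab hb hab ha (g := x) (hxa.symm ▸ ha)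
  refine ⟨z * x, hzx, x⁻¹ * z⁻¹ * x, ?_, by group⟩
  refine (mem_centralizer_map_iff x a.1 _).mpr ?_
  show x * (x⁻¹ * z⁻¹ * x) * x⁻¹ ∈ C[(cPair x a).1]
  simpa [mul_assoc] using inv_mem hz

/-- With abelian maximal subgroup the block is nilpotent when the stabilizer of the maximal pair
centralizes it. -/
theorem nilp_of_stab_le {ψ : Blk (Res M) G} {b : Idx (Res M) G} (hb : Top p b)
    (hψ : PairOf p ψ b) (hab : ∀ x ∈ b.1, ∀ y ∈ b.1, x * y = y * x)
    (h : ∀ x ∈ stab b, x ∈ C[b.1]) : Nilp p ψ := by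
  refine nilp_of_inner hb hψ fun a g ha hga => ⟨1, one_mem _, fun q hq => ?_⟩
  obtain ⟨z, hz, hzg⟩ := exists_mul_mem_stab hb hab ha hga
  have h1 := h _ hzg q (ha.subgroup_le hq)
  have hq' : g * q * g⁻¹ ∈ (cPair g a).1 := ⟨q, hq, rfl⟩
  have h2 := hz _ hq'
  simp only [one_mul, inv_one, mul_one]
  calc g * q * g⁻¹ = g * q * g⁻¹ * z * z⁻¹ := (mul_inv_cancel_right _ _).symm
    _ = z * g * q * (z * g)⁻¹ := by rw [h2]; group
    _ = q := by rw [← h1]; group

/-- The pairs of the local block of a pair give pairs of the group, with the stabilizers. -/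
theorem ext_bext_dn {H R R' : Subgroup G} (hR : R ≤ H)
    (hC : ∀ g : G, g ∈ C[R'] ↔ g ∈ H ∧ g ∈ C[R]) (f : Blk (Res M) C[R']) :
    ext H (bext (Subgroup.centralizer ((R.subgroupOf H : Subgroup H) : Set H)) (dn hR hC f)) =
      bext C[R'] f := by
  have e : ∀ z : MonoidAlgebra (Res M) (Subgroup.centralizer ((R.subgroupOf H : Subgroup H) : Set H)),
      ext H (ext (Subgroup.centralizer ((R.subgroupOf H : Subgroup H) : Set H)) z) =
        ext C[R'] (MonoidAlgebra.domCongr (Res M) (Res M) (eqv hR hC) z) := by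
    intro z
    induction z using MonoidAlgebra.induction_linear with
    | zero => simp
    | add u v hu hv => simp only [map_add, hu, hv]
    | single c r =>
      rw [domCongr_single, ext_single, ext_single, ext_single]
      rfl
  rw [bext, bext, e]
  congr 1
  show MonoidAlgebra.domCongr (Res M) (Res M) (eqv hR hC)
    ((idem (dn hR hC f) : ZAlg (Res M) _) : MonoidAlgebra (Res M) _) =
      ((idem f : ZAlg (Res M) C[R']) : MonoidAlgebra (Res M) _)
  rw [← coe_zMap, zMap_idem]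
  refine congrArg (fun φ => ((idem φ : ZAlg (Res M) C[R']) : MonoidAlgebra (Res M) C[R'])) ?_
  refine AlgHom.ext fun z => ?_
  show f (zMap (eqv hR hC) (zMap (eqv hR hC).symm z)) = f z
  have h := zMap_symm (eqv hR hC).symm z
  rw [MulEquiv.symm_symm] at h
  rw [h]

/-- The block of a pair of a nilpotent block is nilpotent. -/
theorem nilp_local {ψ : Blk (Res M) G} (hnil : Nilp p ψ) {a : Idx (Res M) G}
    (ha : PairOf p ψ a) : Nilp p (a.2 : Blk (Res M) C[a.1]) := by
  have hap : IsPGroup p a.1 := ha.1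
  rintro ⟨S, ν⟩ hc x hx hreg
  have S0 := setup_centralizer (a := a) hap
  obtain ⟨R, hR, rfl⟩ : ∃ R : Subgroup G, R ≤ C[a.1] ∧ R.subgroupOf C[a.1] = S :=
    ⟨S.map (C[a.1]).subtype, Subgroup.map_subtype_le S,
      Subgroup.comap_map_eq_self_of_injective (C[a.1]).subtype_injective S⟩
  have hRp : IsPGroup p R := hc.1.of_equiv (Subgroup.subgroupOfEquivOfLe hR)
  have hg : C[a.1] ⊓ C[R] ≤ C[a.1] := inf_le_left
  set μ := lift hR (S0.hC hg) ν with hμ
  have hν : dn hR (S0.hC hg) μ = ν := dn_lift _ _ _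
  rw [← hν] at hc hx
  have hstep := (S0.pairOf_dn_iff hRp hR hg μ).mp hc
  have hp' : IsPGroup p ↥(a.1 ⊔ R) := S0.isPGroup_sup hRp hR
  have hpair : PairOf p ψ (⟨a.1 ⊔ R, μ⟩ : Idx (Res M) G) :=
    (pairOf_iff_of_le hp' (Relation.ReflTransGen.single hstep) ψ).mp ha
  obtain ⟨hxN, hxfix⟩ := mem_stab_iff.mp hx
  have hxa : (x : G) ∈ C[a.1] := x.2
  have hxR : ∀ r, r ∈ R ↔ (x : G) * r * (x : G)⁻¹ ∈ R := by
    intro r
    constructor
    · intro hr
      exact (Subgroup.mem_normalizer_iff.mp hxN ⟨r, hR hr⟩).mp hr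
    · intro hr
      have hrH : r ∈ C[a.1] := by
        have := mul_mem (mul_mem (inv_mem hxa) (hR hr)) hxa
        simpa [mul_assoc] using this
      exact (Subgroup.mem_normalizer_iff.mp hxN ⟨r, hrH⟩).mpr hr
  have hxs : (x : G) ∈ stab (⟨a.1 ⊔ R, μ⟩ : Idx (Res M) G) := by
    refine mem_stab_iff.mpr ⟨?_, ?_⟩
    · rw [Subgroup.mem_normalizer_iff_map_conj_eq, Subgroup.map_sup]
      rw [Subgroup.mem_normalizer_iff_map_conj_eq.mp
        (Subgroup.centralizer_le_normalizer _ hxa),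
        Subgroup.mem_normalizer_iff_map_conj_eq.mp (Subgroup.mem_normalizer_iff.mpr hxR)]
    · show conjA (x : G) (bext C[a.1 ⊔ R] μ) = bext C[a.1 ⊔ R] μ
      rw [← ext_bext_dn hR (S0.hC hg) μ, ← ext_conjA, hxfix]
  have hxC := hnil _ hpair x hxs (by rwa [Subgroup.orderOf_coe])
  exact (mem_centralizer_subgroupOf_iff hR x).mpr
    (((centralizer_sup a.1 R (x : G)).mp hxC).2)

/-- In a nilpotent block every subgroup below the maximal pair is fully centralized. -/
theorem card_conj_inf_le_of_nilp {ψ : Blk (Res M) G} (hnil : Nilp p ψ) {b : Idx (Res M) G}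
    (hb : Top p b) (hψ : PairOf p ψ b) {a : Idx (Res M) G} (ha : Le p a b) {g : G}
    (hg : Le p (cPair g a) b) :
    Nat.card ↥(b.1.map (MulAut.conj g⁻¹).toMonoidHom ⊓ C[a.1]) ≤ Nat.card ↥(b.1 ⊓ C[a.1]) := by
  obtain ⟨u, hu, h⟩ := exists_inner_of_nilp hnil hb hψ a g ha hg
  have e : a.1.map (MulAut.conj g).toMonoidHom = a.1.map (MulAut.conj u).toMonoidHom := by
    ext y
    constructor
    · rintro ⟨q, hq, rfl⟩
      exact ⟨q, hq, (h q hq).symm⟩
    · rintro ⟨q, hq, rfl⟩
      exact ⟨q, hq, h q hq⟩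
  rw [card_conj_inf, map_conj_centralizer, e, ← map_conj_centralizer, ← card_conj_inf,
    map_conj_eq_of_mem (inv_mem (Subgroup.le_normalizer hu))]

end Pairs

end Cfsg.Agent.Lib.BrauerPairs.Abelian
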