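import Mathlib
import Cfsg.Agent.Lib.BrauerPairs.Embed

/-!
# Blocks of a normal subgroup covered by a block, in characteristic p

For a central idempotent `x` of `k[G]` and a block `ν` of the normal subgroup `N` with
`x * e_ν ≠ 0`, the truncation of `x` at the subgroup of a pair of `ν` is nonzero.  The proof
decomposes `x` along the cosets of `N`.
-/

set_option autoImplicit false
set_option linter.style.haveILetI false

namespace Cfsg.Agent.Lib.BrauerPairs.NormalSub

open MonoidAlgebra Cfsg.Agent.Lib.BrauerMap.Basic
open Cfsg.Agent.Lib.BrauerPairs.Center Cfsg.Agent.Lib.BrauerPairs.Trunc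
open Cfsg.Agent.Lib.BrauerPairs.Conj Cfsg.Agent.Lib.BrauerPairs.Pairs
open Cfsg.Agent.Lib.BrauerPairs.Maximal Cfsg.Agent.Lib.BrauerPairs.Embed

universe u v

variable {k : Type v} [Field k] {G : Type u} [Group G] [Finite G]

local notation "C[" P "]" => Subgroup.centralizer (SetLike.coe P)

/-- The restriction of coefficients to a subgroup. -/
noncomputable def res (N : Subgroup G) (a : MonoidAlgebra k G) : MonoidAlgebra k N :=
  brauerTo ⊥ N a

theorem coeff_res (N : Subgroup G) (a : MonoidAlgebra k G) (n : N) :
    (res N a).coeff n = a.coeff (n : G) := by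
  rw [res, coeff_brauerTo, if_pos]
  rw [Subgroup.mem_centralizer_iff]
  intro h hh
  rw [SetLike.mem_coe, Subgroup.mem_bot] at hh
  rw [hh, one_mul, mul_one]

theorem res_mem_center {N : Subgroup G} {a : MonoidAlgebra k G} (ha : IsFixedBy N a) :
    res N a ∈ Subalgebra.center k (MonoidAlgebra k N) := by
  rw [mem_center_iff_coeff]
  intro u n
  rw [coeff_res, coeff_res]
  exact ha u u.2 n

theorem ext_res {N : Subgroup G} {a : MonoidAlgebra k G} (h : ∀ g, g ∉ N → a.coeff g = 0) :
    ext N (res N a) = a := by
  ext g
  by_cases hg : g ∈ N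
  · exact (coeff_ext N _ ⟨g, hg⟩).trans (coeff_res N a ⟨g, hg⟩)
  · rw [coeff_ext_of_notMem N _ hg, h g hg]

/-- Elements fixed by `N` commute with the group algebra of `N`. -/
theorem commute_ext {N : Subgroup G} {a : MonoidAlgebra k G} (ha : IsFixedBy N a)
    (y : MonoidAlgebra k N) : a * ext N y = ext N y * a := by
  induction y using MonoidAlgebra.induction_linear with
  | zero => rw [map_zero, mul_zero, zero_mul]
  | add f g hf hg => rw [map_add, mul_add, add_mul, hf, hg]
  | single n r =>
    classical
    haveI := Fintype.ofFinite G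
    ext g
    have he : ∀ x : G, (ext N (single n r)).coeff x = if x = (n : G) then r else 0 := by
      intro x
      by_cases hx : x ∈ N
      · rw [show x = ((⟨x, hx⟩ : N) : G) from rfl, coeff_ext, coeff_single, Finsupp.single_apply]
        exact if_congr ⟨fun e => congrArg Subtype.val e.symm, fun e => (Subtype.ext e).symm⟩ rfl rfl
      · rw [coeff_ext_of_notMem N _ hx, if_neg]
        exact fun e => hx (e ▸ n.2)
    rw [coeff_mul_sum, coeff_mul_sum]
    simp only [he, mul_ite, mul_zero, ite_mul, zero_mul]
    rw [Finset.sum_ite_eq' Finset.univ (n : G), if_pos (Finset.mem_univ _),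
      Finset.sum_eq_single (g * (n : G)⁻¹)]
    · rw [if_pos (by group), mul_comm]
      congr 1
      have h2 := ha n n.2 ((n : G)⁻¹ * g)
      rw [show (n : G) * ((n : G)⁻¹ * g) * (n : G)⁻¹ = g * (n : G)⁻¹ by group] at h2
      exact h2
    · intro x _ hx
      rw [if_neg]
      intro e
      apply hx
      rw [← e]; group
    · exact fun h => absurd (Finset.mem_univ _) h

/-! ### Components along the cosets -/

section Coset

variable (N : Subgroup G) [N.Normal]

open scoped Classical in
/-- The component of `a` on one coset. -/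
noncomputable def comp (s : G ⧸ N) (a : MonoidAlgebra k G) : MonoidAlgebra k G :=
  ofCoeff (Finsupp.equivFunOnFinite.symm fun g =>
    if (QuotientGroup.mk g : G ⧸ N) = s then a.coeff g else 0)

open scoped Classical in
theorem coeff_comp (s : G ⧸ N) (a : MonoidAlgebra k G) (g : G) :
    (comp N s a).coeff g = if (QuotientGroup.mk g : G ⧸ N) = s then a.coeff g else 0 := rfl

theorem sum_comp [Fintype (G ⧸ N)] (a : MonoidAlgebra k G) : ∑ s, comp N s a = a := by
  classical
  ext g
  rw [MonoidAlgebra.coeff_sum, Finsupp.finsetSum_apply]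
  simp only [coeff_comp]
  rw [Finset.sum_ite_eq Finset.univ, if_pos (Finset.mem_univ _)]

theorem isFixedBy_comp {s : G ⧸ N} {a : MonoidAlgebra k G} (ha : IsFixedBy N a) :
    IsFixedBy N (comp N s a) := by
  classical
  intro u hu g
  rw [coeff_comp, coeff_comp, ha u hu g]
  have : (QuotientGroup.mk (u * g * u⁻¹) : G ⧸ N) = QuotientGroup.mk g := by
    rw [QuotientGroup.mk_mul, QuotientGroup.mk_mul, QuotientGroup.mk_inv,
      (QuotientGroup.eq_one_iff u).mpr hu, one_mul, inv_one, mul_one]
  rw [this]

/-- The support lies in one coset. -/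
def InCoset (s : G ⧸ N) (a : MonoidAlgebra k G) : Prop :=
  ∀ g : G, (QuotientGroup.mk g : G ⧸ N) ≠ s → a.coeff g = 0

theorem inCoset_comp (s : G ⧸ N) (a : MonoidAlgebra k G) : InCoset N s (comp N s a) := by
  classical
  intro g hg
  rw [coeff_comp, if_neg hg]

theorem inCoset_one : InCoset N (1 : G ⧸ N) (1 : MonoidAlgebra k G) := by
  classical
  intro g hg
  rw [one_def, coeff_single, Finsupp.single_apply, if_neg]
  rintro rfl
  exact hg (QuotientGroup.mk_one N)

theorem InCoset.mul {s t : G ⧸ N} {a b : MonoidAlgebra k G} (ha : InCoset N s a)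
    (hb : InCoset N t b) : InCoset N (s * t) (a * b) := by
  classical
  haveI := Fintype.ofFinite G
  intro g hg
  rw [coeff_mul_sum]
  refine Finset.sum_eq_zero fun x _ => ?_
  by_cases hx : (QuotientGroup.mk x : G ⧸ N) = s
  · rw [hb (x⁻¹ * g) ?_, mul_zero]
    intro e
    apply hg
    rw [← hx, ← e, ← QuotientGroup.mk_mul, mul_inv_cancel_left]
  · rw [ha x hx, zero_mul]

/-- The product of components along a list of cosets. -/
noncomputable def prodComp (a : MonoidAlgebra k G) (l : List (G ⧸ N)) : MonoidAlgebra k G :=
  (l.map fun s => comp N s a).prod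

theorem prodComp_nil (a : MonoidAlgebra k G) : prodComp N a [] = 1 := rfl

theorem prodComp_cons (a : MonoidAlgebra k G) (s : G ⧸ N) (l : List (G ⧸ N)) :
    prodComp N a (s :: l) = comp N s a * prodComp N a l := by simp [prodComp]

theorem prodComp_append (a : MonoidAlgebra k G) (l₁ l₂ : List (G ⧸ N)) :
    prodComp N a (l₁ ++ l₂) = prodComp N a l₁ * prodComp N a l₂ := by simp [prodComp]

theorem isFixedBy_prodComp {a : MonoidAlgebra k G} (ha : IsFixedBy N a) (l : List (G ⧸ N)) :
    IsFixedBy N (prodComp N a l) := by
  induction l with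
  | nil => exact isFixedBy_one _
  | cons s l ih => rw [prodComp_cons]; exact isFixedBy_mul (isFixedBy_comp N ha) ih

theorem inCoset_prodComp (a : MonoidAlgebra k G) (l : List (G ⧸ N)) :
    InCoset N l.prod (prodComp N a l) := by
  induction l with
  | nil => exact inCoset_one N
  | cons s l ih =>
    rw [prodComp_cons, List.prod_cons]
    exact InCoset.mul N (inCoset_comp N s a) ih

variable {p : ℕ} [Fact p.Prime] [CharP k p]

theorem br_prodComp {D : Subgroup G} (hD : IsPGroup p D) (hDN : D ≤ N) {a : MonoidAlgebra k G}
    (ha : IsFixedBy N a) (h0 : br D a = 0) {l : List (G ⧸ N)} (hl : l ≠ []) :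
    br D (prodComp N a l) = 0 := by
  classical
  cases l with
  | nil => exact absurd rfl hl
  | cons s l =>
    have hc : br D (comp N s a) = 0 := by
      rw [coeff_eq_zero_iff_br] at h0 ⊢
      intro g hg
      rw [coeff_comp, h0 g hg, ite_self]
    rw [prodComp_cons, br_mul hD (isFixedBy_mono hDN (isFixedBy_comp N ha))
      (isFixedBy_mono hDN (isFixedBy_prodComp N ha l)), hc, zero_mul]

theorem exists_split {ι : Type*} [Group ι] [Finite ι] (l : List ι) (h : Nat.card ι ≤ l.length) :
    ∃ a m b : List ι, l = a ++ m ++ b ∧ m ≠ [] ∧ m.prod = 1 ∧ m.length ≤ Nat.card ι := by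
  classical
  haveI := Fintype.ofFinite ι
  obtain ⟨i, j, hij, he⟩ := Fintype.exists_ne_map_eq_of_card_lt
    (fun i : Fin (Nat.card ι + 1) => (l.take i).prod) (by simp [Nat.card_eq_fintype_card])
  wlog hlt : i < j generalizing i j
  · exact this j i hij.symm he.symm (lt_of_le_of_ne (not_lt.mp hlt) hij.symm)
  refine ⟨l.take i, (l.take j).drop i, l.drop j, ?_, ?_, ?_, ?_⟩
  · have h1 : l.take (i : ℕ) = (l.take (j : ℕ)).take i := by
      rw [List.take_take, min_eq_left (le_of_lt (Fin.lt_def.mp hlt))]
    rw [h1, List.take_append_drop, List.take_append_drop]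
  · intro hnil
    have := congrArg List.length hnil
    simp only [List.length_drop, List.length_take, List.length_nil] at this
    have hj := j.2
    have hi : (i : ℕ) < j := hlt
    omega
  · have h1 : (l.take (j : ℕ)) = l.take (i : ℕ) ++ (l.take (j : ℕ)).drop i := by
      conv_lhs => rw [← List.take_append_drop (i : ℕ) (l.take (j : ℕ))]
      rw [List.take_take, min_eq_left (le_of_lt (Fin.lt_def.mp hlt))]
    have h2 := congrArg List.prod h1
    rw [List.prod_append] at h2
    rw [← he] at h2
    exact left_eq_mul.mp h2
  · simp only [List.length_drop, List.length_take]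
    have hj := j.2
    omega

variable [IsAlgClosed k]

/-- The main lemma: the truncation at the subgroup of a pair of a covered block is nonzero. -/
theorem br_ne_zero {x : MonoidAlgebra k G} (hx : x ∈ Subalgebra.center k (MonoidAlgebra k G))
    (hi : IsIdempotentElem x) {ν : Blk k N} {D : Subgroup N}
    {μ : Blk k C[D]} (hμ : PairOf p ν (⟨D, μ⟩ : Idx k N)) (hne : x * bext N ν ≠ 0) :
    br (D.map N.subtype) x ≠ 0 := by
  classical
  intro h0
  set D' := D.map N.subtype with hD'
  have hDN : D' ≤ N := Subgroup.map_subtype_le D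
  have hD'p : IsPGroup p D' := hμ.1.map _
  have hxN : IsFixedBy N x := isFixedBy_of_mem_center _ hx
  haveI := Fintype.ofFinite (G ⧸ N)
  set J := nilradical (ZAlg k N) with hJ
  haveI : IsArtinianRing (ZAlg k N) := IsArtinianRing.of_finite k _
  obtain ⟨m, hm⟩ := IsArtinianRing.isNilpotent_nilradical (R := ZAlg k N)
  set e := bext N ν with he
  have hei : e * e = e := bext_isIdem N ν
  -- a segment with trivial coset product gives a nilpotent element of the centre of k[N]
  have hseg : ∀ l : List (G ⧸ N), l ≠ [] → l.prod = 1 →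
      ∃ y ∈ J, prodComp N x l * e = ext N ((y : ZAlg k N) : MonoidAlgebra k N) := by
    intro l hl hl1
    set q := prodComp N x l with hq
    have hqN : IsFixedBy N q := isFixedBy_prodComp N hxN l
    have hsupp : ∀ g, g ∉ N → q.coeff g = 0 := fun g hg =>
      inCoset_prodComp N x l g (by
        rw [hl1]; exact fun h => hg ((QuotientGroup.eq_one_iff g).mp h))
    refine ⟨⟨res N q, res_mem_center hqN⟩ * idem ν, ?_, ?_⟩
    · rw [hJ, mem_nilradical]
      refine isNilpotent_of_forall_hom (k := k) fun φ => ?_
      rw [map_mul]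
      by_cases hφ : φ = ν
      · rw [hφ, ← hμ.apply_eq]
        show val D μ (res N q) * _ = 0
        rw [val_congr (b := 0) μ, val_zero, zero_mul]
        have hb := (coeff_eq_zero_iff_br _).mp (br_prodComp N hD'p hDN hxN h0 hl)
        rw [br_zero, coeff_eq_zero_iff_br]
        intro g hg
        rw [coeff_res]
        refine hb (g : G) ?_
        rw [Subgroup.mem_centralizer_iff]
        rintro _ ⟨d, hd, rfl⟩
        exact congrArg Subtype.val (Subgroup.mem_centralizer_iff.mp hg d hd)
      · rw [apply_idem_ne hφ, mul_zero]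
    · show q * e = ext N (res N q * bidem ν)
      rw [map_mul, ext_res hsupp]
      rfl
  -- long products vanish
  set c := Nat.card (G ⧸ N) with hc
  have hlong : ∀ j : ℕ, ∀ l : List (G ⧸ N), c * j ≤ l.length →
      ∃ y ∈ J ^ j, ∃ l' : List (G ⧸ N), prodComp N x l * e =
        ext N ((y : ZAlg k N) : MonoidAlgebra k N) * (prodComp N x l' * e) := by
    intro j
    induction j with
    | zero =>
      intro l _
      exact ⟨1, by rw [pow_zero, Ideal.one_eq_top]; trivial, l, by simp⟩
    | succ j ih =>
      intro l hl
      obtain ⟨a, mid, b, rfl, hmid, hmid1, hmlen⟩ := exists_split l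
        (le_trans (Nat.le_mul_of_pos_right _ (Nat.succ_pos j)) hl)
      obtain ⟨y, hy, hye⟩ := hseg mid hmid hmid1
      obtain ⟨z, hz, l', hze⟩ := ih (a ++ b) (by
        simp only [List.length_append] at hl ⊢
        rw [Nat.mul_succ] at hl
        rw [hc] at hl ⊢
        omega)
      refine ⟨y * z, by rw [pow_succ']; exact Ideal.mul_mem_mul hy hz, l', ?_⟩
      have hA : prodComp N x a * (prodComp N x mid * e) = (prodComp N x mid * e) * prodComp N x a :=
        by rw [hye, commute_ext (isFixedBy_prodComp N hxN a)]
      have hB : e * prodComp N x b = prodComp N x b * e :=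
        (commute_ext (isFixedBy_prodComp N hxN b) (bidem ν)).symm
      rw [Subalgebra.coe_mul, map_mul, mul_assoc, ← hze, ← hye, prodComp_append, prodComp_append,
        prodComp_append]
      have hA' : e * prodComp N x a = prodComp N x a * e :=
        (commute_ext (isFixedBy_prodComp N hxN a) (bidem ν)).symm
      calc prodComp N x a * prodComp N x mid * prodComp N x b * e
          = prodComp N x a * (prodComp N x mid * e) * prodComp N x b := by
            rw [mul_assoc _ _ e, ← hB]; simp only [mul_assoc]
        _ = prodComp N x mid * e * (prodComp N x a * prodComp N x b) := by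
            rw [hA]; simp only [mul_assoc]
        _ = prodComp N x mid * e * (prodComp N x a * prodComp N x b * e) := by
            conv_lhs => rw [← hei]
            simp only [mul_assoc]
            rw [← mul_assoc e (prodComp N x a), hA', mul_assoc, hB]
  have hfin : ∀ (n : ℕ) (l : List (G ⧸ N)), n + l.length = c * m →
      x ^ n * (prodComp N x l * e) = 0 := by
    intro n
    induction n with
    | zero =>
      intro l hl
      obtain ⟨y, hy, l', hye⟩ := hlong m l (by omega)
      rw [hm, Ideal.zero_eq_bot, Ideal.mem_bot] at hy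
      rw [hye, hy]
      simp
    | succ n ih =>
      intro l hl
      have hx' : x * (prodComp N x l * e) = ∑ s, prodComp N x (s :: l) * e := by
        conv_lhs => arg 1; rw [← sum_comp N x]
        rw [Finset.sum_mul]
        exact Finset.sum_congr rfl fun s _ => by rw [prodComp_cons, mul_assoc]
      rw [pow_succ, mul_assoc, hx', Finset.mul_sum]
      exact Finset.sum_eq_zero fun s _ => ih (s :: l) (by simp only [List.length_cons]; omega)
  have hlast := hfin (c * m) [] (by simp)
  rw [prodComp_nil, one_mul] at hlast
  apply hne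
  rcases Nat.eq_zero_or_pos (c * m) with h | h
  · rw [h, pow_zero, one_mul] at hlast
    rw [hlast, mul_zero]
  · obtain ⟨n, hn⟩ := Nat.exists_eq_succ_of_ne_zero h.ne'
    rwa [hn, hi.pow_succ_eq] at hlast

end Coset

end Cfsg.Agent.Lib.BrauerPairs.NormalSub
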