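import Mathlib.LinearAlgebra.Dual.Lemmas
import Mathlib.Algebra.Algebra.Operations
import Mathlib.LinearAlgebra.FiniteDimensional.Lemmas

/-!
# Small local symmetric algebras are commutative

`Loc.comm`: a local symmetric algebra `C = k f ⊕ J` inside an algebra `A` is commutative if the
commutators have codimension at most `4` in it (Külshammer).
-/

set_option autoImplicit false

namespace Cfsg.Agent.Lib.BrauerPairs.CornerLocal

open Module

variable {k : Type*} [Field k] {A : Type*} [Ring A] [Algebra k A]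

/-- A local symmetric algebra sitting in `A` with identity `f`. -/
structure Loc (C J : Submodule k A) (f : A) (lam : A →ₗ[k] k) : Prop where
  f_mem : f ∈ C
  f_notMem : f ∉ J
  f_mul : ∀ x ∈ C, f * x = x
  mul_f : ∀ x ∈ C, x * f = x
  le : J ≤ C
  mul_le : J * J ≤ J
  dec : ∀ x ∈ C, ∃ c : k, x - c • f ∈ J
  nil : ∃ N : ℕ, J ^ (N + 1) = ⊥
  symm : ∀ x y : A, lam (x * y) = lam (y * x)
  nondeg : ∀ x ∈ C, (∀ y ∈ C, lam (x * y) = 0) → x = 0

variable (k) in
/-- The commutators. -/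
def comms (C : Submodule k A) : Submodule k A :=
  Submodule.span k {w | ∃ u ∈ C, ∃ v ∈ C, w = u * v - v * u}

variable {C J : Submodule k A} {f : A} {lam : A →ₗ[k] k}

theorem Loc.sub_eq (h : Loc C J f lam) {u v : A} (hu : u ∈ C) (hv : v ∈ C) :
    ∃ u' ∈ J, ∃ v' ∈ J, u * v - v * u = u' * v' - v' * u' := by
  obtain ⟨a, ha⟩ := h.dec u hu
  obtain ⟨b, hb⟩ := h.dec v hv
  refine ⟨_, ha, _, hb, ?_⟩
  simp only [sub_mul, mul_sub, smul_mul_assoc, mul_smul_comm, h.f_mul f h.f_mem, h.f_mul u hu,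
    h.f_mul v hv, h.mul_f u hu, h.mul_f v hv, smul_sub, smul_smul]
  rw [mul_comm b a]
  abel

theorem Loc.comms_le_sq (h : Loc C J f lam) : comms k C ≤ J ^ 2 := by
  refine Submodule.span_le.mpr ?_
  rintro w ⟨u, hu, v, hv, rfl⟩
  obtain ⟨u', hu', v', hv', e⟩ := h.sub_eq hu hv
  rw [SetLike.mem_coe, e, pow_two]
  exact Submodule.sub_mem _ (Submodule.mul_mem_mul hu' hv') (Submodule.mul_mem_mul hv' hu')

theorem Loc.lam_comms (h : Loc C J f lam) {w : A} (hw : w ∈ comms k C) : lam w = 0 := by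
  have : comms k C ≤ LinearMap.ker lam := by
    refine Submodule.span_le.mpr ?_
    rintro w ⟨u, -, v, -, rfl⟩
    rw [SetLike.mem_coe, LinearMap.mem_ker, map_sub, h.symm u v, sub_self]
  exact this hw

theorem Loc.pow_le (h : Loc C J f lam) : ∀ t : ℕ, J ^ (t + 1) ≤ J
  | 0 => (pow_one J).le
  | t + 1 => by
    rw [pow_succ]
    exact (mul_le_mul' (h.pow_le t) le_rfl).trans h.mul_le

theorem Loc.pow_anti (h : Loc C J f lam) {s t : ℕ} (hs : 1 ≤ s) (hst : s ≤ t) :
    J ^ t ≤ J ^ s := by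
  induction t, hst using Nat.le_induction with
  | base => exact le_rfl
  | succ t hst ih =>
    obtain ⟨r, rfl⟩ : ∃ r, t = r + 1 := ⟨t - 1, by omega⟩
    refine le_trans ?_ ih
    rw [pow_succ, pow_succ J r, mul_assoc]
    exact mul_le_mul' le_rfl h.mul_le

/-- Elements killed by `J` on both sides. -/
def Soc (C J : Submodule k A) (z : A) : Prop :=
  z ∈ C ∧ (∀ j ∈ J, j * z = 0) ∧ ∀ j ∈ J, z * j = 0

theorem Loc.lam_ne_zero (h : Loc C J f lam) {z : A} (hz : Soc C J z) (hne : z ≠ 0) :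
    lam z ≠ 0 := by
  intro h0
  refine hne (h.nondeg z hz.1 fun y hy => ?_)
  obtain ⟨c, hc⟩ := h.dec y hy
  rw [← sub_add_cancel y (c • f), mul_add, hz.2.2 _ hc, zero_add, mul_smul_comm,
    h.mul_f z hz.1, map_smul, h0, smul_zero]

theorem Loc.soc_mem_span (h : Loc C J f lam) {z z' : A} (hz : Soc C J z) (hz' : Soc C J z')
    (hne : z' ≠ 0) : z ∈ k ∙ z' := by
  have h0 := h.lam_ne_zero hz' hne
  have hd : Soc C J (lam z' • z - lam z • z') := by
    refine ⟨C.sub_mem (C.smul_mem _ hz.1) (C.smul_mem _ hz'.1), fun j hj => ?_, fun j hj => ?_⟩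
    · rw [mul_sub, mul_smul_comm, mul_smul_comm, hz.2.1 j hj, hz'.2.1 j hj, smul_zero, smul_zero,
        sub_zero]
    · rw [sub_mul, smul_mul_assoc, smul_mul_assoc, hz.2.2 j hj, hz'.2.2 j hj, smul_zero, smul_zero,
        sub_zero]
  have hd0 : lam z' • z - lam z • z' = 0 := by
    by_contra hne'
    exact h.lam_ne_zero hd hne' (by
      rw [map_sub, map_smul, map_smul, smul_eq_mul, smul_eq_mul, mul_comm, sub_self])
  refine Submodule.mem_span_singleton.mpr ⟨(lam z')⁻¹ * lam z, ?_⟩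
  rw [← smul_smul, ← sub_eq_zero.mp hd0, smul_smul, inv_mul_cancel₀ h0, one_smul]

theorem Loc.exists_soc (h : Loc C J f lam) {I : Submodule k A} (hI : I ≠ ⊥) (hIC : I ≤ C)
    (hl : J * I ≤ I) (hr : I * J ≤ I) : ∃ z ∈ I, z ≠ 0 ∧ Soc C J z := by
  classical
  obtain ⟨N, hN⟩ := h.nil
  have hexl : ∃ t, J ^ t * I = ⊥ := ⟨N + 1, by rw [hN, Submodule.bot_mul]⟩
  set s := Nat.find hexl with hs
  have hs0 : s ≠ 0 := fun e => hI (by
    have := Nat.find_spec hexl
    rwa [← hs, e, pow_zero, one_mul] at this)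
  obtain ⟨s', hs'⟩ : ∃ s', s = s' + 1 := ⟨s - 1, by omega⟩
  set L := J ^ s' * I with hL
  have hLne : L ≠ ⊥ := Nat.find_min hexl (by omega)
  have hJL : J * L = ⊥ := by
    rw [hL, ← mul_assoc, ← pow_succ', ← hs', hs]
    exact Nat.find_spec hexl
  have hLI : L ≤ I := by
    have key : ∀ t, J ^ t * I ≤ I := by
      intro t
      induction t with
      | zero => rw [pow_zero, one_mul]
      | succ t ih =>
        rw [pow_succ', mul_assoc]
        exact (mul_le_mul' le_rfl ih).trans hl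
    exact key s'
  have hexr : ∃ t, L * J ^ t = ⊥ := ⟨N + 1, by rw [hN, Submodule.mul_bot]⟩
  set r := Nat.find hexr with hrdef
  have hr0 : r ≠ 0 := fun e => hLne (by
    have := Nat.find_spec hexr
    rwa [← hrdef, e, pow_zero, mul_one] at this)
  obtain ⟨r', hr'⟩ : ∃ r', r = r' + 1 := ⟨r - 1, by omega⟩
  obtain ⟨z, hz, hz0⟩ := Submodule.exists_mem_ne_zero_of_ne_bot
    (Nat.find_min hexr (show r' < r by omega))
  have hzI : z ∈ I := by
    have key : ∀ t, L * J ^ t ≤ I := by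
      intro t
      induction t with
      | zero => rw [pow_zero, mul_one]; exact hLI
      | succ t ih =>
        rw [pow_succ, ← mul_assoc]
        exact (mul_le_mul' ih le_rfl).trans hr
    exact key r' hz
  refine ⟨z, hzI, hz0, hIC hzI, fun j hj => ?_, fun j hj => ?_⟩
  · have h1 : j * z ∈ J * (L * J ^ r') := Submodule.mul_mem_mul hj hz
    rwa [← mul_assoc, hJL, Submodule.bot_mul, Submodule.mem_bot] at h1
  · have h1 : z * j ∈ L * J ^ r' * J := Submodule.mul_mem_mul hz hj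
    rwa [mul_assoc, ← pow_succ, ← hr', hrdef, Nat.find_spec hexr, Submodule.mem_bot] at h1

/-- One generator of the radical: commutative. -/
theorem Loc.comms_eq_bot_of_one (h : Loc C J f lam) {x : A} (hx : x ∈ J)
    (hJx : J ≤ k ∙ x ⊔ J ^ 2) : comms k C = ⊥ := by
  obtain ⟨N, hN⟩ := h.nil
  have hpow : ∀ t : ℕ, J ^ (t + 1) ≤ k ∙ x ^ (t + 1) ⊔ J ^ (t + 2) := by
    intro t
    induction t with
    | zero => simpa using hJx
    | succ t ih =>
      have hx' : k ∙ x ^ (t + 1) ≤ J ^ (t + 1) :=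
        (Submodule.span_singleton_le_iff_mem _ _).mpr (Submodule.pow_mem_pow J hx (t + 1))
      have h3 : J * (k ∙ x ^ (t + 1)) ≤ k ∙ x ^ (t + 1 + 1) ⊔ J ^ (t + 1 + 2) := by
        refine (mul_le_mul' hJx le_rfl).trans ?_
        rw [Submodule.sup_mul, Submodule.span_mul_span, Set.singleton_mul_singleton,
          ← pow_succ' x]
        refine sup_le le_sup_left ((mul_le_mul' le_rfl hx').trans (le_trans ?_ le_sup_right))
        rw [← pow_add, Nat.add_comm 2 (t + 1)]
      rw [pow_succ' J]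
      refine (mul_le_mul' le_rfl ih).trans ?_
      rw [Submodule.mul_sup, ← pow_succ']
      exact sup_le h3 le_sup_right
  set T : Submodule k A := Submodule.span k (Set.range fun t : ℕ => x ^ (t + 1)) with hT
  have hJT : J ≤ T := by
    have key : ∀ t : ℕ, J ≤ T ⊔ J ^ (t + 1) := by
      intro t
      induction t with
      | zero => simp
      | succ t ih =>
        refine ih.trans (sup_le le_sup_left ((hpow t).trans (sup_le_sup_right ?_ _)))
        exact (Submodule.span_singleton_le_iff_mem _ _).mpr (Submodule.subset_span ⟨t, rfl⟩)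
    exact (key N).trans (sup_le le_rfl (by rw [hN]; exact bot_le))
  rw [comms, Submodule.span_eq_bot]
  rintro w ⟨u, hu, v, hv, rfl⟩
  obtain ⟨u', hu', v', hv', e⟩ := h.sub_eq hu hv
  rw [e, sub_eq_zero]
  refine Submodule.span_induction₂ (p := fun a b _ _ => a * b = b * a) ?_
    (by simp) (by simp) (fun a b c _ _ _ h h' => by rw [add_mul, mul_add, h, h'])
    (fun a b c _ _ _ h h' => by rw [add_mul, mul_add, h, h'])
    (fun c a b _ _ h => by rw [smul_mul_assoc, mul_smul_comm, h])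
    (fun c a b _ _ h => by rw [smul_mul_assoc, mul_smul_comm, h]) (hJT hu') (hJT hv')
  rintro _ _ ⟨s, rfl⟩ ⟨t, rfl⟩
  exact (Commute.pow_pow_self x _ _).eq

/-- The linear algebra of two generators with a noncommutative product form. -/
theorem eq_zero_of_relations {W : Type*} [AddCommGroup W] [Module k W] {Lx Ly Rx Ry : W}
    {p q r : k} (h1 : p • Lx = p • Rx) (h2 : q • Lx = p • Ry) (h3 : (q - 1) • Lx = q • Rx)
    (h4 : r • Ly = r • Ry) (h5 : q • Ly = (q - 1) • Ry) (h6 : (q - 1) • Ly = r • Rx) :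
    Lx = 0 ∧ Ly = 0 := by
  constructor
  · by_cases hp : p = 0
    · subst hp
      rw [zero_smul] at h2
      rcases smul_eq_zero.mp h2 with hq | hL
      · subst hq
        simpa using h3
      · exact hL
    · rw [(smul_right_injective W hp h1).symm] at h3
      have : ((q - 1) - q) • Lx = 0 := by rw [sub_smul, h3, sub_self]
      simpa using this
  · by_cases hr : r = 0
    · subst hr
      rw [zero_smul] at h6
      rcases smul_eq_zero.mp h6 with hq | hL
      · rw [hq, zero_smul, sub_eq_zero.mp hq, one_smul] at h5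
        exact h5
      · exact hL
    · rw [(smul_right_injective W hr h4).symm] at h5
      have : (q - (q - 1)) • Ly = 0 := by rw [sub_smul, h5, sub_self]
      simpa using this

variable [FiniteDimensional k A]

/-- Two generators are impossible unless the cube of the radical vanishes. -/
theorem Loc.pow_three_eq_bot (h : Loc C J f lam) {x y : A} (hx : x ∈ J) (hy : y ∈ J)
    (hJ : J ≤ k ∙ x ⊔ k ∙ y ⊔ J ^ 2) (h2 : J ^ 2 ≤ k ∙ (x * y - y * x) ⊔ J ^ 3) :
    J ^ 3 = ⊥ := by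
  obtain ⟨N, hN⟩ := h.nil
  set c := x * y - y * x with hc
  have hcoef : ∀ a ∈ J, ∀ b ∈ J, ∃ α : k, a * b - α • c ∈ J ^ 3 := by
    intro a ha b hb
    obtain ⟨u, hu, w, hw, e⟩ := Submodule.mem_sup.mp
      (h2 (by rw [pow_two]; exact Submodule.mul_mem_mul ha hb))
    obtain ⟨α, rfl⟩ := Submodule.mem_span_singleton.mp hu
    exact ⟨α, by rw [← e, add_sub_cancel_left]; exact hw⟩
  have hrel : ∀ a ∈ J, ∀ b ∈ J, ∀ d ∈ J, ∀ α β : k, a * b - α • c ∈ J ^ 3 →
      b * d - β • c ∈ J ^ 3 → β • (J ^ 4).mkQ (a * c) = α • (J ^ 4).mkQ (c * d) := by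
    intro a ha b _ d hd α β hα hβ
    rw [← map_smul, ← map_smul, Submodule.mkQ_apply, Submodule.mkQ_apply, Submodule.Quotient.eq]
    have h4 : (a * b - α • c) * d - a * (b * d - β • c) ∈ J ^ 4 := by
      refine Submodule.sub_mem _ ?_ ?_
      · rw [pow_succ]; exact Submodule.mul_mem_mul hα hd
      · rw [pow_succ']; exact Submodule.mul_mem_mul ha hβ
    refine (congrArg (· ∈ J ^ 4) ?_).mp h4
    rw [sub_mul, mul_sub, smul_mul_assoc, mul_smul_comm, ← mul_assoc a b d]
    abel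
  obtain ⟨p, hp⟩ := hcoef x hx x hx
  obtain ⟨q, hq⟩ := hcoef x hx y hy
  obtain ⟨r, hr⟩ := hcoef y hy y hy
  have hq' : y * x - (q - 1) • c ∈ J ^ 3 := by
    refine (congrArg (· ∈ J ^ 3) ?_).mp hq
    rw [sub_smul, one_smul, hc]
    abel
  obtain ⟨hLx, hLy⟩ := eq_zero_of_relations
    (hrel x hx x hx x hx p p hp hp) (hrel x hx x hx y hy p q hp hq)
    (hrel x hx y hy x hx q (q - 1) hq hq') (hrel y hy y hy y hy r r hr hr)
    (hrel y hy x hx y hy (q - 1) q hq' hq) (hrel y hy y hy x hx r (q - 1) hr hq')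
  rw [Submodule.mkQ_apply, Submodule.Quotient.mk_eq_zero] at hLx hLy
  have h34 : J ^ 3 ≤ J ^ 4 := by
    rw [pow_succ' J 2]
    refine (mul_le_mul' hJ h2).trans ?_
    rw [Submodule.sup_mul, Submodule.sup_mul, Submodule.mul_sup, Submodule.mul_sup,
      Submodule.span_mul_span, Set.singleton_mul_singleton, Submodule.span_mul_span,
      Set.singleton_mul_singleton]
    refine sup_le (sup_le (sup_le ?_ ?_) (sup_le ?_ ?_)) ?_
    · exact (Submodule.span_singleton_le_iff_mem _ _).mpr hLx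
    · rw [pow_succ' J 3]
      exact mul_le_mul' ((Submodule.span_singleton_le_iff_mem _ _).mpr hx) le_rfl
    · exact (Submodule.span_singleton_le_iff_mem _ _).mpr hLy
    · rw [pow_succ' J 3]
      exact mul_le_mul' ((Submodule.span_singleton_le_iff_mem _ _).mpr hy) le_rfl
    · have hc2 : k ∙ c ⊔ J ^ 3 ≤ J ^ 2 := by
        refine sup_le ((Submodule.span_singleton_le_iff_mem _ _).mpr ?_) (h.pow_anti (by norm_num)
          (by norm_num))
        rw [hc, pow_two]
        exact Submodule.sub_mem _ (Submodule.mul_mem_mul hx hy) (Submodule.mul_mem_mul hy hx)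
      refine (mul_le_mul' le_rfl hc2).trans ?_
      rw [← pow_add]
  have hall : ∀ t, J ^ 3 ≤ J ^ (3 + t) := by
    intro t
    induction t with
    | zero => exact le_rfl
    | succ t ih =>
      refine h34.trans ?_
      rw [pow_succ' J 3, ← add_assoc, pow_succ' J (3 + t)]
      exact mul_le_mul' le_rfl ih
  rw [eq_bot_iff, ← hN]
  exact (hall (N + 1)).trans (h.pow_anti (by omega) (by omega))

/-- **A local symmetric algebra whose commutators have codimension at most four is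
commutative.** -/
theorem Loc.comm (h : Loc C J f lam) (h4 : finrank k C ≤ finrank k (comms k C) + 4) :
    comms k C = ⊥ := by
  set K := comms k C with hK
  have hK2 : K ≤ J ^ 2 := h.comms_le_sq
  by_cases h20 : J ^ 2 = ⊥
  · exact eq_bot_iff.mpr (hK2.trans h20.le)
  have h2C : J ^ 2 ≤ C := (h.pow_le 1).trans h.le
  have hideal : ∀ t, J * J ^ (t + 1) ≤ J ^ (t + 1) ∧ J ^ (t + 1) * J ≤ J ^ (t + 1) := fun t =>
    ⟨by rw [← pow_succ']; exact h.pow_anti (by omega) (by omega),
     by rw [← pow_succ]; exact h.pow_anti (by omega) (by omega)⟩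
  obtain ⟨z, hz2, hz0, hzs⟩ := h.exists_soc h20 h2C (hideal 1).1 (hideal 1).2
  have hzK : z ∉ K := fun hzK => h.lam_ne_zero hzs hz0 (h.lam_comms hzK)
  by_cases h30 : J ^ 3 = ⊥
  · rw [eq_bot_iff]
    intro w hw
    have hw' : w ∈ k ∙ z := by
      refine h.soc_mem_span ⟨h2C (hK2 hw), fun j hj => ?_, fun j hj => ?_⟩ hzs hz0
      · have h1 : j * w ∈ J * J ^ 2 := Submodule.mul_mem_mul hj (hK2 hw)
        rwa [← pow_succ', h30, Submodule.mem_bot] at h1
      · have h1 : w * j ∈ J ^ 2 * J := Submodule.mul_mem_mul (hK2 hw) hj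
        rwa [← pow_succ, h30, Submodule.mem_bot] at h1
    obtain ⟨c, rfl⟩ := Submodule.mem_span_singleton.mp hw'
    rcases eq_or_ne c 0 with rfl | hc
    · simp
    · exact absurd ((K.smul_mem_iff hc).mp hw) hzK
  have hz3 : z ∈ J ^ 3 := by
    obtain ⟨z', hz', hz'0, hz's⟩ :=
      h.exists_soc h30 ((h.pow_le 2).trans h.le) (hideal 2).1 (hideal 2).2
    exact (Submodule.span_singleton_le_iff_mem _ _).mpr hz' (h.soc_mem_span hzs hz's hz'0)
  -- dimensions
  have hKz : finrank k K + 1 ≤ finrank k ↥(K ⊔ k ∙ z) :=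
    Submodule.finrank_lt_finrank_of_lt (lt_of_le_of_ne le_sup_left fun e => hzK (by
      rw [e]; exact le_sup_right (a := K) (Submodule.mem_span_singleton_self z)))
  have hKz2 : K ⊔ k ∙ z ≤ J ^ 2 :=
    sup_le hK2 ((Submodule.span_singleton_le_iff_mem _ _).mpr hz2)
  have hKz2' := Submodule.finrank_mono hKz2
  have hJC : finrank k J + 1 ≤ finrank k C :=
    Submodule.finrank_lt_finrank_of_lt (lt_of_le_of_ne h.le fun e => h.f_notMem (e ▸ h.f_mem))
  by_cases hone : ∃ x ∈ J, J ≤ k ∙ x ⊔ J ^ 2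
  · obtain ⟨x, hx, hJx⟩ := hone
    exact h.comms_eq_bot_of_one hx hJx
  push Not at hone
  obtain ⟨x, hx, hx2⟩ := SetLike.not_le_iff_exists.mp
    (fun e : J ≤ J ^ 2 => hone 0 J.zero_mem (e.trans le_sup_right))
  obtain ⟨y, hy, hy2⟩ := SetLike.not_le_iff_exists.mp (hone x hx)
  have hx1 : finrank k ↥(J ^ 2) + 1 ≤ finrank k ↥(k ∙ x ⊔ J ^ 2) :=
    Submodule.finrank_lt_finrank_of_lt (lt_of_le_of_ne le_sup_right fun e => hx2 (by
      rw [e]; exact le_sup_left (a := k ∙ x) (Submodule.mem_span_singleton_self x)))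
  have hy1 : finrank k ↥(k ∙ x ⊔ J ^ 2) + 1 ≤ finrank k ↥(k ∙ y ⊔ (k ∙ x ⊔ J ^ 2)) :=
    Submodule.finrank_lt_finrank_of_lt (lt_of_le_of_ne le_sup_right fun e => hy2 (by
      rw [e]; exact le_sup_left (a := k ∙ y) (Submodule.mem_span_singleton_self y)))
  have hsub : k ∙ y ⊔ (k ∙ x ⊔ J ^ 2) ≤ J :=
    sup_le ((Submodule.span_singleton_le_iff_mem _ _).mpr hy)
      (sup_le ((Submodule.span_singleton_le_iff_mem _ _).mpr hx) (h.pow_le 1))
  have hJ : J ≤ k ∙ x ⊔ k ∙ y ⊔ J ^ 2 := by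
    rw [sup_comm (k ∙ x) (k ∙ y), sup_assoc]
    exact (Submodule.eq_of_le_of_finrank_le hsub (by omega)).ge
  have hsub' := Submodule.finrank_mono hsub
  have hJ2 : J ^ 2 ≤ K ⊔ k ∙ z := (Submodule.eq_of_le_of_finrank_le hKz2 (by omega)).ge
  refine absurd (h.pow_three_eq_bot hx hy hJ (hJ2.trans (sup_le ?_ ?_))) h30
  swap
  · exact le_sup_of_le_right ((Submodule.span_singleton_le_iff_mem _ _).mpr hz3)
  -- the commutators modulo the cube
  refine Submodule.span_le.mpr ?_
  rintro w ⟨u, hu, v, hv, rfl⟩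
  obtain ⟨u', hu', v', hv', e⟩ := h.sub_eq hu hv
  rw [e]
  have hsplit : ∀ u ∈ J, ∃ (a b : k) (s : A), s ∈ J ^ 2 ∧ u = a • x + b • y + s := by
    intro u hu
    obtain ⟨l, hl, s, hs, rfl⟩ := Submodule.mem_sup.mp (hJ hu)
    obtain ⟨l1, hl1, l2, hl2, rfl⟩ := Submodule.mem_sup.mp hl
    obtain ⟨a, rfl⟩ := Submodule.mem_span_singleton.mp hl1
    obtain ⟨b, rfl⟩ := Submodule.mem_span_singleton.mp hl2
    exact ⟨a, b, s, hs, rfl⟩
  obtain ⟨a, b, s, hs, eu⟩ := hsplit u' hu'
  obtain ⟨a', b', s', hs', ev⟩ := hsplit v' hv'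
  have hl3 : ∀ {j t : A}, j ∈ J → t ∈ J ^ 2 → j * t - t * j ∈ J ^ 3 := fun {j t} hj ht =>
    Submodule.sub_mem _ (by rw [pow_succ']; exact Submodule.mul_mem_mul hj ht)
      (by rw [pow_succ]; exact Submodule.mul_mem_mul ht hj)
  have hl : a • x + b • y ∈ J := J.add_mem (J.smul_mem _ hx) (J.smul_mem _ hy)
  have hl' : a' • x + b' • y ∈ J := J.add_mem (J.smul_mem _ hx) (J.smul_mem _ hy)
  refine Submodule.mem_sup.mpr ⟨(a * b' - b * a') • (x * y - y * x),
    Submodule.smul_mem _ _ (Submodule.mem_span_singleton_self _),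
    ((a • x + b • y) * s' - s' * (a • x + b • y)) - (v' * s - s * v'),
    Submodule.sub_mem _ (hl3 hl hs') (hl3 hv' hs), ?_⟩
  rw [eu, ev]
  simp only [add_mul, mul_add, smul_mul_assoc, mul_smul_comm, smul_add, smul_sub, sub_smul,
    mul_smul]
  rw [smul_comm a' a (x * x), smul_comm a' b (y * x), smul_comm b' a (x * y),
    smul_comm b' b (y * y)]
  abel

end Cfsg.Agent.Lib.BrauerPairs.CornerLocal
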