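import Mathlib
import Cfsg.Agent.Lib.BrauerMap.Covering
import Cfsg.Agent.Lib.BrauerPairs.NormalSub
import Cfsg.Agent.Lib.BrauerPairs.Bridge

/-!
# Covered blocks of a normal subgroup and their defect groups
-/

set_option autoImplicit false
set_option linter.style.haveILetI false

namespace Cfsg.Agent.Lib.BrauerPairs.NormalCover

open MonoidAlgebra Cfsg.Agent.Lib.BrauerMap.Basic Cfsg.Agent.Lib.BrauerMap.ClassSum
open Cfsg.Agent.Lib.Blocks (localRing residue omegaBar ccR omegaBar_classSumC)
open Cfsg.Agent.Lib.BrauerPairs.Center Cfsg.Agent.Lib.BrauerPairs.Trunc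
open Cfsg.Agent.Lib.BrauerPairs.Conj Cfsg.Agent.Lib.BrauerPairs.Pairs
open Cfsg.Agent.Lib.BrauerPairs.Transport Cfsg.Agent.Lib.BrauerPairs.Maximal
open Cfsg.Agent.Lib.BrauerPairs.Embed Cfsg.Agent.Lib.BrauerPairs.NormalSub

universe u v

local notation "C[" P "]" => Subgroup.centralizer (SetLike.coe P)

section Kernel

variable {k : Type v} [Field k] [IsAlgClosed k] {G : Type u} [Group G] [Finite G]
variable (N : Subgroup G) [hN : N.Normal]

/-- `ν` is covered by `ψ`. -/
def Covers (ψ : Blk k G) (ν : Blk k N) : Prop := bidem ψ * bext N ν ≠ 0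

theorem mem_conj_iff (x g : G) : g ∈ N ↔ x * g * x⁻¹ ∈ N :=
  ⟨fun h => hN.conj_mem g h x, fun h => by simpa [mul_assoc] using hN.conj_mem _ h x⁻¹⟩

/-- Conjugation on the blocks of `N`. -/
noncomputable def conjN (x : G) (ν : Blk k N) : Blk k N := cBlk x N N (mem_conj_iff N x) ν

theorem bext_conjN (x : G) (ν : Blk k N) : bext N (conjN N x ν) = conjA x (bext N ν) :=
  bext_cBlk _ _ _ _ _

/-- The conjugates of a block of `N`. -/
noncomputable def orbit (ν : Blk k N) : Finset (Blk k N) := by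
  classical
  letI := Fintype.ofFinite (Blk k N)
  exact Finset.univ.filter fun f => ∃ x : G, conjA x (bext N ν) = bext N f

theorem mem_orbit {ν f : Blk k N} :
    f ∈ orbit N ν ↔ ∃ x : G, conjA x (bext N ν) = bext N f := by
  classical
  simp [orbit]

theorem self_mem_orbit (ν : Blk k N) : ν ∈ orbit N ν :=
  (mem_orbit N).mpr ⟨1, conjA_one _⟩

theorem conjN_mem_orbit {ν f : Blk k N} (x : G) (h : f ∈ orbit N ν) :
    conjN N x f ∈ orbit N ν := by
  obtain ⟨y, hy⟩ := (mem_orbit N).mp h
  exact (mem_orbit N).mpr ⟨x * y, by rw [bext_conjN, conjA_mul, hy]⟩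

/-- The sum of the conjugates of a block idempotent of `N`. -/
noncomputable def orbitIdem (ν : Blk k N) : MonoidAlgebra k G := ∑ f ∈ orbit N ν, bext N f

theorem orbitIdem_mem_center (ν : Blk k N) :
    orbitIdem N ν ∈ Subalgebra.center k (MonoidAlgebra k G) := by
  classical
  rw [mem_center_iff_coeff]
  intro u g
  have h : conjA u (orbitIdem N ν) = orbitIdem N ν := by
    rw [orbitIdem, map_sum]
    refine Finset.sum_bij' (fun f _ => conjN N u f) (fun f _ => conjN N u⁻¹ f)
      (fun f hf => conjN_mem_orbit N u hf) (fun f hf => conjN_mem_orbit N u⁻¹ hf) ?_ ?_ ?_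
    · intro f _
      apply bext_injective
      rw [bext_conjN, bext_conjN, ← conjA_mul, inv_mul_cancel, conjA_one]
    · intro f _
      apply bext_injective
      rw [bext_conjN, bext_conjN, ← conjA_mul, mul_inv_cancel, conjA_one]
    · intro f _
      exact (bext_conjN N u f).symm
  conv_lhs => rw [← h]
  rw [coeff_conjA_conj]

omit hN in
theorem coeff_bext_of_notMem (f : Blk k N) {g : G} (hg : g ∉ N) : (bext N f).coeff g = 0 :=
  coeff_ext_of_notMem _ _ hg

theorem coeff_orbitIdem_of_notMem (ν : Blk k N) {g : G} (hg : g ∉ N) :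
    (orbitIdem N ν).coeff g = 0 := by
  rw [orbitIdem, MonoidAlgebra.coeff_sum, Finsupp.finsetSum_apply]
  exact Finset.sum_eq_zero fun f _ => coeff_bext_of_notMem N f hg

theorem orbitIdem_isIdem (ν : Blk k N) : IsIdempotentElem (orbitIdem N ν) := by
  classical
  show (∑ f ∈ orbit N ν, bext N f) * (∑ f ∈ orbit N ν, bext N f) = _
  rw [Finset.sum_mul]
  refine Finset.sum_congr rfl fun f hf => ?_
  rw [Finset.mul_sum, Finset.sum_eq_single f (fun g _ hg => bext_mul_bext N (Ne.symm hg))
    (fun h => absurd hf h)]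
  exact bext_isIdem N f

theorem res_orbitIdem (ν : Blk k N) :
    (⟨res N (orbitIdem N ν), res_mem_center (isFixedBy_of_mem_center N (orbitIdem_mem_center N ν))⟩ :
      ZAlg k N) = ∑ f ∈ orbit N ν, idem f := by
  apply Subtype.ext
  rw [AddSubmonoidClass.coe_finsetSum]
  apply ext_injective N
  rw [map_sum]
  exact ext_res fun g hg => coeff_orbitIdem_of_notMem N ν hg

theorem covers_conj {ψ : Blk k G} {ν : Blk k N} (h : Covers N ψ ν) (x : G) :
    Covers N ψ (conjN N x ν) := by
  intro h0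
  apply h
  rw [bext_conjN] at h0
  have h1 : conjA x (bidem ψ * bext N ν) = 0 := by
    rw [map_mul, conjA_eq_of_mem_center (bidem_mem ψ), h0]
  exact (conjA x).injective (h1.trans (map_zero _).symm)

theorem covers_iff {ψ : Blk k G} {ν : Blk k N} :
    Covers N ψ ν ↔ ψ ⟨orbitIdem N ν, orbitIdem_mem_center N ν⟩ = 1 := by
  classical
  set z : ZAlg k G := ⟨orbitIdem N ν, orbitIdem_mem_center N ν⟩
  have hz : IsIdempotentElem z := Subtype.ext (orbitIdem_isIdem N ν).eq
  constructor
  · intro h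
    rcases apply_zero_or_one hz ψ with h0 | h1
    · exfalso
      apply h
      have h2 : idem ψ * z = 0 := by
        refine idem_ext (k := k) ((idem_isIdem ψ).mul hz) .zero fun φ => ?_
        rw [map_mul, map_zero]
        by_cases hφ : φ = ψ
        · rw [hφ, h0, mul_zero]
        · rw [apply_idem_ne hφ, zero_mul]
      have h3 : bidem ψ * orbitIdem N ν = 0 := congrArg Subtype.val h2
      have h4 : orbitIdem N ν * bext N ν = bext N ν := by
        rw [orbitIdem, Finset.sum_mul,
          Finset.sum_eq_single ν (fun g _ hg => bext_mul_bext N hg)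
            (fun h => absurd (self_mem_orbit N ν) h)]
        exact bext_isIdem N ν
      rw [← h4, ← mul_assoc, h3, zero_mul]
    · exact h1
  · intro h h0
    have h2 : bidem ψ * orbitIdem N ν = bidem ψ := by
      have h3 := congrArg Subtype.val ((mul_comm _ _).trans (mul_idem_eq ψ hz h))
      exact h3
    have h5 : bidem ψ * orbitIdem N ν = 0 := by
      rw [orbitIdem, Finset.mul_sum]
      refine Finset.sum_eq_zero fun f hf => ?_
      obtain ⟨x, hx⟩ := (mem_orbit N).mp hf
      rw [← hx, ← conjA_eq_of_mem_center (bidem_mem ψ) x, ← map_mul, h0, map_zero]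
    rw [h2] at h5
    exact idem_ne_zero ψ (Subtype.ext h5)

theorem exists_covers (ψ : Blk k G) : ∃ ν : Blk k N, Covers N ψ ν := by
  classical
  haveI := Fintype.ofFinite (Blk k N)
  by_contra h
  push Not at h
  apply idem_ne_zero ψ
  apply Subtype.ext
  show bidem ψ = 0
  rw [← mul_one (bidem ψ), ← sum_bext (k := k) N, Finset.mul_sum]
  refine Finset.sum_eq_zero fun f _ => ?_
  by_contra hf
  exact h f hf

variable {p : ℕ} [Fact p.Prime] [CharP k p]

/-- A defect group of `ψ` fixes a covered block with nonzero truncation there. -/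
theorem exists_covers_fixed {ψ : Blk k G} {a : Idx k G} (ha : PairOf p ψ a) :
    ∃ ν : Blk k N, Covers N ψ ν ∧ IsFixedBy a.1 (bext N ν) ∧
      ∃ g : N, (g : G) ∈ C[a.1] ∧ (bidem ν).coeff g ≠ 0 := by
  classical
  obtain ⟨ν0, hν0⟩ := exists_covers N ψ
  have hψ := (covers_iff N).mp hν0
  have hval : val a.1 a.2 (orbitIdem N ν0) = 1 :=
    (ha.apply_eq ⟨_, orbitIdem_mem_center N ν0⟩).trans hψ
  obtain ⟨g, hg, hne⟩ : ∃ g ∈ C[a.1], (orbitIdem N ν0).coeff g ≠ 0 := by
    by_contra h
    push Not at h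
    rw [val_congr (b := 0) a.2 (((coeff_eq_zero_iff_br _).mpr h).trans (br_zero _).symm),
      val_zero] at hval
    exact zero_ne_one hval
  have hgN : g ∈ N := by
    by_contra hgN
    exact hne (coeff_orbitIdem_of_notMem N ν0 hgN)
  haveI := Fintype.ofFinite (Blk k N)
  letI : MulAction a.1 (Blk k N) :=
    { smul := fun u f => conjN N (u : G) f
      one_smul := fun f => bext_injective _ (by
        show bext N (conjN N ((1 : a.1) : G) f) = _
        rw [bext_conjN, Subgroup.coe_one, conjA_one])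
      mul_smul := fun u w f => bext_injective _ (by
        show bext N (conjN N ((u * w : a.1) : G) f) =
          bext N (conjN N (u : G) (conjN N (w : G) f))
        rw [bext_conjN, bext_conjN, bext_conjN, Subgroup.coe_mul, conjA_mul]) }
  let F : Blk k N → k := fun f => if f ∈ orbit N ν0 then (bext N f).coeff g else 0
  have hF : ∀ (u : a.1) (f : Blk k N), F (u • f) = F f := by
    intro u f
    show F (conjN N (u : G) f) = F f
    have hiff : conjN N (u : G) f ∈ orbit N ν0 ↔ f ∈ orbit N ν0 := by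
      refine ⟨fun h => ?_, conjN_mem_orbit N _⟩
      have h2 := conjN_mem_orbit N ((u : G))⁻¹ h
      rwa [show conjN N ((u : G))⁻¹ (conjN N (u : G) f) = f from bext_injective _ (by
        rw [bext_conjN, bext_conjN, ← conjA_mul, inv_mul_cancel, conjA_one])] at h2
    simp only [F, hiff]
    congr 1
    rw [bext_conjN, coeff_conjA]
    congr 2
    rw [mul_assoc, ← Subgroup.mem_centralizer_iff.mp hg (u : G) u.2, inv_mul_cancel_left]
  have hsum : ∑ f, F f = (orbitIdem N ν0).coeff g := by
    rw [orbitIdem, MonoidAlgebra.coeff_sum, Finsupp.finsetSum_apply, ← Finset.sum_filter]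
    exact Finset.sum_congr (by ext; simp) fun _ _ => rfl
  rw [Cfsg.Agent.Lib.BrauerMap.Basic.sum_eq_sum_fixed ha.1 F hF] at hsum
  obtain ⟨ν, hν, hFν⟩ := Finset.exists_ne_zero_of_sum_ne_zero (hsum.symm ▸ hne)
  have hνorb : ν ∈ orbit N ν0 := by
    by_contra h
    exact hFν (if_neg h)
  refine ⟨ν, ?_, (isFixedBy_iff _ _).mpr fun u hu => ?_, ⟨g, hgN⟩, hg, ?_⟩
  · obtain ⟨x, hx⟩ := (mem_orbit N).mp hνorb
    rw [show ν = conjN N x ν0 from bext_injective _ (by rw [bext_conjN, hx])]
    exact covers_conj N hν0 x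
  · have h := (Finset.mem_filter.mp hν).2 ⟨u, hu⟩
    rw [← bext_conjN]
    exact congrArg (bext N) h
  · simp only [F, if_pos hνorb] at hFν
    exact fun h0 => hFν ((coeff_ext N _ ⟨g, hgN⟩).trans h0)

/-- Defect groups of covered blocks move into the defect groups of the covering block. -/
theorem exists_map_isDef_le {ψ : Blk k G} {ν : Blk k N} (hc : Covers N ψ ν) {P : Subgroup G}
    (hP : IsDef p ψ P) {D : Subgroup N} (hD : IsDef p ν D) :
    ∃ x : G, (D.map N.subtype).map (MulAut.conj x).toMonoidHom ≤ P := by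
  obtain ⟨μ, hμ⟩ := exists_pairOf_isDef hD
  have hne := NormalSub.br_ne_zero N (bidem_mem ψ) (bidem_isIdem ψ) hμ hc
  obtain ⟨g, hg, hgne⟩ : ∃ g ∈ C[D.map N.subtype], (bidem ψ).coeff g ≠ 0 := by
    by_contra h
    push Not at h
    exact hne ((coeff_eq_zero_iff_br _).mpr h)
  obtain ⟨ω, hω⟩ := exists_pairOf (ψ := ψ) (hμ.1.map _) hg hgne
  exact exists_map_le_isDef hω hP

/-- The defect group of a covered block. -/
theorem isDef_inf {ψ : Blk k G} {ν : Blk k N} (hc : Covers N ψ ν) {P : Subgroup G}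
    (hP : IsDef p ψ P) {g : N} (hg : (g : G) ∈ C[P]) (hne : (bidem ν).coeff g ≠ 0) :
    IsDef p ν ((P ⊓ N).subgroupOf N) := by
  have hPN : IsPGroup p ((P ⊓ N).subgroupOf N) :=
    (hP.isPGroup.to_le inf_le_left).comap_of_injective N.subtype N.subtype_injective
  obtain ⟨ω, hω⟩ := exists_pairOf (ψ := ν) hPN
    ((mem_centralizer_subgroupOf_iff inf_le_right g).mpr (centralizer_anti inf_le_left hg)) hne
  obtain ⟨D, hD⟩ := exists_isDef (p := p) ν
  obtain ⟨x, hx⟩ := exists_map_le_isDef hω hD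
  obtain ⟨y, hy⟩ := exists_map_isDef_le N hc hP hD
  have hy' : (D.map N.subtype).map (MulAut.conj y).toMonoidHom ≤ P ⊓ N := by
    refine le_inf hy ?_
    rintro _ ⟨_, ⟨d, -, rfl⟩, rfl⟩
    exact hN.conj_mem d d.2 y
  have hcard : Nat.card D ≤ Nat.card ((P ⊓ N).subgroupOf N) := by
    refine (Subgroup.card_map_of_injective N.subtype_injective).symm.le.trans ?_
    refine (card_map_conj y _).symm.le.trans ((Subgroup.card_le_of_le hy').trans ?_)
    exact (Nat.card_congr (Subgroup.subgroupOfEquivOfLe inf_le_right).toEquiv).symm.le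
  have he : ((P ⊓ N).subgroupOf N).map (MulAut.conj x).toMonoidHom = D :=
    Subgroup.eq_of_le_of_card_ge hx (by rw [card_map_conj]; exact hcard)
  have h2 := hD.map_conj x⁻¹
  rwa [← he, map_conj_map_conj, inv_mul_cancel, map_conj_eq_of_mem (one_mem _)] at h2

end Kernel

section Exact

open Cfsg.Agent.Lib.BrauerPairs.Bridge Cfsg.Agent.Lib.BrauerMap.Induced
open Cfsg.Agent.Lib.BrauerMap.Normal Cfsg.Agent.Lib.BrauerMap.Covering

attribute [local instance] Ideal.Quotient.field

variable {M : Ideal Cfsg.AlgInt} [M.IsMaximal] {G : Type u} [Group G] [Finite G]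
variable (N : Subgroup G) [hN : N.Normal]

theorem stabilizesBlock_iff_normal {c : Set (Cfsg.IrrCharacter N)} (hc : Cfsg.IsPBlock M c)
    (x : G) :
    Cfsg.StabilizesBlock N c x ↔ conjA x (bext N (blk hc)) = bext N (blk hc) := by
  rw [← bext_conjN, (bext_injective N).eq_iff]
  constructor
  · rintro ⟨-, h⟩
    obtain ⟨χ, hχ⟩ := exists_mem (blk hc)
    rw [toSet_blk] at hχ
    obtain ⟨χ', hχ', hconj⟩ := h χ hχ
    rw [(isConjCharOf_iff (mem_conj_iff N x) χ χ').mp hconj] at hχ'
    have h2 := blkOf_of_mem hc hχ'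
    rw [blkOf_pushIrr_conj, blkOf_of_mem hc hχ] at h2
    exact h2
  · intro h
    refine ⟨Subgroup.mem_normalizer_iff.mpr (mem_conj_iff N x), fun χ hχ =>
      ⟨pushIrr (conjEquiv x N N (mem_conj_iff N x)) χ, ?_, (isConjCharOf_iff _ _ _).mpr rfl⟩⟩
    rw [← toSet_blk hc, mem_toSet, blkOf_pushIrr_conj, blkOf_of_mem hc hχ]
    exact h

theorem blkOf_apply_supported [Fintype G] [Fintype N] {χ : Cfsg.IrrCharacter G}
    {θ : Cfsg.IrrCharacter N}
    (h : Cfsg.classInner (resFun N (χ : G → ℂ)) (θ : N → ℂ) ≠ 0) (z : ZAlg (Res M) G)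
    (hz : ∀ g, g ∉ N → (z : MonoidAlgebra (Res M) G).coeff g = 0) :
    blkOf M χ z = blkOf M θ
      ⟨res N (z : MonoidAlgebra (Res M) G), res_mem_center (isFixedBy_of_mem_center N z.2)⟩ := by
  classical
  haveI : Finite (ConjClasses G) := Quotient.finite _
  haveI := Fintype.ofFinite (ConjClasses G)
  have hr : blkOf M θ
      ⟨res N (z : MonoidAlgebra (Res M) G), res_mem_center (isFixedBy_of_mem_center N z.2)⟩ =
        inducedBar M N θ z := rfl
  rw [hr]
  have hexp : z = ∑ c : ConjClasses G,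
      (z : MonoidAlgebra (Res M) G).coeff c.out • classSumC (Res M) c.out := by
    refine Subtype.ext ?_
    rw [AddSubmonoidClass.coe_finsetSum]
    exact eq_sum_classSum z.2
  conv_lhs => rw [hexp]
  conv_rhs => rw [hexp]
  rw [map_sum, map_sum]
  refine Finset.sum_congr rfl fun c _ => ?_
  rw [map_smul, map_smul]
  by_cases hc : c.out ∈ N
  · rw [blkOf_classSumC, inducedBar_classSumC, residue_icR_of_constituent N h hc]
  · simp [hz _ hc]

theorem covers_iff_constituent [Fintype G] [Fintype N] {B : Set (Cfsg.IrrCharacter G)}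
    (hB : Cfsg.IsPBlock M B) {c : Set (Cfsg.IrrCharacter N)} (hc : Cfsg.IsPBlock M c) :
    (∃ χ ∈ B, ∃ θ ∈ c, Cfsg.classInner (fun n : N => (χ : G → ℂ) n) (θ : N → ℂ) ≠ 0) ↔
      Covers N (blk hB) (blk hc) := by
  classical
  rw [covers_iff]
  constructor
  · rintro ⟨χ, hχ, θ, hθ, hne⟩
    rw [← blkOf_of_mem hB hχ, blkOf_apply_supported N hne _
      (fun g hg => coeff_orbitIdem_of_notMem N _ hg), res_orbitIdem, apply_sum_idem,
      blkOf_of_mem hc hθ, if_pos (self_mem_orbit N _)]
  · intro h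
    obtain ⟨χ, hχ⟩ := exists_mem (blk hB)
    rw [toSet_blk] at hχ
    obtain ⟨θ, hθ⟩ := exists_constituent_restrict N χ
    rw [← blkOf_of_mem hB hχ, blkOf_apply_supported N hθ _
      (fun g hg => coeff_orbitIdem_of_notMem N _ hg), res_orbitIdem, apply_sum_idem] at h
    have hmem : blkOf M θ ∈ orbit N (blk hc) := by
      by_contra hm
      rw [if_neg hm] at h
      exact zero_ne_one h
    obtain ⟨x, hx⟩ := (mem_orbit N).mp hmem
    refine ⟨χ, hχ, conjIrr N x θ, ?_, ?_⟩
    · have he : conjIrr N x θ = pushIrr (conjEquiv x⁻¹ N N (mem_conj_iff N x⁻¹)) θ := by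
        refine Subtype.ext (funext fun n => ?_)
        rw [conjIrr_apply, pushIrr_apply]
        refine congrArg (θ : N → ℂ) (Subtype.ext ?_)
        show x * (n : G) * x⁻¹ = (x⁻¹)⁻¹ * (n : G) * x⁻¹
        rw [inv_inv]
      rw [← toSet_blk hc, mem_toSet, he, blkOf_pushIrr_conj]
      apply bext_injective N
      rw [bext_cBlk, ← hx, ← conjA_mul, inv_mul_cancel, conjA_one]
    · exact (classInner_conjIrr N χ x θ).trans_ne hθ

end Exact

end Cfsg.Agent.Lib.BrauerPairs.NormalCover
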