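import Mathlib
import Cfsg.Agent.Lib.BrauerPairs.NormalCover
import Cfsg.Agent.Lib.BrauerPairs.Lift
import Cfsg.Agent.Lib.BrauerPairs.LocalDefect

/-!
# Blocks over a block of a normal subgroup and over its Brauer correspondent

For `N` normal, `Q ≤ N` a defect group of the block `ν` of `N` and `e` the block of `N_N(Q)` that
induces `ν`, induction from `N_G(Q)` is a bijection from the blocks over `e` to the blocks over
`ν`.  The proof uses maximal pairs only.
-/

set_option autoImplicit false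
set_option linter.style.haveILetI false

namespace Cfsg.Agent.Lib.BrauerPairs.HarrisKnorr

open MonoidAlgebra Cfsg.Agent.Lib.BrauerMap.Basic
open Cfsg.Agent.Lib.BrauerPairs.Center Cfsg.Agent.Lib.BrauerPairs.Trunc
open Cfsg.Agent.Lib.BrauerPairs.Conj Cfsg.Agent.Lib.BrauerPairs.Pairs
open Cfsg.Agent.Lib.BrauerPairs.Transport Cfsg.Agent.Lib.BrauerPairs.Maximal
open Cfsg.Agent.Lib.BrauerPairs.Embed Cfsg.Agent.Lib.BrauerPairs.NormalSub
open Cfsg.Agent.Lib.BrauerPairs.NormalCover

universe u v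

local notation "C[" P "]" => Subgroup.centralizer (SetLike.coe P)
local notation "NG[" P "]" => Subgroup.normalizer (SetLike.coe P)

section Push

variable {k : Type v} [Field k] {G : Type u} [Group G] [Finite G] {H K : Subgroup G}

/-- A block seen inside a larger subgroup. -/
noncomputable def pushDown (h : H ≤ K) (f : Blk k H) : Blk k (H.subgroupOf K) :=
  f.comp (zMap (Subgroup.subgroupOfEquivOfLe h))

/-- The inverse of `pushDown`. -/
noncomputable def pullUp (h : H ≤ K) (f : Blk k (H.subgroupOf K)) : Blk k H :=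
  f.comp (zMap (Subgroup.subgroupOfEquivOfLe h).symm)

theorem pushDown_pullUp (h : H ≤ K) (f : Blk k (H.subgroupOf K)) :
    pushDown h (pullUp h f) = f := by
  refine AlgHom.ext fun z => ?_
  show f (zMap (Subgroup.subgroupOfEquivOfLe h).symm (zMap (Subgroup.subgroupOfEquivOfLe h) z)) = f z
  rw [zMap_symm]

theorem pullUp_pushDown (h : H ≤ K) (f : Blk k H) : pullUp h (pushDown h f) = f := by
  refine AlgHom.ext fun z => ?_
  show f (zMap (Subgroup.subgroupOfEquivOfLe h)
    (zMap (Subgroup.subgroupOfEquivOfLe h).symm z)) = f z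
  have := zMap_symm (Subgroup.subgroupOfEquivOfLe h).symm z
  rw [MulEquiv.symm_symm] at this
  rw [this]

theorem ext_bext_pushDown [IsAlgClosed k] (h : H ≤ K) (f : Blk k H) :
    ext K (bext (H.subgroupOf K) (pushDown h f)) = bext H f := by
  have key : ∀ z : MonoidAlgebra k (H.subgroupOf K), ext K (ext (H.subgroupOf K) z) =
      ext H (MonoidAlgebra.domCongr k k (Subgroup.subgroupOfEquivOfLe h) z) := by
    intro z
    induction z using MonoidAlgebra.induction_linear with
    | zero => simp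
    | add a b ha hb => simp only [map_add, ha, hb]
    | single a r => rw [domCongr_single, ext_single, ext_single, ext_single]; rfl
  rw [bext, bext, key]
  congr 1
  show MonoidAlgebra.domCongr k k (Subgroup.subgroupOfEquivOfLe h)
    ((idem (pushDown h f) : ZAlg k _) : MonoidAlgebra k _) =
      ((idem f : ZAlg k H) : MonoidAlgebra k H)
  rw [← coe_zMap, zMap_idem]
  exact congrArg (fun φ => ((idem φ : ZAlg k H) : MonoidAlgebra k H)) (pullUp_pushDown h f)

theorem ext_conjA (x : K) (a : MonoidAlgebra k K) :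
    ext K (conjA x a) = conjA (x : G) (ext K a) := by
  ext g
  rw [coeff_conjA]
  by_cases hg : g ∈ K
  · refine (coeff_ext K _ ⟨g, hg⟩).trans ?_
    rw [coeff_conjA]
    exact (coeff_ext K a (x⁻¹ * ⟨g, hg⟩ * x)).symm
  · rw [coeff_ext_of_notMem K _ hg, coeff_ext_of_notMem K _ ?_]
    intro h
    exact hg (by simpa [mul_assoc] using mul_mem (mul_mem x.2 h) (inv_mem x.2))

end Push

section Beta

variable {k : Type v} [Field k] {G : Type u} [Group G] [Finite G] (Q : Subgroup G)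

/-- The truncation at `Q`, inside the group algebra of `G`. -/
noncomputable def beta (a : MonoidAlgebra k G) : MonoidAlgebra k G := ext C[Q] (br Q a)

open scoped Classical in
theorem coeff_beta (a : MonoidAlgebra k G) (g : G) :
    (beta Q a).coeff g = if g ∈ C[Q] then a.coeff g else 0 := by
  split_ifs with hg
  · exact (coeff_ext C[Q] _ ⟨g, hg⟩).trans (coeff_br _ _ _)
  · exact coeff_ext_of_notMem _ _ hg

theorem beta_mul {p : ℕ} [Fact p.Prime] [CharP k p] (hQ : IsPGroup p Q) {a b : MonoidAlgebra k G}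
    (ha : IsFixedBy Q a) (hb : IsFixedBy Q b) : beta Q (a * b) = beta Q a * beta Q b := by
  rw [beta, beta, beta, br_mul hQ ha hb, map_mul]

theorem beta_conjA {y : G} (hy : y ∈ NG[Q]) (a : MonoidAlgebra k G) :
    beta Q (conjA y a) = conjA y (beta Q a) := by
  classical
  ext g
  rw [coeff_conjA, coeff_beta, coeff_beta, coeff_conjA]
  refine if_congr ?_ rfl rfl
  rw [mem_centralizer_conj_iff (inv_mem hy) g, inv_inv]

theorem beta_sum {ι : Type*} (s : Finset ι) (f : ι → MonoidAlgebra k G) :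
    beta Q (∑ i ∈ s, f i) = ∑ i ∈ s, beta Q (f i) := by
  rw [beta, br_sum, map_sum]
  rfl

theorem ext_brauerTo {H : Subgroup G} (hC : C[Q] ≤ H) (a : MonoidAlgebra k G) :
    ext H (brauerTo Q H a) = beta Q a := by
  classical
  ext g
  rw [coeff_beta]
  by_cases hg : g ∈ H
  · exact (coeff_ext H _ ⟨g, hg⟩).trans (coeff_brauerTo _ _ _ _)
  · rw [coeff_ext_of_notMem H _ hg, if_neg (fun h => hg (hC h))]

theorem ext_brauerTo_inf {N : Subgroup G} {a : MonoidAlgebra k G}
    (ha : ∀ g, g ∉ N → a.coeff g = 0) :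
    ext (NG[Q] ⊓ N : Subgroup G) (brauerTo Q (NG[Q] ⊓ N : Subgroup G) a) = beta Q a := by
  classical
  ext g
  rw [coeff_beta]
  by_cases hg : g ∈ (NG[Q] ⊓ N : Subgroup G)
  · exact (coeff_ext _ _ ⟨g, hg⟩).trans (coeff_brauerTo _ _ _ _)
  · rw [coeff_ext_of_notMem _ _ hg]
    split_ifs with h
    · exact (ha g fun h' => hg ⟨Subgroup.centralizer_le_normalizer _ h, h'⟩).symm
    · rfl

theorem brauerTo_mem_center_of_fixed {H : Subgroup G} (hN : H ≤ NG[Q]) {a : MonoidAlgebra k G}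
    (ha : IsFixedBy H a) : brauerTo Q H a ∈ Subalgebra.center k (MonoidAlgebra k H) := by
  classical
  rw [mem_center_iff_coeff]
  intro u h
  rw [coeff_brauerTo, coeff_brauerTo, Subgroup.coe_mul, Subgroup.coe_mul, Subgroup.coe_inv]
  rw [ha u u.2 h]
  exact if_congr (mem_centralizer_conj_iff (hN u.2) (h : G)).symm rfl rfl

end Beta

section Criterion

variable {k : Type v} [Field k] [IsAlgClosed k]

/-- A central idempotent meets a block idempotent exactly when the block takes the value one. -/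
theorem apply_eq_one_iff {H : Type u} [Group H] [Finite H] (ν : Blk k H) {y : ZAlg k H}
    (hy : IsIdempotentElem y) : ν y = 1 ↔ y * idem ν ≠ 0 := by
  constructor
  · intro h
    rw [mul_idem_eq ν hy h]
    exact idem_ne_zero ν
  · intro h
    rcases apply_zero_or_one hy ν with h0 | h0
    · refine absurd (idem_ext (k := k) (hy.mul (idem_isIdem ν)) .zero fun φ => ?_) h
      rw [map_mul, map_zero]
      by_cases hφ : φ = ν
      · rw [hφ, h0, zero_mul]
      · rw [apply_idem_ne hφ, mul_zero]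
    · exact h0

end Criterion

section Main

variable {k : Type v} [Field k] [IsAlgClosed k] {G : Type u} [Group G] [Finite G]
variable {p : ℕ} [Fact p.Prime] [CharP k p] (N : Subgroup G) [hN : N.Normal]

theorem same_orbit {ψ : Blk k G} {ν ν' : Blk k N} (h : Covers N ψ ν) (h' : Covers N ψ ν') :
    ν' ∈ orbit N ν := by
  classical
  have e := (covers_iff N).mp h
  have e' := (covers_iff N).mp h'
  have hne : orbitIdem N ν * orbitIdem N ν' ≠ 0 := by
    intro h0
    have h1 : (⟨_, orbitIdem_mem_center N ν⟩ : ZAlg k G) * ⟨_, orbitIdem_mem_center N ν'⟩ = 0 :=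
      Subtype.ext h0
    have h2 := congrArg ψ h1
    rw [map_mul, e, e', mul_one, map_zero] at h2
    exact one_ne_zero h2
  rw [orbitIdem, orbitIdem, Finset.sum_mul] at hne
  obtain ⟨f, hf, hfne⟩ := Finset.exists_ne_zero_of_sum_ne_zero hne
  rw [Finset.mul_sum] at hfne
  obtain ⟨f', hf', hne'⟩ := Finset.exists_ne_zero_of_sum_ne_zero hfne
  have hff : f = f' := Classical.byContradiction fun hh => hne' (bext_mul_bext N hh)
  subst hff
  obtain ⟨x, hx⟩ := (mem_orbit N).mp hf
  obtain ⟨y, hy⟩ := (mem_orbit N).mp hf'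
  refine (mem_orbit N).mpr ⟨y⁻¹ * x, ?_⟩
  rw [conjA_mul, hx, ← hy, ← conjA_mul, inv_mul_cancel, conjA_one]

/-- A subgroup centralizing part of the support of a conjugate of `ν` moves into a defect group. -/
theorem exists_map_le_of_orbit {ν d' : Blk k N} (hd : d' ∈ orbit N ν) {D : Subgroup N}
    (hD : IsDef p ν D) {R : Subgroup G} (hR : IsPGroup p R) (hRN : R ≤ N) {g : G}
    (hg : g ∈ C[R]) (hne : (bext N d').coeff g ≠ 0) :
    ∃ y : G, R.map (MulAut.conj y).toMonoidHom ≤ D.map N.subtype ∧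
      conjA y (bext N d') = bext N ν := by
  obtain ⟨x, hx⟩ := (mem_orbit N).mp hd
  rw [← hx, coeff_conjA] at hne
  have hgN : x⁻¹ * g * x ∈ N := LocalDefect.coeff_ne_zero_mem _ hne
  set R' := R.map (MulAut.conj x⁻¹).toMonoidHom with hR'
  have hR'N : R' ≤ N := by
    rintro _ ⟨r, hr, rfl⟩
    exact hN.conj_mem r (hRN hr) x⁻¹
  have hgR' : (⟨x⁻¹ * g * x, hgN⟩ : N) ∈ C[R'.subgroupOf N] := by
    rw [mem_centralizer_subgroupOf_iff hR'N]
    have := (mem_centralizer_map_iff x⁻¹ R g).mp hg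
    rwa [inv_inv] at this
  obtain ⟨ω, hω⟩ := exists_pairOf (ψ := ν)
    ((hR.map _).comap_of_injective N.subtype N.subtype_injective :
      IsPGroup p (R'.subgroupOf N)) hgR' (fun h0 => hne ((coeff_ext N _ ⟨_, hgN⟩).trans h0))
  obtain ⟨z, hz⟩ := exists_map_le_isDef hω hD
  refine ⟨(z : G) * x⁻¹, ?_, ?_⟩
  · rintro _ ⟨r, hr, rfl⟩
    have hr' : x⁻¹ * r * x⁻¹⁻¹ ∈ R' := ⟨r, hr, rfl⟩
    refine ⟨z * ⟨_, hR'N hr'⟩ * z⁻¹, hz ⟨⟨_, hR'N hr'⟩, hr', rfl⟩, ?_⟩
    show (z : G) * (x⁻¹ * r * x⁻¹⁻¹) * (z : G)⁻¹ = (z : G) * x⁻¹ * r * ((z : G) * x⁻¹)⁻¹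
    simp [mul_assoc]
  · rw [← hx, conjA_mul, ← conjA_mul x⁻¹ x, inv_mul_cancel, conjA_one]
    exact (isFixedBy_iff N _).mp (isFixedBy_bext N ν) z z.2

variable (Q : Subgroup G)

/-- `e` induces `ν`, in terms of idempotents. -/
def Ind (e : Blk k (NG[Q] ⊓ N : Subgroup G)) (ν : Blk k N) : Prop :=
  beta Q (bext N ν) * bext (NG[Q] ⊓ N : Subgroup G) e ≠ 0

/-- The block `φ` of `N_G(Q)` lies over the block `e` of `N_N(Q)`. -/
def Over (φ : Blk k NG[Q]) (e : Blk k (NG[Q] ⊓ N : Subgroup G)) : Prop :=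
  ext NG[Q] (bidem φ) * bext (NG[Q] ⊓ N : Subgroup G) e ≠ 0

omit [Fact p.Prime] [CharP k p] hN in
theorem over_iff_covers (φ : Blk k NG[Q]) (e : Blk k (NG[Q] ⊓ N : Subgroup G))
    [((NG[Q] ⊓ N).subgroupOf NG[Q]).Normal] :
    Over N Q φ e ↔ Covers ((NG[Q] ⊓ N).subgroupOf NG[Q]) φ (pushDown inf_le_left e) := by
  rw [Over, Covers, ← ext_bext_pushDown (K := NG[Q]) inf_le_left e, ← map_mul, Ne, Ne,
    ← (ext_injective NG[Q]).eq_iff, map_zero]

theorem mul_bext_eq_self {e : Blk k (NG[Q] ⊓ N : Subgroup G)} (hQ : IsPGroup p Q) (hQN : Q ≤ N)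
    {a : MonoidAlgebra k G} (hi : IsIdempotentElem a) (ha : IsFixedBy N a)
    (hs : ∀ g, g ∉ N → a.coeff g = 0)
    (h : beta Q a * bext (NG[Q] ⊓ N : Subgroup G) e ≠ 0) :
    beta Q a * bext (NG[Q] ⊓ N : Subgroup G) e = bext (NG[Q] ⊓ N : Subgroup G) e := by
  set y : ZAlg k (NG[Q] ⊓ N : Subgroup G) :=
    ⟨brauerTo Q (NG[Q] ⊓ N : Subgroup G) a, brauerTo_mem_center_of_fixed Q inf_le_left (isFixedBy_mono inf_le_right ha)⟩
    with hy
  have hey : ext (NG[Q] ⊓ N : Subgroup G) (y : MonoidAlgebra k (NG[Q] ⊓ N : Subgroup G)) = beta Q a := ext_brauerTo_inf Q hs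
  have hyi : IsIdempotentElem y := by
    refine Subtype.ext (ext_injective (NG[Q] ⊓ N : Subgroup G) ?_)
    rw [Subalgebra.coe_mul, map_mul, hey]
    have := br_isIdem hQ hi (isFixedBy_mono hQN ha)
    exact (this.map (ext C[Q])).eq
  have hne : y * idem e ≠ 0 := by
    intro h0
    apply h
    have := congrArg (fun w : ZAlg k (NG[Q] ⊓ N : Subgroup G) => ext (NG[Q] ⊓ N : Subgroup G) (w : MonoidAlgebra k (NG[Q] ⊓ N : Subgroup G))) h0
    simp only [Subalgebra.coe_mul, map_mul, hey, ZeroMemClass.coe_zero, map_zero] at this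
    exact this
  have := congrArg (fun w : ZAlg k (NG[Q] ⊓ N : Subgroup G) => ext (NG[Q] ⊓ N : Subgroup G) (w : MonoidAlgebra k (NG[Q] ⊓ N : Subgroup G)))
    (mul_idem_eq e hyi ((apply_eq_one_iff e hyi).mpr hne))
  simp only [Subalgebra.coe_mul, map_mul, hey] at this
  exact this

variable {Q} (hQ : IsPGroup p Q) (hQN : Q ≤ N)

/-- The induced block. -/
noncomputable def indBlk (φ : Blk k NG[Q]) : Blk k G :=
  φ.comp (brauerHom hQ (Subgroup.centralizer_le_normalizer _) le_rfl)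

theorem ext_brauerHom (z : ZAlg k G) :
    ext NG[Q] ((brauerHom hQ (Subgroup.centralizer_le_normalizer _) le_rfl z : ZAlg k NG[Q]) :
      MonoidAlgebra k NG[Q]) = beta Q (z : MonoidAlgebra k G) :=
  ext_brauerTo Q (Subgroup.centralizer_le_normalizer _) _

include hQN in
/-- Blocks over `e` induce blocks over `ν`. -/
theorem covers_indBlk {φ : Blk k NG[Q]} {e : Blk k (NG[Q] ⊓ N : Subgroup G)} {ν : Blk k N}
    (hind : Ind N Q e ν) (hover : Over N Q φ e) : Covers N (indBlk hQ φ) ν := by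
  classical
  rw [covers_iff]
  set z : ZAlg k G := ⟨orbitIdem N ν, orbitIdem_mem_center N ν⟩
  set w := brauerHom hQ (Subgroup.centralizer_le_normalizer (Q : Set G)) le_rfl z with hw
  have hwi : IsIdempotentElem w :=
    IsIdempotentElem.map (Subtype.ext (orbitIdem_isIdem N ν).eq : IsIdempotentElem z) _
  show φ w = 1
  rw [apply_eq_one_iff φ hwi]
  intro h0
  apply hover
  have h1 : beta Q (orbitIdem N ν) * ext NG[Q] (bidem φ) = 0 := by
    have := congrArg (fun t : ZAlg k NG[Q] => ext NG[Q] (t : MonoidAlgebra k NG[Q])) h0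
    simp only [Subalgebra.coe_mul, map_mul, hw, ext_brauerHom, ZeroMemClass.coe_zero,
      map_zero] at this
    exact this
  have hfix : IsFixedBy N (orbitIdem N ν) := isFixedBy_of_mem_center N (orbitIdem_mem_center N ν)
  have hzν : orbitIdem N ν * bext N ν = bext N ν := by
    rw [orbitIdem, Finset.sum_mul,
      Finset.sum_eq_single ν (fun g _ hg => bext_mul_bext N hg)
        (fun h => absurd (self_mem_orbit N ν) h)]
    exact bext_isIdem N ν
  have hzν' : bext N ν * orbitIdem N ν = bext N ν :=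
    ((Subalgebra.mem_center_iff.mp (orbitIdem_mem_center N ν)) (bext N ν)).trans hzν
  have hne : beta Q (orbitIdem N ν) * bext (NG[Q] ⊓ N : Subgroup G) e ≠ 0 := by
    intro h2
    apply hind
    rw [← hzν', beta_mul Q hQ (isFixedBy_mono hQN (isFixedBy_bext N ν))
      (isFixedBy_mono hQN hfix), mul_assoc, h2, mul_zero]
  have h3 := mul_bext_eq_self N Q hQ hQN (orbitIdem_isIdem N ν) hfix
    (fun g hg => coeff_orbitIdem_of_notMem N ν hg) hne
  have hcomm : ext NG[Q] (bidem φ) * beta Q (orbitIdem N ν) =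
      beta Q (orbitIdem N ν) * ext NG[Q] (bidem φ) := by
    rw [← ext_brauerHom hQ z, ← map_mul, ← map_mul]
    exact congrArg _ ((Subalgebra.mem_center_iff.mp (bidem_mem φ)) _).symm
  rw [← h3, ← mul_assoc, hcomm, h1, zero_mul]

include hQ hQN in
/-- A block of `N_N(Q)` inducing `ν` is unique, `Q` a defect group. -/
theorem ind_unique {ν : Blk k N} (hν : IsDef p ν (Q.subgroupOf N))
    {e e' : Blk k (NG[Q] ⊓ N : Subgroup G)} (he : Ind N Q e ν) (he' : Ind N Q e' ν) : e = e' := by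
  classical
  set D := Q.subgroupOf N with hD
  set K := (NG[Q] ⊓ N).subgroupOf N with hK
  have hDp : IsPGroup p D := hQ.comap_of_injective N.subtype N.subtype_injective
  have hKeq : ∀ n : N, n ∈ K ↔ n ∈ NG[D] := fun n => by
    rw [Subgroup.mem_normalizer_iff]
    constructor
    · intro hn a
      exact Subgroup.mem_normalizer_iff.mp hn.1 (a : G)
    · intro hn
      refine ⟨Subgroup.mem_normalizer_iff.mpr fun a => ⟨fun ha => ?_, fun ha => ?_⟩, n.2⟩
      · exact (hn ⟨a, hQN ha⟩).mp ha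
      · have haN : a ∈ N := (mem_conj_iff N (n : G) a).mpr (hQN ha)
        exact (hn ⟨a, haN⟩).mpr ha
  have hKN : K ≤ NG[D] := fun n hn => (hKeq n).mp hn
  have hNK : NG[D] ≤ K := fun n hn => (hKeq n).mpr hn
  have hDK : D ≤ K := Subgroup.le_normalizer.trans hNK
  have hCK : C[D] ≤ K := (Subgroup.centralizer_le_normalizer _).trans hNK
  haveI hDn : (D.subgroupOf K).Normal := by
    constructor
    intro a ha g
    rw [Subgroup.mem_subgroupOf] at ha ⊢
    exact (Subgroup.mem_normalizer_iff.mp (hKN g.2) a).mp ha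
  have hDKp : IsPGroup p (D.subgroupOf K) := hDp.comap_of_injective K.subtype K.subtype_injective
  have hβ : ext N (ext K (brauerTo D K (bidem ν))) = beta Q (bext N ν) := by
    ext g
    rw [coeff_beta]
    by_cases hgN : g ∈ N
    · refine (coeff_ext N _ ⟨g, hgN⟩).trans ?_
      have hC : (⟨g, hgN⟩ : N) ∈ C[D] ↔ g ∈ C[Q] := mem_centralizer_subgroupOf_iff hQN _
      rw [show ext K (brauerTo D K (bidem ν)) = beta D (bidem ν) from ext_brauerTo D hCK _,
        coeff_beta, bext, show (ext N (bidem ν)).coeff g = (bidem ν).coeff ⟨g, hgN⟩ from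
          coeff_ext N _ ⟨g, hgN⟩]
      exact if_congr hC rfl rfl
    · rw [coeff_ext_of_notMem N _ hgN, bext, coeff_ext_of_notMem N _ hgN]
      simp
  have key : ∀ e : Blk k (NG[Q] ⊓ N : Subgroup G), Ind N Q e ν →
      ∃ f : Blk k C[D], PairOf p ν ⟨D, f⟩ ∧
        PairOf p (pushDown inf_le_right e : Blk k K) ⟨D.subgroupOf K, down hDK hCK f⟩ := by
    intro e he
    set eK : Blk k K := pushDown inf_le_right e with heK
    obtain ⟨f', hf'⟩ : ∃ f', PairOf p eK (⟨D.subgroupOf K, f'⟩ : Idx k K) := by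
      have hne : br (D.subgroupOf K) (bidem eK) ≠ 0 := by
        intro h0
        apply idem_ne_zero eK
        apply Subtype.ext
        show bidem eK = 0
        rw [Lift.bidem_eq_ext_br hDKp eK, h0, map_zero]
      obtain ⟨g, hg, hgne⟩ : ∃ g ∈ C[D.subgroupOf K], (bidem eK).coeff g ≠ 0 := by
        by_contra h
        push Not at h
        exact hne ((coeff_eq_zero_iff_br _).mpr h)
      exact exists_pairOf hDKp hg hgne
    refine ⟨up hDK hCK f', ⟨hDp, ?_⟩, by rw [down_up]; exact hf'⟩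
    set w : ZAlg k K := ⟨brauerTo D K (bidem ν), brauerTo_mem_center_of_fixed D hKN
      (isFixedBy_of_mem_center _ (bidem_mem ν))⟩ with hw
    have hwi : IsIdempotentElem w := by
      refine Subtype.ext (ext_injective K ?_)
      rw [Subalgebra.coe_mul, map_mul]
      show ext K (brauerTo D K (bidem ν)) * ext K (brauerTo D K (bidem ν)) =
        ext K (brauerTo D K (bidem ν))
      rw [ext_brauerTo D hCK]
      exact ((br_isIdem hDp (bidem_isIdem ν)
        (isFixedBy_of_mem_center _ (bidem_mem ν))).map (ext C[D])).eq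
    have hwe : eK w = 1 := by
      rw [apply_eq_one_iff eK hwi]
      intro h0
      apply he
      have h1 := congrArg (fun t : ZAlg k K => ext N (ext K (t : MonoidAlgebra k K))) h0
      simp only [Subalgebra.coe_mul, map_mul, ZeroMemClass.coe_zero, map_zero] at h1
      rw [hw] at h1
      simp only [hβ] at h1
      rw [← ext_bext_pushDown inf_le_right e]
      exact h1
    have h2 := hf'.apply_eq w
    rw [hwe, ← down_up hDK hCK f'] at h2
    dsimp only at h2
    rw [val_down hDK hCK _ (isFixedBy_of_mem_center _ w.2)] at h2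
    rw [← h2]
    refine val_congr _ ?_
    ext g
    rw [coeff_br, coeff_br, hw]
    show _ = (ext K (brauerTo D K (bidem ν))).coeff (g : N)
    rw [ext_brauerTo D hCK, coeff_beta, if_pos g.2]
  obtain ⟨f, hf, hf1⟩ := key e he
  obtain ⟨f', hf', hf1'⟩ := key e' he'
  obtain ⟨x, hx, hxe⟩ := (top_key (top_of_isDef hf hν) hf).2 f' hf'
  have hb : bext C[D] f' = conjA x (bext C[D] f) := by
    have := congrArg (fun a : Idx k N => bext C[a.1] a.2) hxe
    simp only [bext_cPair] at this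
    exact this.symm
  have h3 := pairOf_cPair hf1 (⟨x, hNK hx⟩ : K)
  have hx' : (⟨x, hNK hx⟩ : K) ∈ NG[D.subgroupOf K] := by
    rw [Subgroup.mem_normalizer_iff]
    intro a
    exact Subgroup.mem_normalizer_iff.mp hx (a : N)
  rw [show cPair (⟨x, hNK hx⟩ : K) (⟨D.subgroupOf K, down hDK hCK f⟩ : Idx k K) =
      ⟨D.subgroupOf K, down hDK hCK f'⟩ from sigma_ext_of_bext (map_conj_eq_of_mem hx') (by
        apply ext_injective K
        rw [bext_cPair]
        exact (ext_conjA _ _).trans (by rw [ext_bext_down, ext_bext_down, hb]))] at h3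
  have h4 := (existsUnique_pairOf (p := p) _ hDKp).unique h3 hf1'
  have h5 := congrArg (pullUp (inf_le_right : NG[Q] ⊓ N ≤ N)) h4
  rwa [pullUp_pushDown, pullUp_pushDown] at h5

include hQN in
/-- Blocks over `ν` are induced from blocks over `e`. -/
theorem exists_over {ψ : Blk k G} {ν : Blk k N} (hν : IsDef p ν (Q.subgroupOf N))
    {e : Blk k (NG[Q] ⊓ N : Subgroup G)} (he : Ind N Q e ν) (hψ : Covers N ψ ν) :
    ∃ φ : Blk k NG[Q], indBlk hQ φ = ψ ∧ Over N Q φ e := by
  classical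
  obtain ⟨μ, hμ⟩ := exists_pairOf_isDef hν
  have hQmap : (Q.subgroupOf N).map N.subtype = Q := Subgroup.map_subgroupOf_eq_of_le hQN
  have hne := NormalSub.br_ne_zero N (bidem_mem ψ) (bidem_isIdem ψ) hμ hψ
  rw [hQmap] at hne
  set b := brauerHom hQ (Subgroup.centralizer_le_normalizer (Q : Set G)) le_rfl (idem ψ) with hb
  obtain ⟨φ, hφ⟩ := exists_apply_eq_one (k := k) ((idem_isIdem ψ).map _ : IsIdempotentElem b)
    (by
      intro h0
      apply hne
      have h1 := congrArg (fun t : ZAlg k NG[Q] => ext NG[Q] (t : MonoidAlgebra k NG[Q])) h0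
      simp only [hb, ext_brauerHom, ZeroMemClass.coe_zero, map_zero] at h1
      exact ext_injective C[Q] (h1.trans (map_zero _).symm))
  have hind : indBlk hQ φ = ψ := eq_of_apply_idem_ne_zero
    (show φ b ≠ 0 by rw [hφ]; exact one_ne_zero)
  refine ⟨φ, hind, ?_⟩
  set L := (NG[Q] ⊓ N : Subgroup G) with hL
  haveI : (L.subgroupOf NG[Q]).Normal := by
    constructor
    intro a ha g
    rw [Subgroup.mem_subgroupOf] at ha ⊢
    exact ⟨(g * a * g⁻¹).2, hN.conj_mem _ ha.2 g⟩
  obtain ⟨e1, he1⟩ := exists_covers (L.subgroupOf NG[Q]) φ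
  rw [← pushDown_pullUp inf_le_left e1, ← over_iff_covers] at he1
  set e0 := pullUp (inf_le_left : L ≤ NG[Q]) e1
  set z : ZAlg k G := ⟨orbitIdem N ν, orbitIdem_mem_center N ν⟩
  set w := brauerHom hQ (Subgroup.centralizer_le_normalizer (Q : Set G)) le_rfl z with hw
  have hwi : IsIdempotentElem w :=
    IsIdempotentElem.map (Subtype.ext (orbitIdem_isIdem N ν).eq : IsIdempotentElem z) _
  have hφw : φ w = 1 := by
    show indBlk hQ φ z = 1
    rw [hind]
    exact (covers_iff N).mp hψ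
  have hX : beta Q (orbitIdem N ν) * ext NG[Q] (bidem φ) = ext NG[Q] (bidem φ) := by
    have := congrArg (fun t : ZAlg k NG[Q] => ext NG[Q] (t : MonoidAlgebra k NG[Q]))
      (mul_idem_eq φ hwi hφw)
    simp only [Subalgebra.coe_mul, map_mul, hw, ext_brauerHom] at this
    exact this
  have hsum : beta Q (orbitIdem N ν) * bext L e0 ≠ 0 := by
    intro h0
    apply he1
    have hcomm : beta Q (orbitIdem N ν) * ext NG[Q] (bidem φ) =
        ext NG[Q] (bidem φ) * beta Q (orbitIdem N ν) := by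
      rw [← ext_brauerHom hQ z, ← map_mul, ← map_mul]
      exact congrArg _ ((Subalgebra.mem_center_iff.mp (bidem_mem φ)) _)
    rw [← hX, hcomm, mul_assoc, h0, mul_zero]
  rw [orbitIdem, beta_sum, Finset.sum_mul] at hsum
  obtain ⟨d', hd', hne'⟩ := Finset.exists_ne_zero_of_sum_ne_zero hsum
  obtain ⟨g, hg, hgne⟩ : ∃ g ∈ C[Q], (bext N d').coeff g ≠ 0 := by
    by_contra h
    push Not at h
    apply hne'
    rw [beta, (coeff_eq_zero_iff_br _).mpr h, map_zero, zero_mul]
  obtain ⟨y, hy, hyd⟩ := exists_map_le_of_orbit N hd' hν hQ hQN hg hgne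
  rw [hQmap] at hy
  have hyN : y ∈ NG[Q] := Subgroup.mem_normalizer_iff_map_conj_eq.mpr
    (Subgroup.eq_of_le_of_card_ge hy (le_of_eq (card_map_conj y Q).symm))
  have hm1 : ∀ g, g ∈ NG[Q] → y * g * y⁻¹ ∈ NG[Q] := fun g h =>
    mul_mem (mul_mem hyN h) (inv_mem hyN)
  have hm2 : ∀ g, y * g * y⁻¹ ∈ NG[Q] → g ∈ NG[Q] := fun g h => by
    simpa [mul_assoc] using mul_mem (mul_mem (inv_mem hyN) h) hyN
  have hmem : ∀ g, g ∈ L ↔ y * g * y⁻¹ ∈ L := fun g =>
    ⟨fun h => ⟨hm1 g h.1, (mem_conj_iff N y g).mp h.2⟩,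
      fun h => ⟨hm2 g h.1, (mem_conj_iff N y g).mpr h.2⟩⟩
  set e2 := cBlk y L L hmem e0
  have hfix : conjA y (ext NG[Q] (bidem φ)) = ext NG[Q] (bidem φ) :=
    (isFixedBy_iff _ _).mp (isFixedBy_ext_of_center (bidem_mem φ)) y hyN
  have hover2 : Over N Q φ e2 := by
    intro h0
    apply he1
    rw [bext_cBlk, ← hfix, ← map_mul] at h0
    exact (conjA y).injective (h0.trans (map_zero _).symm)
  have hind2 : Ind N Q e2 ν := by
    intro h0
    apply hne'
    rw [bext_cBlk, ← hyd, beta_conjA Q hyN, ← map_mul] at h0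
    exact (conjA y).injective (h0.trans (map_zero _).symm)
  exact ind_unique N hQ hQN hν he hind2 ▸ hover2

include hQN in
/-- A block over `ν` comes from only one block of `N_G(Q)`. -/
theorem indBlk_injective {ψ : Blk k G} {ν : Blk k N} (hν : IsDef p ν (Q.subgroupOf N))
    (hψ : Covers N ψ ν) {φ₁ φ₂ : Blk k NG[Q]} (h₁ : indBlk hQ φ₁ = ψ) (h₂ : indBlk hQ φ₂ = ψ) :
    φ₁ = φ₂ := by
  classical
  have hQmap : (Q.subgroupOf N).map N.subtype = Q := Subgroup.map_subgroupOf_eq_of_le hQN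
  haveI hQn : (Q.subgroupOf NG[Q]).Normal := by
    constructor
    intro a ha g
    rw [Subgroup.mem_subgroupOf] at ha ⊢
    exact (Subgroup.mem_normalizer_iff.mp g.2 a).mp ha
  have hQp : IsPGroup p (Q.subgroupOf NG[Q]) :=
    hQ.comap_of_injective NG[Q].subtype NG[Q].subtype_injective
  -- a maximal pair of `φ` is a maximal pair of `ψ` meeting `N` in `Q`
  have key : ∀ φ : Blk k NG[Q], indBlk hQ φ = ψ → ∃ (P : Subgroup G) (hP : P ≤ NG[Q])
      (hC : C[P] ≤ NG[Q]) (f : Blk k C[P]), P ⊓ N = Q ∧ Top p (⟨P, f⟩ : Idx k G) ∧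
        PairOf p ψ (⟨P, f⟩ : Idx k G) ∧
        PairOf p φ (⟨P.subgroupOf NG[Q], down hP hC f⟩ : Idx k NG[Q]) := by
    intro φ hφ
    obtain ⟨Pc, hPc⟩ := exists_isDef (p := p) φ
    obtain ⟨P, hP, rfl⟩ : ∃ P, P ≤ NG[Q] ∧ P.subgroupOf NG[Q] = Pc :=
      ⟨Pc.map NG[Q].subtype, Subgroup.map_subtype_le Pc,
        Subgroup.comap_map_eq_self_of_injective NG[Q].subtype_injective Pc⟩
    have hQP : Q ≤ P := by
      obtain ⟨g, hgm, hg⟩ : ∃ g ∈ C[Q.subgroupOf NG[Q]], (bidem φ).coeff g ≠ 0 := by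
        by_contra h
        push Not at h
        apply idem_ne_zero φ
        apply Subtype.ext
        show bidem φ = 0
        rw [Lift.bidem_eq_ext_br hQp φ, (coeff_eq_zero_iff_br _).mpr h, map_zero]
      obtain ⟨ω, hω⟩ := exists_pairOf hQp hgm hg
      obtain ⟨x, hx⟩ := exists_map_le_isDef hω hPc
      have hx0 : x ∈ NG[Q.subgroupOf NG[Q]] :=
        Subgroup.mem_normalizer_iff.mpr fun a => mem_conj_iff (Q.subgroupOf NG[Q]) x a
      rw [map_conj_eq_of_mem hx0] at hx
      exact fun q hq => hx (show (⟨q, Subgroup.le_normalizer hq⟩ : NG[Q]) ∈ Q.subgroupOf NG[Q]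
        from hq)
    have hC : C[P] ≤ NG[Q] := (centralizer_anti hQP).trans (Subgroup.centralizer_le_normalizer _)
    obtain ⟨μ, hμ⟩ := exists_pairOf_isDef hPc
    rw [← down_up hP hC μ] at hμ
    set f := up hP hC μ
    have hPp : IsPGroup p P := hPc.isPGroup.of_equiv (Subgroup.subgroupOfEquivOfLe hP)
    have hpair : PairOf p ψ (⟨P, f⟩ : Idx k G) := by
      refine ⟨hPp, ?_⟩
      have h1 := hμ.apply_eq (brauerHom hQ (Subgroup.centralizer_le_normalizer (Q : Set G)) le_rfl
        (idem ψ))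
      rw [show φ (brauerHom hQ (Subgroup.centralizer_le_normalizer (Q : Set G)) le_rfl (idem ψ)) =
        indBlk hQ φ (idem ψ) from rfl, hφ, apply_idem_self] at h1
      dsimp only at h1
      rw [val_down hP hC _ (isFixedBy_of_mem_center _ (Subtype.property _)), ext_brauerHom] at h1
      rw [← h1]
      refine val_congr _ ?_
      ext g
      rw [coeff_br, coeff_br, coeff_beta, if_pos (centralizer_anti hQP g.2)]
      rfl
    obtain ⟨ν', hcov', -, g, hg, hgne⟩ := exists_covers_fixed N hpair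
    obtain ⟨y, hy, -⟩ := exists_map_le_of_orbit N (same_orbit N hψ hcov') hν
      (hPp.to_le (inf_le_left : P ⊓ N ≤ P)) inf_le_right (centralizer_anti inf_le_left hg)
      (fun h0 => hgne ((coeff_ext N _ g).symm.trans h0))
    rw [hQmap] at hy
    have hPN : P ⊓ N = Q := (Subgroup.eq_of_le_of_card_ge (le_inf hQP hQN)
      ((card_map_conj y _).symm.le.trans (Subgroup.card_le_of_le hy))).symm
    have hNP : NG[P] ≤ NG[Q] := by
      intro x hx
      rw [Subgroup.mem_normalizer_iff] at hx ⊢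
      intro a
      show a ∈ Q ↔ x * a * x⁻¹ ∈ Q
      rw [← hPN]
      exact and_congr (hx a) (mem_conj_iff N x a)
    have htop : Top p (⟨P, f⟩ : Idx k G) := (top_down_iff hP hNP f).mp (top_of_isDef hμ hPc)
    exact ⟨P, hP, hC, f, hPN, htop, hpair, hμ⟩
  obtain ⟨P₁, hP₁, hC₁, f₁, hN₁, ht₁, hp₁, hm₁⟩ := key φ₁ h₁
  obtain ⟨P₂, hP₂, hC₂, f₂, hN₂, ht₂, hp₂, hm₂⟩ := key φ₂ h₂
  obtain ⟨x, hx⟩ := top_conj ht₁ ht₂ hp₁ hp₂
  have hx1 : P₁.map (MulAut.conj x).toMonoidHom = P₂ := congrArg (fun a : Idx k G => a.1) hx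
  have hxQ : x ∈ NG[Q] := by
    rw [Subgroup.mem_normalizer_iff]
    intro a
    rw [show (a ∈ Q) = (a ∈ P₁ ⊓ N) by rw [hN₁], show (x * a * x⁻¹ ∈ Q) = (x * a * x⁻¹ ∈ P₂ ⊓ N) by
      rw [hN₂]]
    refine and_congr ?_ (mem_conj_iff N x a)
    show a ∈ P₁ ↔ x * a * x⁻¹ ∈ P₂
    rw [← hx1, mem_map_conj_iff]
    simp [mul_assoc]
  have h3 := pairOf_cPair hm₁ (⟨x, hxQ⟩ : NG[Q])
  have hb : conjA x (bext C[P₁] f₁) = bext C[P₂] f₂ := by
    have := congrArg (fun a : Idx k G => bext C[a.1] a.2) hx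
    simp only [bext_cPair] at this
    exact this
  rw [show cPair (⟨x, hxQ⟩ : NG[Q]) (⟨P₁.subgroupOf NG[Q], down hP₁ hC₁ f₁⟩ : Idx k NG[Q]) =
      ⟨P₂.subgroupOf NG[Q], down hP₂ hC₂ f₂⟩ from sigma_ext_of_bext (by
        ext a
        show a ∈ (P₁.subgroupOf NG[Q]).map (MulAut.conj (⟨x, hxQ⟩ : NG[Q])).toMonoidHom ↔ _
        rw [mem_map_conj_iff, Subgroup.mem_subgroupOf, Subgroup.mem_subgroupOf, ← hx1,
          mem_map_conj_iff]
        rfl) (by
        apply ext_injective NG[Q]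
        rw [bext_cPair]
        exact (ext_conjA _ _).trans (by rw [ext_bext_down, ext_bext_down, hb]))] at h3
  exact (existsUnique_pairOf (p := p) _ hm₂.1).unique h3 hm₂

end Main

end Cfsg.Agent.Lib.BrauerPairs.HarrisKnorr
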