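import Mathlib
import Cfsg.Prelude.Def_OddOrderLocal
import Cfsg.Agent.Lib.Cores.Pi
import Cfsg.Agent.Lib.BrauerPairs.Local
import Cfsg.Agent.Lib.BrauerPairs.Bridge
import Cfsg.Agent.Lib.BrauerPairs.InducedPair
import Cfsg.Agent.Lib.Blocks.Induced
import Cfsg.Agent.Lib.Characters.Kernel
import Cfsg.Agent.Lib.BrauerMap.Inflation
import Cfsg.Agent.Lib.Clifford.Basic

/-!
# Kernels of blocks along pairs

A subgroup of order prime to `p` acts trivially on a block iff it does so on its truncations.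
-/

set_option autoImplicit false
set_option linter.style.haveILetI false

namespace Cfsg.Agent.Lib.BrauerPairs.Kernel

open MonoidAlgebra Cfsg.Agent.Lib.BrauerMap.Basic
open Cfsg.Agent.Lib.BrauerPairs.Center Cfsg.Agent.Lib.BrauerPairs.Trunc
open Cfsg.Agent.Lib.BrauerPairs.Conj Cfsg.Agent.Lib.BrauerPairs.Pairs
open Cfsg.Agent.Lib.BrauerPairs.Transport Cfsg.Agent.Lib.BrauerPairs.Maximal
open Cfsg.Agent.Lib.BrauerPairs.Embed

universe u v

/-! ## Cores of subgroups -/

section Cores

variable {G : Type u} [Group G]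

/-- `O_π(H)` as a subgroup of the group. -/
def piC (π : Set ℕ) (H : Subgroup G) : Subgroup G := (Cfsg.piCore π H).map H.subtype

theorem piC_le (π : Set ℕ) (H : Subgroup G) : piC π H ≤ H := Subgroup.map_subtype_le _

theorem coe_mem_piC {π : Set ℕ} {H : Subgroup G} {h : H} :
    (h : G) ∈ piC π H ↔ h ∈ Cfsg.piCore π H :=
  Subgroup.mem_map_iff_mem H.subtype_injective

theorem piC_map_conj [Finite G] (π : Set ℕ) (x : G) (H : Subgroup G) :
    (piC π H).map (MulAut.conj x).toMonoidHom =
      piC π (H.map (MulAut.conj x).toMonoidHom) := by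
  have h := Cores.map_piCore_equiv (π := π)
    (H.equivMapOfInjective (MulAut.conj x).toMonoidHom (MulAut.conj x).injective)
  rw [piC, piC, ← h, Subgroup.map_map, Subgroup.map_map]
  rfl

theorem normalizer_le_normalizer_piC [Finite G] (π : Set ℕ) (H : Subgroup G) :
    Subgroup.normalizer (H : Set G) ≤ Subgroup.normalizer (piC π H : Set G) := by
  intro x hx
  rw [Subgroup.mem_normalizer_iff_map_conj_eq] at hx ⊢
  exact (piC_map_conj π x H).trans (congrArg (piC π) hx)

theorem piC_primes [Finite G] {π : Set ℕ} {H : Subgroup G} {q : ℕ} (hq : q.Prime)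
    (h : q ∣ Nat.card (piC π H)) : q ∈ π :=
  Cores.piCore_isPiGroup (G := H) π q hq (h.trans (Subgroup.card_map_dvd _ _))

theorem not_dvd_card_piC [Finite G] {π : Set ℕ} {p : ℕ} (hp : p.Prime) (hπ : p ∉ π)
    (H : Subgroup G) : ¬ p ∣ Nat.card (piC π H) := fun h => hπ (piC_primes hp h)

theorem mem_pi_of_mem_piC [Finite G] {π : Set ℕ} {H : Subgroup G} {x : G} (hx : x ∈ piC π H)
    {q : ℕ} (hq : q.Prime) (h : q ∣ orderOf x) : q ∈ π :=
  piC_primes hq (h.trans (Subgroup.orderOf_dvd_natCard _ hx))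

theorem le_piC [Finite G] {π : Set ℕ} {K H : Subgroup G} (hKH : K ≤ H)
    (hN : H ≤ Subgroup.normalizer (K : Set G))
    (hK : ∀ q : ℕ, q.Prime → q ∣ Nat.card K → q ∈ π) : K ≤ piC π H := by
  haveI : (K.subgroupOf H).Normal := (Subgroup.normal_subgroupOf_iff_le_normalizer hKH).mpr hN
  intro x hx
  refine ⟨⟨x, hKH hx⟩, Cores.le_piCore (N := K.subgroupOf H) (fun q hq h => hK q hq ?_) hx, rfl⟩
  rwa [Nat.card_congr (Subgroup.subgroupOfEquivOfLe hKH).toEquiv] at h

theorem piC_inf_centralizer_le [Finite G] (π : Set ℕ) {H R : Subgroup G}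
    (hC : Subgroup.centralizer (R : Set G) ≤ H) :
    piC π H ⊓ Subgroup.centralizer (R : Set G) ≤ piC π (Subgroup.centralizer (R : Set G)) := by
  refine le_piC inf_le_right (fun x hx => ?_) fun q hq h =>
    piC_primes hq (h.trans (Subgroup.card_dvd_of_le inf_le_left))
  have h1 : x ∈ Subgroup.normalizer (piC π H : Set G) :=
    normalizer_le_normalizer_piC π H (Subgroup.le_normalizer (hC hx))
  rw [Subgroup.mem_normalizer_iff] at h1 ⊢
  intro y
  simp only [Subgroup.mem_inf, h1 y]
  refine and_congr_right fun _ => ⟨fun h => ?_, fun h => ?_⟩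
  · exact mul_mem (mul_mem hx h) (inv_mem hx)
  · simpa [mul_assoc] using mul_mem (mul_mem (inv_mem hx) h) hx

end Cores

/-! ## Trivial action on an element of the group algebra -/

variable {k : Type v} [Field k] {G : Type u} [Group G]

local notation "C[" P "]" => Subgroup.centralizer ((P : Subgroup G) : Set G)

/-- The elements of `K` fix `a` under multiplication from the left. -/
def Triv (K : Subgroup G) (a : MonoidAlgebra k G) : Prop := ∀ x ∈ K, single x (1 : k) * a = a

theorem Triv.mono {K K' : Subgroup G} {a : MonoidAlgebra k G} (h : Triv K a) (hle : K' ≤ K) :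
    Triv K' a := fun x hx => h x (hle hx)

theorem conjA_single [Finite G] (x g : G) (r : k) :
    conjA x (single g r) = single (x * g * x⁻¹) r := by
  classical
  ext h
  rw [coeff_conjA, coeff_single, coeff_single, Finsupp.single_apply, Finsupp.single_apply]
  refine if_congr ⟨fun e => ?_, fun e => ?_⟩ rfl rfl
  · rw [e]; group
  · rw [← e]; group

theorem Triv.map_conj [Finite G] {K : Subgroup G} {a : MonoidAlgebra k G} (h : Triv K a) (x : G) :
    Triv (K.map (MulAut.conj x).toMonoidHom) (conjA x a) := by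
  rintro _ ⟨y, hy, rfl⟩
  conv_rhs => rw [← h y hy, map_mul, conjA_single]
  rfl

theorem triv_ext_iff [Finite G] {H : Subgroup G} {K : Subgroup H} {z : MonoidAlgebra k H} :
    Triv (K.map H.subtype) (ext H z) ↔ Triv K z := by
  constructor
  · intro h x hx
    refine ext_injective H ?_
    rw [map_mul, ext_single]
    exact h (x : G) ⟨x, hx, rfl⟩
  · rintro h _ ⟨x, hx, rfl⟩
    show single (x : G) (1 : k) * ext H z = _
    rw [← ext_single H x, ← map_mul, h x hx]

theorem isFixedBy_single_one {R : Subgroup G} {x : G} (hx : x ∈ C[R]) :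
    IsFixedBy R (single x (1 : k)) := by
  classical
  intro u hu g
  rw [coeff_single, Finsupp.single_apply, Finsupp.single_apply]
  refine if_congr ⟨fun e => ?_, fun e => ?_⟩ rfl rfl
  · have h := hx u hu
    have hg : g = u⁻¹ * x * u := by rw [e]; group
    rw [hg, mul_assoc, ← h, inv_mul_cancel_left]
  · rw [← e, hx u hu, mul_inv_cancel_right]

theorem br_single [Finite G] {R : Subgroup G} {x : G} (hx : x ∈ C[R]) :
    br R (single x (1 : k)) = single (⟨x, hx⟩ : C[R]) 1 := by
  classical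
  ext h
  rw [coeff_br, coeff_single, coeff_single, Finsupp.single_apply, Finsupp.single_apply]
  exact if_congr ⟨fun e => Subtype.ext e, fun e => congrArg Subtype.val e⟩ rfl rfl

/-- The sum of the elements of a subgroup. -/
noncomputable def sumEl [Finite G] (K : Subgroup G) : MonoidAlgebra k G := by
  classical
  exact ofCoeff (Finsupp.equivFunOnFinite.symm fun g => if g ∈ K then 1 else 0)

open scoped Classical in
theorem coeff_sumEl [Finite G] (K : Subgroup G) (g : G) :
    (sumEl K : MonoidAlgebra k G).coeff g = if g ∈ K then 1 else 0 := by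
  simp [sumEl]

theorem isFixedBy_sumEl [Finite G] {K P : Subgroup G}
    (hP : P ≤ Subgroup.normalizer (K : Set G)) : IsFixedBy P (sumEl K : MonoidAlgebra k G) := by
  classical
  intro u hu g
  rw [coeff_sumEl, coeff_sumEl]
  exact if_congr (Subgroup.mem_normalizer_iff.mp (hP hu) g).symm rfl rfl

theorem single_mul_sumEl [Finite G] {K : Subgroup G} {x : G} (hx : x ∈ K) :
    single x (1 : k) * sumEl K = sumEl K := by
  classical
  ext g
  rw [coeff_single_mul_apply, coeff_sumEl, coeff_sumEl, one_mul]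
  exact if_congr (K.mul_mem_cancel_left (inv_mem hx)) rfl rfl

theorem sumEl_eq_sum [Finite G] (K : Subgroup G) [Fintype K] :
    (sumEl K : MonoidAlgebra k G) = ∑ x : K, single (x : G) 1 := by
  classical
  ext g
  rw [coeff_sumEl, MonoidAlgebra.coeff_sum, Finsupp.finsetSum_apply]
  simp only [coeff_single, Finsupp.single_apply]
  split_ifs with h
  · rw [Finset.sum_eq_single (⟨g, h⟩ : K) (fun x _ hx => if_neg fun e => hx (Subtype.ext e))
      (fun hn => absurd (Finset.mem_univ _) hn), if_pos rfl]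
  · symm
    refine Finset.sum_eq_zero fun x _ => if_neg fun e => h ?_
    rw [← e]
    exact x.2

theorem Triv.sumEl_mul [Finite G] {K : Subgroup G} {a : MonoidAlgebra k G} (h : Triv K a) :
    sumEl K * a = (Nat.card K : k) • a := by
  classical
  haveI := Fintype.ofFinite K
  rw [sumEl_eq_sum, Finset.sum_mul, Finset.sum_congr rfl fun (x : K) _ => h x x.2,
    Finset.sum_const, Finset.card_univ, Nat.card_eq_fintype_card, Nat.cast_smul_eq_nsmul]

theorem ext_sumEl [Finite G] {H : Subgroup G} (K : Subgroup H) :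
    ext H (sumEl K : MonoidAlgebra k H) = sumEl (K.map H.subtype) := by
  classical
  ext g
  rw [coeff_sumEl]
  by_cases hg : g ∈ H
  · refine (coeff_ext H _ ⟨g, hg⟩).trans ?_
    rw [coeff_sumEl]
    exact if_congr (Subgroup.mem_map_iff_mem H.subtype_injective (x := ⟨g, hg⟩)).symm rfl rfl
  · rw [coeff_ext_of_notMem H _ hg, if_neg fun h => hg (Subgroup.map_subtype_le _ h)]

theorem br_sumEl [Finite G] (R K : Subgroup G) :
    ext C[R] (br R (sumEl K : MonoidAlgebra k G)) = sumEl (K ⊓ C[R]) := by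
  classical
  ext g
  rw [coeff_sumEl]
  by_cases hg : g ∈ C[R]
  · refine (coeff_ext _ _ ⟨g, hg⟩).trans ?_
    rw [coeff_br, coeff_sumEl]
    exact if_congr (by simp [hg]) rfl rfl
  · rw [coeff_ext_of_notMem _ _ hg, if_neg fun h => hg (Subgroup.mem_inf.mp h).2]

variable [IsAlgClosed k] [Finite G] {p : ℕ} [Fact p.Prime] [CharP k p]

/-- An idempotent with a nonzero coefficient on the centralizer has a component there. -/
theorem exists_val {R : Subgroup G} (hR : IsPGroup p R) {a : MonoidAlgebra k G}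
    (hi : IsIdempotentElem a) (hfix : IsFixedBy R a) (hfixC : IsFixedBy C[R] a) {g : G}
    (hg : g ∈ C[R]) (hne : a.coeff g ≠ 0) : ∃ ν : Blk k C[R], val R ν a = 1 := by
  have hb : (⟨br R a, br_mem_center hfixC⟩ : ZAlg k C[R]) ≠ 0 := fun h => hne <| by
    have h' : br R a = 0 := congrArg Subtype.val h
    rw [← coeff_br R a ⟨g, hg⟩, h']
    rfl
  obtain ⟨ν, hν⟩ := exists_apply_eq_one (k := k)
    (show IsIdempotentElem (⟨br R a, br_mem_center hfixC⟩ : ZAlg k C[R]) from
      Subtype.ext (br_isIdem hR hi hfix).eq) hb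
  exact ⟨ν, (val_eq ν hfixC).trans hν⟩

theorem br_mul_bidem {R : Subgroup G} (hR : IsPGroup p R) {a : MonoidAlgebra k G}
    (hi : IsIdempotentElem a) (hfix : IsFixedBy R a) (hfixC : IsFixedBy C[R] a) {ν : Blk k C[R]}
    (hval : val R ν a = 1) : br R a * bidem ν = bidem ν :=
  congrArg Subtype.val (mul_idem_eq ν
    (show IsIdempotentElem (⟨br R a, br_mem_center hfixC⟩ : ZAlg k C[R]) from
      Subtype.ext (br_isIdem hR hi hfix).eq) ((val_eq ν hfixC).symm.trans hval))

/-- Trivial action passes to the truncation. -/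
theorem Triv.step_up {K R : Subgroup G} (hR : IsPGroup p R) {a : MonoidAlgebra k G}
    (ht : Triv K a) (hi : IsIdempotentElem a) (hfix : IsFixedBy R a) (hfixC : IsFixedBy C[R] a)
    {ν : Blk k C[R]} (hval : val R ν a = 1) : Triv (K ⊓ C[R]) (bext C[R] ν) := by
  intro x hx
  obtain ⟨hxK, hxC⟩ := Subgroup.mem_inf.mp hx
  have h1 := br_mul hR (isFixedBy_single_one (k := k) hxC) hfix
  rw [ht x hxK, br_single hxC] at h1
  have h2 : single (⟨x, hxC⟩ : C[R]) (1 : k) * bidem ν = bidem ν := by
    conv_lhs => rw [← br_mul_bidem hR hi hfix hfixC hval, ← mul_assoc, ← h1]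
    exact br_mul_bidem hR hi hfix hfixC hval
  have h3 := congrArg (ext C[R]) h2
  rwa [map_mul, ext_single] at h3

/-- Trivial action is detected on the truncation. -/
theorem triv_of_step_down {H K R : Subgroup G} (hR : IsPGroup p R) (hKH : K ≤ H)
    (hHK : H ≤ Subgroup.normalizer (K : Set G)) (hRK : R ≤ Subgroup.normalizer (K : Set G))
    (hpK : ¬ p ∣ Nat.card K) (hC : C[R] ≤ H) (ψ : Blk k H)
    (hfix : IsFixedBy R (bext H ψ)) {ν : Blk k C[R]} (hval : val R ν (bext H ψ) = 1)
    (ht : Triv (K ⊓ C[R]) (bext C[R] ν)) : Triv K (bext H ψ) := by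
  classical
  have hfixC : IsFixedBy C[R] (bext H ψ) := isFixedBy_mono hC (isFixedBy_bext H ψ)
  have hne : (sumEl K : MonoidAlgebra k G) * bext H ψ ≠ 0 := by
    intro h0
    have h1 := br_mul hR (isFixedBy_sumEl (k := k) hRK) hfix
    rw [h0, br_zero] at h1
    have h2 : br R (sumEl K : MonoidAlgebra k G) * bidem ν = 0 := by
      rw [← br_mul_bidem hR (bext_isIdem H ψ) hfix hfixC hval, ← mul_assoc, ← h1, zero_mul]
    have h3 := congrArg (ext C[R]) h2
    rw [map_mul, map_zero, br_sumEl] at h3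
    have h4 := ht.sumEl_mul
    rw [show bext C[R] ν = ext C[R] (bidem ν) from rfl, h3, eq_comm, smul_eq_zero] at h4
    rcases h4 with h4 | h4
    · exact hpK (((CharP.cast_eq_zero_iff k p _).mp h4).trans
        (Subgroup.card_dvd_of_le inf_le_left))
    · exact idem_ne_zero ν (Subtype.ext (ext_injective C[R] (h4.trans (map_zero _).symm)))
  set K₀ := K.subgroupOf H
  haveI : K₀.Normal := (Subgroup.normal_subgroupOf_iff_le_normalizer hKH).mpr hHK
  have hmap : K₀.map H.subtype = K := Subgroup.map_subgroupOf_eq_of_le hKH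
  have hcard : ((Nat.card K₀ : ℕ) : k) ≠ 0 := by
    rw [Nat.card_congr (Subgroup.subgroupOfEquivOfLe hKH).toEquiv]
    exact fun h => hpK ((CharP.cast_eq_zero_iff k p _).mp h)
  have hs0 : (sumEl K₀ : MonoidAlgebra k H) ∈ Subalgebra.center k (MonoidAlgebra k H) :=
    (mem_center_iff_coeff _).mpr fun u g =>
      isFixedBy_sumEl (P := ⊤) (by rw [Subgroup.normalizer_eq_top]) u (Subgroup.mem_top u) g
  let e₀ : ZAlg k H := (Nat.card K₀ : k)⁻¹ • ⟨sumEl K₀, hs0⟩
  have hfixK : Triv K₀ (sumEl K₀ : MonoidAlgebra k H) := fun x hx => single_mul_sumEl hx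
  have he₀ : IsIdempotentElem e₀ := by
    apply Subtype.ext
    show ((Nat.card K₀ : k)⁻¹ • sumEl K₀) * ((Nat.card K₀ : k)⁻¹ • sumEl K₀) =
      (Nat.card K₀ : k)⁻¹ • (sumEl K₀ : MonoidAlgebra k H)
    rw [smul_mul_smul_comm, hfixK.sumEl_mul, smul_smul, mul_assoc,
      inv_mul_cancel₀ hcard, mul_one]
  have hprod : idem ψ * e₀ ≠ 0 := by
    intro h
    rw [mul_comm] at h
    have h' : ((Nat.card K₀ : k)⁻¹ • sumEl K₀) * bidem ψ = 0 := congrArg Subtype.val h
    rw [smul_mul_assoc, smul_eq_zero, or_iff_right (inv_ne_zero hcard)] at h'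
    have h'' := congrArg (ext H) h'
    rw [map_mul, map_zero, ext_sumEl, hmap] at h''
    exact hne h''
  obtain ⟨φ, hφ⟩ := exists_apply_eq_one (k := k) ((idem_isIdem ψ).mul he₀) hprod
  rw [map_mul] at hφ
  obtain rfl : φ = ψ := eq_of_apply_idem_ne_zero (left_ne_zero_of_mul_eq_one hφ)
  rw [apply_idem_self, one_mul] at hφ
  have hval' : ((Nat.card K₀ : k)⁻¹ • sumEl K₀) * bidem φ = bidem φ :=
    congrArg Subtype.val (mul_idem_eq φ he₀ hφ)
  rw [← hmap]
  refine triv_ext_iff.mpr fun x hx => ?_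
  conv_lhs => rw [← hval', ← mul_assoc, mul_smul_comm, hfixK x hx]
  exact hval'

/-- The cores of centralizers act trivially. -/
def Phi (π : Set ℕ) (a : Idx k G) : Prop := Triv (piC π C[a.1]) (bext C[a.1] a.2)

omit [IsAlgClosed k] [Fact p.Prime] [CharP k p] in
theorem map_centralizer_conj (x : G) (Q : Subgroup G) :
    (C[Q]).map (MulAut.conj x).toMonoidHom = C[Q.map (MulAut.conj x).toMonoidHom] := by
  ext g
  rw [mem_map_conj_iff, mem_centralizer_map_iff x Q (x⁻¹ * g * x)]
  simp [mul_assoc]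

omit [Fact p.Prime] [CharP k p] in
theorem Phi.cPair {π : Set ℕ} {a : Idx k G} (h : Phi π a) (x : G) : Phi π (cPair x a) := by
  unfold Phi
  rw [bext_cPair, show C[(Transport.cPair x a).1] = (C[a.1]).map (MulAut.conj x).toMonoidHom from
    (map_centralizer_conj x a.1).symm, ← piC_map_conj]
  exact h.map_conj x

theorem Phi.of_step {π : Set ℕ} (hπ : p ∉ π) {a b : Idx k G}
    (hs : Step p a.1 a.2 b.1 b.2) (h : Phi π b) : Phi π a := by
  obtain ⟨hR, hle, hN, hfix, hval⟩ := hs
  refine triv_of_step_down hR (piC_le _ _)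
    ((Subgroup.le_normalizer).trans (normalizer_le_normalizer_piC π _))
    ((le_normalizer_centralizer hN).trans (normalizer_le_normalizer_piC π _))
    (not_dvd_card_piC Fact.out hπ _) (centralizer_anti hle) _ hfix hval ?_
  exact Triv.mono h (piC_inf_centralizer_le π (centralizer_anti hle))

theorem Phi.of_le {π : Set ℕ} (hπ : p ∉ π) {a b : Idx k G} (hle : Le p a b) (h : Phi π b) :
    Phi π a := by
  induction hle using Relation.ReflTransGen.head_induction_on with
  | refl => exact h
  | head hs _ ih => exact ih.of_step hπ hs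

/-- A property of one maximal pair passes to all pairs of the block. -/
theorem Phi.of_pairOf {π : Set ℕ} (hπ : p ∉ π) {ψ : Blk k G} {t a : Idx k G} (ht : Top p t)
    (hψt : PairOf p ψ t) (ha : PairOf p ψ a) (h : Phi π t) : Phi π a := by
  obtain ⟨x, hx⟩ := exists_le_conj_top ha ht hψt
  have h1 := (h.of_le hπ hx).cPair x⁻¹
  rwa [← cPair_mul, inv_mul_cancel, cPair_one] at h1

/-- All `π`-elements of the centralizer lie in its core, which acts trivially. -/
def Psi (π : Set ℕ) (a : Idx k G) : Prop :=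
  (∀ x ∈ C[a.1], (∀ q : ℕ, q.Prime → q ∣ orderOf x → q ∈ π) → x ∈ piC π C[a.1]) ∧ Phi π a

theorem Psi.cPair {π : Set ℕ} {a : Idx k G} (h : Psi π a) (x : G) : Psi π (cPair x a) := by
  refine ⟨fun y hy hq => ?_, h.2.cPair x⟩
  have hC : C[(Transport.cPair x a).1] = (C[a.1]).map (MulAut.conj x).toMonoidHom :=
    (map_centralizer_conj x a.1).symm
  rw [hC, ← piC_map_conj]
  rw [hC] at hy
  obtain ⟨z, hz, rfl⟩ := hy
  refine Subgroup.mem_map_of_mem _ (h.1 z hz fun q hq' hd => hq q hq' ?_)
  rwa [show orderOf ((MulAut.conj x).toMonoidHom z) = orderOf z from (MulAut.conj x).orderOf_eq z]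

theorem Psi.step {π : Set ℕ} {a b : Idx k G}
    (hs : Step p a.1 a.2 b.1 b.2) (h : Psi π a) : Psi π b := by
  obtain ⟨hR, hle, hN, hfix, hval⟩ := hs
  have hCC := centralizer_anti hle
  refine ⟨fun x hx hq => piC_inf_centralizer_le π hCC ⟨h.1 x (hCC hx) hq, hx⟩, ?_⟩
  have h1 := h.2.step_up hR (bext_isIdem _ _) hfix
    (isFixedBy_mono hCC (isFixedBy_bext _ _)) hval
  refine h1.mono fun x hx => ⟨h.1 x (hCC (piC_le _ _ hx)) fun q hq hd => ?_, piC_le _ _ hx⟩
  exact mem_pi_of_mem_piC hx hq hd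

theorem Psi.of_le {π : Set ℕ} {a b : Idx k G} (hle : Le p a b) (h : Psi π a) : Psi π b := by
  induction hle with
  | refl => exact h
  | tail _ hs ih => exact ih.step hs

/-- A property of one pair passes to all maximal pairs of the block. -/
theorem Psi.of_pairOf {π : Set ℕ} {ψ : Blk k G} {t a : Idx k G} (ht : Top p t)
    (hψt : PairOf p ψ t) (ha : PairOf p ψ a) (h : Psi π a) : Psi π t := by
  obtain ⟨x, hx⟩ := exists_le_conj_top ha ht hψt
  exact (h.cPair x).of_le hx

/-! ## Translation to characters -/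

section Blocks

open Cfsg.Agent.Lib.BrauerPairs.Bridge
open Cfsg.Agent.Lib.Characters.Basic Cfsg.Agent.Lib.Characters.Kernel
open Cfsg.Agent.Lib.Blocks (localRing residue omegaBar ccR omegaR)

attribute [local instance] Ideal.Quotient.field

variable {M : Ideal Cfsg.AlgInt} [M.IsMaximal]

omit [Finite G] in
theorem triv_of_values {H : Type u} [Group H] [Finite H] {B : Set (Cfsg.IrrCharacter H)}
    (hB : Cfsg.IsPBlock M B) {K : Subgroup H}
    (h : ∀ x ∈ K, ∀ χ ∈ B, (χ : H → ℂ) x = (χ : H → ℂ) 1) : Triv K (bidem (blk hB)) := by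
  intro x hx
  ext g
  rw [coeff_single_mul_apply, one_mul, coeff_bidem, coeff_bidem]
  refine congrArg (residue M) (Subtype.ext ?_)
  show Cfsg.blockCoeff B (x⁻¹ * g) = Cfsg.blockCoeff B g
  simp only [Cfsg.blockCoeff]
  congr 1
  refine finsum_congr fun χ => finsum_congr fun hχ => ?_
  rw [(apply_mul_of_apply_eq_one (isCharacter_irr χ) (h x⁻¹ (inv_mem hx) χ hχ) g).1]

/-- A normal subgroup of order prime to `p` acting trivially on the idempotent is in the
kernel. -/
theorem values_of_triv {H : Type u} [Group H] [Finite H] (hM : Cfsg.IsPModular p M)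
    {B : Set (Cfsg.IrrCharacter H)} (hB : Cfsg.IsPBlock M B) {K : Subgroup H} [hK : K.Normal]
    (hKp : ¬ p ∣ Nat.card K) (h : Triv K (bidem (blk hB))) {x : H} (hx : x ∈ K) :
    x ∈ Cfsg.blockKer B := by
  classical
  haveI := Cfsg.Agent.Lib.Blocks.charP_residue hM
  haveI := Fintype.ofFinite H
  haveI := Fintype.ofFinite K
  intro χ hχ
  by_contra hne
  -- the sum over `K` of a nontrivial constituent vanishes
  have hsum : ∑ y : K, (χ : H → ℂ) y = 0 := by
    by_contra h0
    have hci : Cfsg.classInner (fun y : K => (χ : H → ℂ) y) (oneChar K : K → ℂ) ≠ 0 := by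
      rw [Cfsg.classInner]
      simp only [oneChar_apply, map_one, mul_one]
      exact mul_ne_zero (inv_ne_zero (Nat.cast_ne_zero.mpr Nat.card_pos.ne')) h0
    have h2 := Cfsg.Agent.Lib.Clifford.Basic.restrict_eq_smul K χ.2 (oneChar K) hci fun g => rfl
    have ha := congrFun h2 ⟨x, hx⟩
    have hb := congrFun h2 1
    simp only [Pi.smul_apply, oneChar_apply, OneMemClass.coe_one] at ha hb
    exact hne (ha.trans hb.symm)
  have hcard : ((Nat.card K : ℕ) : Res M) ≠ 0 := fun h0 =>
    hKp ((CharP.cast_eq_zero_iff (Res M) p _).mp h0)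
  -- the sum over `K` in the centre
  let z : Subalgebra.center (localRing M) (MonoidAlgebra (localRing M) H) :=
    Cfsg.Agent.Lib.Blocks.ofClassFun (fun g => if g ∈ K then (1 : localRing M) else 0)
      (fun u g => if_congr ⟨fun hg => by simpa [mul_assoc] using hK.conj_mem _ hg u⁻¹,
        fun hg => hK.conj_mem g hg u⟩ rfl rfl)
  have hz : (Cfsg.Agent.Lib.Blocks.mapCenter (residue M) z).1 =
      (sumEl K : MonoidAlgebra (Res M) H) := by
    ext g
    rw [Cfsg.Agent.Lib.Blocks.coeff_mapCenter, Cfsg.Agent.Lib.Blocks.coeff_ofClassFun, coeff_sumEl,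
      apply_ite (residue M), map_one, map_zero]
  have hzc : ∀ g : H, (z.1).coeff g = if g ∈ K then (1 : localRing M) else 0 :=
    fun g => Cfsg.Agent.Lib.Blocks.coeff_ofClassFun _ _ g
  have hψ : blk hB (Cfsg.Agent.Lib.Blocks.mapCenter (residue M) z) = (Nat.card K : Res M) := by
    have h3 : Cfsg.Agent.Lib.Blocks.mapCenter (residue M) z * idem (blk hB) =
        (Nat.card K : Res M) • idem (blk hB) := by
      apply Subtype.ext
      show (Cfsg.Agent.Lib.Blocks.mapCenter (residue M) z).1 * bidem (blk hB) = _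
      rw [hz, h.sumEl_mul]
      rfl
    have h4 := congrArg (blk hB) h3
    rwa [map_mul, map_smul, apply_idem_self, mul_one, smul_eq_mul, mul_one] at h4
  rw [← blkOf_of_mem hB hχ] at hψ
  have h5 : omegaR M χ z = 0 := by
    apply Subtype.ext
    rw [Cfsg.Agent.Lib.Blocks.coe_omegaR, Cfsg.Agent.Lib.Blocks.omega_apply,
      Cfsg.Agent.Lib.Blocks.lin_apply]
    simp only [Cfsg.Agent.Lib.Blocks.coeff_mapCenter, hzc,
      apply_ite (localRing M).subtype, map_one, map_zero, ite_mul, one_mul, zero_mul]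
    rw [← Finset.sum_filter, Finset.sum_subtype (p := fun g => g ∈ K) _ (by simp), hsum]
    simp
  apply hcard
  rw [← hψ]
  show omegaBar M χ _ = 0
  rw [Cfsg.Agent.Lib.Blocks.omegaBar_mapCenter, h5, map_zero]

variable [CharP (Res M) p]

/-- Pairs of a block of a subgroup are pairs of the induced block. -/
theorem pairOf_of_induced {H R : Subgroup G} (hR : IsPGroup p R) (hRH : R ≤ H) (hC : C[R] ≤ H)
    {b : Set (Cfsg.IrrCharacter H)} {B : Set (Cfsg.IrrCharacter G)}
    (hind : Cfsg.IsInducedBlock M H b B) {ν : Blk (Res M) C[R]}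
    (hval : val R ν (bext H (blk hind.1)) = 1) :
    PairOf p (blk hind.2.1) (⟨R, ν⟩ : Idx (Res M) G) := by
  have hR' : IsPGroup p (R.subgroupOf H) := hR.comap_of_injective H.subtype H.subtype_injective
  have hpair : PairOf p (blk hind.1) (⟨R.subgroupOf H, down hRH hC ν⟩ : Idx (Res M) H) :=
    ⟨hR', (val_down hRH hC ν (isFixedBy_of_mem_center _ (bidem_mem _))).trans hval⟩
  rw [pairOf_iff]
  refine ⟨hR, BrauerMap.ClassSum.algHom_ext fun g => ?_⟩
  obtain ⟨ξ, hξ⟩ := exists_mem (blk hind.1)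
  obtain ⟨χ, hχ⟩ := exists_mem (blk hind.2.1)
  rw [toSet_blk] at hξ hχ
  have hic := (BrauerMap.Induced.induced_congr_iff ξ χ).mp (hind.2.2 ξ hξ χ hχ) g
  rw [← BrauerMap.Induced.inducedBar_classSumC, ← blkOf_classSumC,
    Cfsg.Agent.Lib.Blocks.inducedBar_eq_resCenter, blkOf_of_mem hind.2.1 hχ] at hic
  rw [← hic, pairBlk_apply]
  change _ = blkOf M ξ _
  rw [blkOf_of_mem hind.1 hξ, ← hpair.apply_eq,
    val_down hRH hC ν (isFixedBy_of_mem_center _ (Subtype.prop _))]
  refine val_congr ν ?_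
  ext c
  rw [coeff_br, coeff_br]
  refine Eq.symm ((coeff_ext H _ ⟨c, hC c.2⟩).trans ?_)
  rw [Cfsg.Agent.Lib.Blocks.coeff_resCenter]

/-- A component of a block of `H` at a defect group. -/
theorem exists_val_isDef {H : Subgroup G} {b : Set (Cfsg.IrrCharacter H)}
    (hb : Cfsg.IsPBlock M b) {D₀ : Subgroup H} (hD : Cfsg.IsDefectGroup p M b D₀)
    (hC : C[D₀.map H.subtype] ≤ H) :
    ∃ ν : Blk (Res M) C[D₀.map H.subtype], val (D₀.map H.subtype) ν (bext H (blk hb)) = 1 := by
  rw [isDefectGroup_iff hb] at hD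
  have hp : IsPGroup p (D₀.map H.subtype) := hD.isPGroup.map _
  obtain ⟨g, hg, -, P, hP⟩ := hD
  refine exists_val hp (bext_isIdem _ _)
    (isFixedBy_mono (Subgroup.map_subtype_le _) (isFixedBy_bext H _))
    (isFixedBy_mono hC (isFixedBy_bext H _)) (g := (g : G)) ?_ ?_
  · rintro _ ⟨d, hd, rfl⟩
    have h : d ∈ Subgroup.centralizer ({g} : Set H) := Subgroup.map_subtype_le _ (hP ▸ hd)
    exact congrArg Subtype.val (Subgroup.mem_centralizer_singleton_iff.mp h)
  · rw [bext, coeff_ext]
    exact hg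

/-- The maximal pairs over the normalizer of a defect group: the component exists, is maximal and
belongs to the block. -/
theorem exists_top_normalizer {B : Set (Cfsg.IrrCharacter G)} {D : Subgroup G}
    (hBD : Cfsg.IsDefectGroup p M B D)
    {B₁ : Set (Cfsg.IrrCharacter ↥(Subgroup.normalizer (D : Set G)))}
    (hB₁ : Cfsg.IsInducedBlock M (Subgroup.normalizer (D : Set G)) B₁ B)
    (hB₁D : Cfsg.IsDefectGroup p M B₁ (D.subgroupOf (Subgroup.normalizer (D : Set G)))) :
    ∃ ν : Blk (Res M) C[D],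
      val D ν (bext (Subgroup.normalizer (D : Set G)) (blk hB₁.1)) = 1 ∧
      Top p (⟨D, ν⟩ : Idx (Res M) G) ∧ PairOf p (blk hB₁.2.1) (⟨D, ν⟩ : Idx (Res M) G) := by
  have hmap : (D.subgroupOf (Subgroup.normalizer (D : Set G))).map
      (Subgroup.normalizer (D : Set G)).subtype = D :=
    Subgroup.map_subgroupOf_eq_of_le Subgroup.le_normalizer
  have h := exists_val_isDef hB₁.1 hB₁D
    (by rw [hmap]; exact Subgroup.centralizer_le_normalizer _)
  rw [hmap] at h
  obtain ⟨ν, hν⟩ := h
  have hDp : IsPGroup p D := ((isDefectGroup_iff hB₁.2.1 D).mp hBD).isPGroup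
  have hpair := pairOf_of_induced hDp Subgroup.le_normalizer
    (Subgroup.centralizer_le_normalizer _) hB₁ hν
  exact ⟨ν, hν, top_of_isDef hpair ((isDefectGroup_iff hB₁.2.1 D).mp hBD), hpair⟩

/-- The core of the normalizer of the defect group in the kernel forces cores of subgroups into
kernels of the blocks inducing the block. -/
theorem piCore_subset_blockKer (hM : Cfsg.IsPModular p M) {π : Set ℕ} (hπ : p ∉ π)
    {B : Set (Cfsg.IrrCharacter G)} {D : Subgroup G} (hBD : Cfsg.IsDefectGroup p M B D)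
    {B₁ : Set (Cfsg.IrrCharacter ↥(Subgroup.normalizer (D : Set G)))}
    (hB₁ : Cfsg.IsInducedBlock M (Subgroup.normalizer (D : Set G)) B₁ B)
    (hB₁D : Cfsg.IsDefectGroup p M B₁ (D.subgroupOf (Subgroup.normalizer (D : Set G))))
    (hker : ∀ n : ↥(Subgroup.normalizer (D : Set G)),
      n ∈ Cfsg.piCore π ↥(Subgroup.normalizer (D : Set G)) → n ∈ Cfsg.blockKer B₁)
    {H : Subgroup G} {B₀ : Set (Cfsg.IrrCharacter H)} (hB₀ : Cfsg.IsInducedBlock M H B₀ B)
    {D₀ : Subgroup H} (hD₀ : Cfsg.IsDefectGroup p M B₀ D₀) (hC : C[D₀.map H.subtype] ≤ H)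
    {x : H} (hx : x ∈ Cfsg.piCore π H) : x ∈ Cfsg.blockKer B₀ := by
  set N := Subgroup.normalizer (D : Set G) with hN
  obtain ⟨ν, hν, htop, hpt⟩ := exists_top_normalizer hBD hB₁ hB₁D
  have hDp : IsPGroup p D := htop.1
  have hCN : C[D] ≤ N := Subgroup.centralizer_le_normalizer _
  have hphi : Phi π (⟨D, ν⟩ : Idx (Res M) G) := by
    have h1 : Triv (piC π N) (bext N (blk hB₁.1)) :=
      triv_ext_iff.mpr (triv_of_values hB₁.1 fun y hy χ hχ => hker y hy χ hχ)
    have h2 := h1.step_up hDp (bext_isIdem _ _)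
      (isFixedBy_mono Subgroup.le_normalizer (isFixedBy_bext N _))
      (isFixedBy_mono hCN (isFixedBy_bext N _)) hν
    refine h2.mono (le_inf ?_ (piC_le _ _))
    refine le_piC ((piC_le _ _).trans hCN) ?_ fun q hq h => piC_primes hq h
    exact (le_normalizer_centralizer le_rfl).trans (normalizer_le_normalizer_piC π _)
  obtain ⟨ν₀, hν₀⟩ := exists_val_isDef hB₀.1 hD₀ hC
  have hRH : D₀.map H.subtype ≤ H := Subgroup.map_subtype_le _
  have hRp : IsPGroup p (D₀.map H.subtype) :=
    ((isDefectGroup_iff hB₀.1 D₀).mp hD₀).isPGroup.map _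
  have hpair := pairOf_of_induced hRp hRH hC hB₀ hν₀
  have h3 : Phi π (⟨_, ν₀⟩ : Idx (Res M) G) := hphi.of_pairOf hπ htop hpt hpair
  have h4 := triv_of_step_down hRp (piC_le π H)
    ((Subgroup.le_normalizer).trans (normalizer_le_normalizer_piC π H))
    ((hRH.trans Subgroup.le_normalizer).trans (normalizer_le_normalizer_piC π H))
    (not_dvd_card_piC Fact.out hπ H) hC _ (isFixedBy_mono hRH (isFixedBy_bext H _)) hν₀
    (h3.mono (piC_inf_centralizer_le π hC))
  exact values_of_triv hM hB₀.1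
    (fun h => hπ (Cores.piCore_isPiGroup (G := H) π p Fact.out h)) (triv_ext_iff.mp h4) hx

end Blocks

end Cfsg.Agent.Lib.BrauerPairs.Kernel
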