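import Mathlib
import Cfsg.Agent.Lib.Blocks.Orthogonality
import Cfsg.Agent.Lib.BrauerPairs.Fusion
import Cfsg.Agent.Lib.BrauerPairs.Inertial

/-!
# Nilpotent blocks and normal subgroups of p-power index

For `N` normal of p-power index and a block of `G` with the idempotent of a block `c` of `N`, the
pairs of the block at a p-subgroup `Q` of `N` are sums of conjugates of the pairs of `c` at `Q`, and
one block is nilpotent exactly when the other is.
-/

set_option autoImplicit false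
set_option linter.style.haveILetI false

namespace Cfsg.Agent.Lib.BrauerPairs.PIndex

open MonoidAlgebra Cfsg.Agent.Lib.BrauerMap.Basic
open Cfsg.Agent.Lib.BrauerPairs.Center Cfsg.Agent.Lib.BrauerPairs.Trunc
open Cfsg.Agent.Lib.BrauerPairs.Conj Cfsg.Agent.Lib.BrauerPairs.Pairs
open Cfsg.Agent.Lib.BrauerPairs.Transport Cfsg.Agent.Lib.BrauerPairs.Maximal
open Cfsg.Agent.Lib.BrauerPairs.Bridge Cfsg.Agent.Lib.BrauerPairs.Local
open Cfsg.Agent.Lib.BrauerPairs.Extend Cfsg.Agent.Lib.BrauerPairs.Embed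
open Cfsg.Agent.Lib.BrauerPairs.Fusion Cfsg.Agent.Lib.BrauerPairs.Inertial

universe u

attribute [local instance] Ideal.Quotient.field

variable {M : Ideal Cfsg.AlgInt} [M.IsMaximal] {G : Type u} [Group G] [Finite G]

local notation "C[" P "]" => Subgroup.centralizer ((P : Subgroup G) : Set G)


theorem bext_ne_zero (H : Subgroup G) (ω : Blk (Res M) H) : bext H ω ≠ 0 := fun h =>
  idem_ne_zero ω (Subtype.ext (ext_injective H (h.trans (map_zero _).symm)))

omit [Finite G] in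
theorem idem_mul_zero {X : Type u} [Group X] [Finite X] (ω : Blk (Res M) X) {z : ZAlg (Res M) X}
    (hz : IsIdempotentElem z) (h : ω z = 0) : idem ω * z = 0 :=
  idem_ext (k := Res M) ((idem_isIdem ω).mul hz) .zero fun φ => by
    rw [map_mul, map_zero]
    by_cases hφ : φ = ω
    · rw [hφ, h, mul_zero]
    · rw [apply_idem_ne hφ, zero_mul]

theorem bext_mul_eq_or_zero {H : Subgroup G} (ω : Blk (Res M) H) {z : ZAlg (Res M) H}
    (hz : IsIdempotentElem z) :
    bext H ω * ext H (z : MonoidAlgebra (Res M) H) = bext H ω ∨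
      bext H ω * ext H (z : MonoidAlgebra (Res M) H) = 0 := by
  rw [bext, ← map_mul]
  rcases apply_zero_or_one hz ω with h | h
  · refine Or.inr ?_
    have e : bidem ω * (z : MonoidAlgebra (Res M) H) = 0 := congrArg Subtype.val (idem_mul_zero ω hz h)
    rw [e, map_zero]
  · refine Or.inl ?_
    have e : bidem ω * (z : MonoidAlgebra (Res M) H) = bidem ω :=
      congrArg Subtype.val ((mul_comm (idem ω) z).trans (mul_idem_eq ω hz h))
    rw [e]

/-- An element supported in `H` is extended from `H`. -/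
theorem exists_ext_eq {H : Subgroup G} {a : MonoidAlgebra (Res M) G}
    (h : ∀ g, g ∉ H → a.coeff g = 0) : ∃ z : MonoidAlgebra (Res M) H, ext H z = a := by
  classical
  haveI := Fintype.ofFinite H
  refine ⟨∑ x : H, single x (a.coeff x), ?_⟩
  ext g
  by_cases hg : g ∈ H
  · refine (coeff_ext H _ ⟨g, hg⟩).trans ?_
    rw [MonoidAlgebra.coeff_sum, Finsupp.finsetSum_apply, Finset.sum_eq_single (⟨g, hg⟩ : H)
      (fun b _ hb => by simp [Finsupp.single_apply, hb]) (fun hh => absurd (Finset.mem_univ _) hh)]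
    simp
  · rw [coeff_ext_of_notMem H _ hg, h g hg]

theorem exists_center_ext_eq {H : Subgroup G} {a : MonoidAlgebra (Res M) G}
    (h : ∀ g, g ∉ H → a.coeff g = 0) (hfix : IsFixedBy H a) (hi : IsIdempotentElem a) :
    ∃ z : ZAlg (Res M) H, IsIdempotentElem z ∧ ext H (z : MonoidAlgebra (Res M) H) = a := by
  obtain ⟨z, hz⟩ := exists_ext_eq h
  have hzc : z ∈ Subalgebra.center (Res M) (MonoidAlgebra (Res M) H) := by
    rw [mem_center_iff_coeff]
    intro u g
    have h1 := hfix (u : G) u.2 (g : G)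
    rw [← hz, ← Subgroup.coe_inv, ← Subgroup.coe_mul, ← Subgroup.coe_mul, coeff_ext, coeff_ext]
      at h1
    exact h1
  refine ⟨⟨z, hzc⟩, Subtype.ext (ext_injective H ?_), hz⟩
  show ext H (z * z) = ext H z
  rw [map_mul, hz]
  exact hi

section Pair

variable {p : ℕ} [Fact p.Prime] [CharP (Res M) p]

theorem pairOf_iff_mul {ψ : Blk (Res M) G} {Q : Subgroup G} (hQ : IsPGroup p Q) (μ : Blk (Res M) C[Q]) :
    PairOf p ψ (⟨Q, μ⟩ : Idx (Res M) G) ↔
      bext C[Q] μ * ext C[Q] (br Q (bidem ψ)) = bext C[Q] μ := by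
  have hfix : IsFixedBy C[Q] (bidem ψ) := isFixedBy_of_mem_center _ (bidem_mem ψ)
  set z : ZAlg (Res M) C[Q] := ⟨br Q (bidem ψ), br_mem_center hfix⟩ with hz
  have hzi : IsIdempotentElem z :=
    Subtype.ext (br_isIdem hQ (bidem_isIdem _) (isFixedBy_of_mem_center _ (bidem_mem _)))
  have hv : val Q μ (bidem ψ) = μ z := val_eq μ hfix
  constructor
  · intro h
    rw [bext, ← map_mul]
    congr 1
    exact congrArg Subtype.val ((mul_comm (idem μ) z).trans
      (mul_idem_eq μ hzi (hv.symm.trans h.2)))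
  · intro h
    refine ⟨hQ, hv.trans ?_⟩
    rw [bext, ← map_mul] at h
    have h2 : idem μ * z = idem μ := Subtype.ext (ext_injective C[Q] h)
    have h3 := congrArg μ h2
    rwa [map_mul, apply_idem_self, one_mul] at h3

end Pair

variable {p : ℕ} [Fact p.Prime] [CharP (Res M) p] (hM : Cfsg.IsPModular p M) (N : Subgroup G) [N.Normal]
  (hidx : ∃ j : ℕ, N.index = p ^ j)

include hidx in
/-- The elements of order prime to p lie in `N`. -/
theorem mem_of_regular {x : G} (hx : ¬ p ∣ orderOf x) : x ∈ N := by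
  obtain ⟨j, hj⟩ := hidx
  have h1 : (QuotientGroup.mk x : G ⧸ N) = 1 := orderOf_eq_one_iff.mp
    (Nat.eq_one_of_dvd_coprimes (((Fact.out : p.Prime).coprime_iff_not_dvd.mpr hx).pow_left j)
      (by rw [← hj, Subgroup.index_eq_card]; exact orderOf_dvd_natCard _)
      (orderOf_map_dvd (QuotientGroup.mk' N) x))
  exact (QuotientGroup.eq_one_iff x).mp h1

include hM hidx in
theorem exists_center_bext (Q : Subgroup G) (μ : Blk (Res M) C[Q]) :
    ∃ z : ZAlg (Res M) ↥(N ⊓ C[Q]), IsIdempotentElem z ∧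
      ext (N ⊓ C[Q]) (z : MonoidAlgebra (Res M) ↥(N ⊓ C[Q])) = bext C[Q] μ := by
  refine exists_center_ext_eq (fun g hg => ?_)
    (isFixedBy_mono inf_le_right (isFixedBy_bext _ μ)) (bext_isIdem _ μ)
  by_cases hgC : g ∈ C[Q]
  · refine (coeff_ext C[Q] _ ⟨g, hgC⟩).trans ?_
    have hreg : p ∣ orderOf (⟨g, hgC⟩ : C[Q]) := by
      rw [Subgroup.orderOf_mk]
      by_contra hn
      exact hg ⟨mem_of_regular N hidx hn, hgC⟩
    have h1 := coeff_bidem (isPBlock_toSet (M := M) μ) (⟨g, hgC⟩ : C[Q])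
    rw [blk_toSet] at h1
    rw [h1]
    have h2 := Cfsg.Agent.Lib.Blocks.blockCoeff_eq_zero_of_dvd hM (isPBlock_toSet (M := M) μ) hreg
    exact (congrArg (Cfsg.Agent.Lib.Blocks.residue M) (Subtype.ext h2)).trans (map_zero _)
  · exact coeff_ext_of_notMem _ _ hgC

/-- The block `μ` of `C(Q)` lies over the block `ω` of `C_N(Q)`. -/
def Over (Q : Subgroup G) (μ : Blk (Res M) C[Q]) (ω : Blk (Res M) ↥(N ⊓ C[Q])) : Prop :=
  bext (N ⊓ C[Q]) ω * bext C[Q] μ = bext (N ⊓ C[Q]) ω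

include hM hidx in
theorem over_or_zero (Q : Subgroup G) (μ : Blk (Res M) C[Q]) (ω : Blk (Res M) ↥(N ⊓ C[Q])) :
    Over N Q μ ω ∨ bext (N ⊓ C[Q]) ω * bext C[Q] μ = 0 := by
  obtain ⟨z, hz, he⟩ := exists_center_bext hM N hidx Q μ
  rw [Over, ← he]
  exact bext_mul_eq_or_zero ω hz

theorem over_unique {Q : Subgroup G} {μ μ' : Blk (Res M) C[Q]} {ω : Blk (Res M) ↥(N ⊓ C[Q])}
    (h : Over N Q μ ω) (h' : Over N Q μ' ω) : μ = μ' := by
  by_contra hne
  apply bext_ne_zero (N ⊓ C[Q]) ω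
  calc bext (N ⊓ C[Q]) ω = bext (N ⊓ C[Q]) ω * bext C[Q] μ * bext C[Q] μ' := by rw [h, h']
    _ = 0 := by rw [mul_assoc, bext_mul_bext _ hne, mul_zero]

include hM hidx in
theorem exists_over (Q : Subgroup G) (ω : Blk (Res M) ↥(N ⊓ C[Q])) : ∃ μ, Over N Q μ ω := by
  classical
  haveI := Fintype.ofFinite (Blk (Res M) C[Q])
  by_contra h
  apply bext_ne_zero (N ⊓ C[Q]) ω
  rw [← mul_one (bext (N ⊓ C[Q]) ω), ← sum_bext C[Q], Finset.mul_sum]
  exact Finset.sum_eq_zero fun μ _ =>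
    (over_or_zero hM N hidx Q μ ω).resolve_left fun hh => h ⟨μ, hh⟩

include hM hidx in
theorem exists_under (Q : Subgroup G) (μ : Blk (Res M) C[Q]) : ∃ ω, Over N Q μ ω := by
  classical
  haveI := Fintype.ofFinite (Blk (Res M) ↥(N ⊓ C[Q]))
  by_contra h
  apply bext_ne_zero C[Q] μ
  rw [← one_mul (bext C[Q] μ), ← sum_bext (N ⊓ C[Q]), Finset.sum_mul]
  exact Finset.sum_eq_zero fun ω _ =>
    (over_or_zero hM N hidx Q μ ω).resolve_left fun hh => h ⟨ω, hh⟩

theorem conj_mem_iff {Q : Subgroup G} {w : G} (hw : w ∈ Subgroup.normalizer (Q : Set G)) (g : G) :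
    g ∈ N ⊓ C[Q] ↔ w * g * w⁻¹ ∈ N ⊓ C[Q] := by
  simp only [Subgroup.mem_inf]
  refine and_congr ⟨fun h => Subgroup.Normal.conj_mem inferInstance g h w, fun h => ?_⟩
    (mem_centralizer_conj_iff hw g)
  have := Subgroup.Normal.conj_mem inferInstance _ h w⁻¹
  simpa [mul_assoc] using this

theorem exists_conj_block {Q : Subgroup G} {w : G} (hw : w ∈ Subgroup.normalizer (Q : Set G))
    (ω : Blk (Res M) ↥(N ⊓ C[Q])) :
    ∃ ω' : Blk (Res M) ↥(N ⊓ C[Q]), bext (N ⊓ C[Q]) ω' = conjA w (bext (N ⊓ C[Q]) ω) :=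
  ⟨cBlk w _ _ (conj_mem_iff N hw) ω, bext_cBlk _ _ _ _ _⟩

include hM hidx in
/-- The blocks under `μ` are conjugate under `C(Q)`. -/
theorem exists_conj_of_over {Q : Subgroup G} {μ : Blk (Res M) C[Q]} {ω ω' : Blk (Res M) ↥(N ⊓ C[Q])}
    (h : Over N Q μ ω) (h' : Over N Q μ ω') :
    ∃ w ∈ C[Q], conjA w (bext (N ⊓ C[Q]) ω) = bext (N ⊓ C[Q]) ω' := by
  classical
  haveI := Fintype.ofFinite (Blk (Res M) ↥(N ⊓ C[Q]))
  change bext (N ⊓ C[Q]) ω * bext C[Q] μ = bext (N ⊓ C[Q]) ω at h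
  change bext (N ⊓ C[Q]) ω' * bext C[Q] μ = bext (N ⊓ C[Q]) ω' at h'
  set O := Finset.univ.filter
    (fun ν : Blk (Res M) ↥(N ⊓ C[Q]) => ∃ w ∈ C[Q], conjA w (bext (N ⊓ C[Q]) ω) = bext (N ⊓ C[Q]) ν) with hO
  have hωO : ω ∈ O := Finset.mem_filter.mpr ⟨Finset.mem_univ _, 1, one_mem _, conjA_one _⟩
  set s := ∑ ν ∈ O, bext (N ⊓ C[Q]) ν with hs
  have hmul : ∀ ν : Blk (Res M) ↥(N ⊓ C[Q]), bext (N ⊓ C[Q]) ν * s = if ν ∈ O then bext (N ⊓ C[Q]) ν else 0 := by
    intro ν
    rw [hs, Finset.mul_sum]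
    split_ifs with hν
    · rw [Finset.sum_eq_single ν (fun b _ hb => bext_mul_bext _ (Ne.symm hb))
        (fun hh => absurd hν hh)]
      exact (bext_isIdem (N ⊓ C[Q]) ν).eq
    · exact Finset.sum_eq_zero fun b hb => bext_mul_bext _ fun e => hν (e ▸ hb)
  have hfix : IsFixedBy C[Q] s := by
    rw [isFixedBy_iff]
    intro u hu
    rw [hs, map_sum]
    let f : Blk (Res M) ↥(N ⊓ C[Q]) → Blk (Res M) ↥(N ⊓ C[Q]) := fun ν => cBlk u (N ⊓ C[Q]) (N ⊓ C[Q])
      (conj_mem_iff N (Subgroup.centralizer_le_normalizer _ hu)) ν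
    have hf : ∀ ν, bext (N ⊓ C[Q]) (f ν) = conjA u (bext (N ⊓ C[Q]) ν) := fun ν => bext_cBlk _ _ _ _ _
    have hinj : Function.Injective f := fun a b hab => by
      have h2 := congrArg (bext (N ⊓ C[Q])) hab
      rw [hf, hf] at h2
      exact bext_injective (N ⊓ C[Q]) ((conjA u).injective h2)
    have hmem : ∀ ν ∈ O, f ν ∈ O := fun ν hν => by
      obtain ⟨w, hw, hwν⟩ := (Finset.mem_filter.mp hν).2
      exact Finset.mem_filter.mpr ⟨Finset.mem_univ _, u * w, mul_mem hu hw, by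
        rw [conjA_mul, hwν, hf]⟩
    have himg : O.image f = O := Finset.eq_of_subset_of_card_le
      (fun ν hν => by obtain ⟨a, ha, rfl⟩ := Finset.mem_image.mp hν; exact hmem a ha)
      (le_of_eq (Finset.card_image_of_injective O hinj).symm)
    conv_rhs => rw [← himg, Finset.sum_image fun a _ b _ hab => hinj hab]
    exact Finset.sum_congr rfl fun ν _ => (hf ν).symm
  have hidem : IsIdempotentElem s := by
    show s * s = s
    conv_lhs => arg 1; rw [hs]
    rw [Finset.sum_mul]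
    exact Finset.sum_congr rfl fun ν hν => by rw [hmul, if_pos hν]
  obtain ⟨y, hy, hye⟩ := exists_center_ext_eq (H := C[Q]) (fun g hg => by
    rw [hs, MonoidAlgebra.coeff_sum, Finsupp.finsetSum_apply]
    exact Finset.sum_eq_zero fun ν _ => coeff_ext_of_notMem _ _ fun hh => hg hh.2) hfix hidem
  have hsμ : s * bext C[Q] μ = s := by
    rw [hs, Finset.sum_mul]
    refine Finset.sum_congr rfl fun ν hν => ?_
    obtain ⟨w, hw, hwν⟩ := (Finset.mem_filter.mp hν).2
    rw [← hwν]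
    conv_rhs => rw [← (h : bext (N ⊓ C[Q]) ω * bext C[Q] μ = bext (N ⊓ C[Q]) ω)]
    rw [map_mul, (isFixedBy_iff _ _).mp (isFixedBy_bext C[Q] μ) w hw]
  have heq : s = bext C[Q] μ := by
    have hcomm : ext C[Q] (y : MonoidAlgebra (Res M) C[Q]) * bext C[Q] μ =
        bext C[Q] μ * ext C[Q] (y : MonoidAlgebra (Res M) C[Q]) := by
      rw [bext, ← map_mul, ← map_mul]
      exact congrArg _ (congrArg Subtype.val (mul_comm y (idem μ)))
    rcases bext_mul_eq_or_zero μ hy with e | e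
    · rw [← hsμ, ← hye, hcomm, e]
    · exfalso
      rw [← hcomm, hye, hsμ] at e
      have h1 := hmul ω
      rw [if_pos hωO, e, mul_zero] at h1
      exact bext_ne_zero (N ⊓ C[Q]) ω h1.symm
  have h1 := hmul ω'
  rw [heq, (h' : bext (N ⊓ C[Q]) ω' * bext C[Q] μ = bext (N ⊓ C[Q]) ω')] at h1
  split_ifs at h1 with hm
  · exact (Finset.mem_filter.mp hm).2
  · exact absurd h1 (bext_ne_zero (N ⊓ C[Q]) ω')

include hM hidx in
/-- An element of `N` of order prime to p that fixes `μ` fixes each block under it. -/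
theorem conjA_eq_of_over {Q : Subgroup G} {μ : Blk (Res M) C[Q]} {ω : Blk (Res M) ↥(N ⊓ C[Q])}
    (h : Over N Q μ ω) {x : G} (hxN : x ∈ N) (hxQ : x ∈ Subgroup.normalizer (Q : Set G))
    (hreg : ¬ p ∣ orderOf x) (hfix : conjA x (bext C[Q] μ) = bext C[Q] μ) :
    conjA x (bext (N ⊓ C[Q]) ω) = bext (N ⊓ C[Q]) ω := by
  set B0 := bext (N ⊓ C[Q]) ω with hB0
  obtain ⟨ω₁, hω₁⟩ := exists_conj_block N hxQ ω
  have hover : Over N Q μ ω₁ := by
    rw [Over, hω₁]
    conv_rhs => rw [← (h : bext (N ⊓ C[Q]) ω * bext C[Q] μ = bext (N ⊓ C[Q]) ω)]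
    rw [map_mul, hfix]
  obtain ⟨w, hw, hwe⟩ := exists_conj_of_over hM N hidx h hover
  have hwx : conjA x B0 = conjA w B0 := hω₁.symm.trans hwe.symm
  have hfixH : ∀ v ∈ Subgroup.normalizer (Q : Set G), ∀ u ∈ N ⊓ C[Q],
      conjA u (conjA v B0) = conjA v B0 := by
    intro v hv u hu
    obtain ⟨ν, hν⟩ := exists_conj_block N hv ω
    rw [← hν]
    exact (isFixedBy_iff _ _).mp (isFixedBy_bext _ ν) u hu
  have hwN : w ∈ Subgroup.normalizer (Q : Set G) := Subgroup.centralizer_le_normalizer _ hw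
  have hpow : ∀ n : ℕ, conjA (x ^ n) B0 = conjA (w ^ n) B0 := by
    intro n
    induction n with
    | zero => rw [pow_zero, pow_zero]
    | succ n ih =>
      have hc : x * w ^ n * (w ^ n * x)⁻¹ ∈ N ⊓ C[Q] := by
        constructor
        · rw [mul_inv_rev, ← mul_assoc]
          have h1 : w ^ n * x⁻¹ * (w ^ n)⁻¹ ∈ N :=
            Subgroup.Normal.conj_mem inferInstance _ (inv_mem hxN) _
          simpa [mul_assoc] using mul_mem hxN h1
        · have h2 := (mem_centralizer_conj_iff hxQ (w ^ n)).mp (pow_mem hw n)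
          have h3 := mul_mem h2 (inv_mem (pow_mem hw n))
          simpa [mul_assoc] using h3
      rw [pow_succ' x, conjA_mul, ih, ← conjA_mul, pow_succ w, conjA_mul (w ^ n) w, ← hwx,
        ← conjA_mul]
      calc conjA (x * w ^ n) B0
          = conjA (x * w ^ n * (w ^ n * x)⁻¹ * (w ^ n * x)) B0 := by rw [inv_mul_cancel_right]
        _ = conjA (w ^ n * x) B0 := by
          rw [conjA_mul]
          exact hfixH _ (mul_mem (pow_mem hwN n) hxQ) _ hc
  obtain ⟨j, hj⟩ := hidx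
  have h1 : w ^ orderOf x ∈ fixer B0 := by
    show conjA _ B0 = B0
    rw [← hpow, pow_orderOf_eq_one, conjA_one]
  have h2 : w ^ p ^ j ∈ fixer B0 := (isFixedBy_iff _ _).mp (isFixedBy_bext _ ω) _
    ⟨hj ▸ N.pow_index_mem w, pow_mem hw _⟩
  have hw' : w ∈ fixer B0 := by
    have hb := Int.gcd_eq_gcd_ab (orderOf x : ℤ) ((p ^ j : ℕ) : ℤ)
    rw [Int.gcd_natCast_natCast, ((Fact.out : p.Prime).coprime_iff_not_dvd.mpr hreg).pow_left j
      |>.symm.gcd_eq_one, Nat.cast_one] at hb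
    rw [← zpow_one w, hb, zpow_add, zpow_mul, zpow_mul, zpow_natCast, zpow_natCast]
    exact mul_mem (zpow_mem h1 _) (zpow_mem h2 _)
  exact hwx.trans hw'

omit [N.Normal] in
theorem ext_ext_br {Q : Subgroup G} (hQN : Q ≤ N) (a : MonoidAlgebra (Res M) N) :
    ext N (ext (Subgroup.centralizer ((Q.subgroupOf N : Subgroup N) : Set N))
      (br (Q.subgroupOf N) a)) = ext C[Q] (br Q (ext N a)) := by
  ext g
  by_cases hgC : g ∈ C[Q]
  · refine Eq.trans ?_ ((coeff_ext C[Q] _ ⟨g, hgC⟩).trans (coeff_br _ _ _)).symm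
    by_cases hgN : g ∈ N
    · refine (coeff_ext N _ ⟨g, hgN⟩).trans ?_
      refine ((coeff_ext (Subgroup.centralizer ((Q.subgroupOf N : Subgroup N) : Set N))
        (br (Q.subgroupOf N) a)
        ⟨⟨g, hgN⟩, (mem_centralizer_subgroupOf_iff hQN ⟨g, hgN⟩).mpr hgC⟩).trans
        (coeff_br _ _ _)).trans ?_
      exact (coeff_ext N a ⟨g, hgN⟩).symm
    · rw [coeff_ext_of_notMem N _ hgN, coeff_ext_of_notMem N _ hgN]
  · rw [coeff_ext_of_notMem C[Q] _ hgC]
    by_cases hgN : g ∈ N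
    · refine (coeff_ext N _ ⟨g, hgN⟩).trans (coeff_ext_of_notMem _ _ fun h => hgC ?_)
      exact (mem_centralizer_subgroupOf_iff hQN ⟨g, hgN⟩).mp h
    · rw [coeff_ext_of_notMem N _ hgN]

/-- The centralizer in `N` as a subgroup of the group. -/
def eqvN {Q : Subgroup G} (hQN : Q ≤ N) :
    Subgroup.centralizer ((Q.subgroupOf N : Subgroup N) : Set N) ≃* ↥(N ⊓ C[Q]) where
  toFun h := ⟨((h : N) : G), (h : N).2, (mem_centralizer_subgroupOf_iff hQN (h : N)).mp h.2⟩
  invFun g := ⟨⟨g, g.2.1⟩, (mem_centralizer_subgroupOf_iff hQN _).mpr g.2.2⟩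
  left_inv _ := rfl
  right_inv _ := rfl
  map_mul' _ _ := rfl

omit [N.Normal] in
theorem ext_bext_eqvN {Q : Subgroup G} (hQN : Q ≤ N)
    (ν : Blk (Res M) (Subgroup.centralizer ((Q.subgroupOf N : Subgroup N) : Set N))) :
    ext N (bext _ ν) = bext (N ⊓ C[Q]) (ν.comp (zMap (eqvN N hQN).symm)) := by
  have e : ∀ z : MonoidAlgebra (Res M) (Subgroup.centralizer ((Q.subgroupOf N : Subgroup N) : Set N)),
      ext N (ext (Subgroup.centralizer ((Q.subgroupOf N : Subgroup N) : Set N)) z) =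
        ext (N ⊓ C[Q]) (MonoidAlgebra.domCongr (Res M) (Res M) (eqvN N hQN) z) := by
    intro z
    induction z using MonoidAlgebra.induction_linear with
    | zero => simp
    | add u v hu hv => simp only [map_add, hu, hv]
    | single c r =>
      rw [domCongr_single, ext_single, ext_single, ext_single]
      rfl
  rw [bext, bext, e]
  congr 1
  show MonoidAlgebra.domCongr (Res M) (Res M) (eqvN N hQN) ((idem ν : ZAlg (Res M) _) : MonoidAlgebra (Res M) _) =
    ((idem (ν.comp (zMap (eqvN N hQN).symm)) : ZAlg (Res M) _) : MonoidAlgebra (Res M) _)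
  rw [← coe_zMap, zMap_idem]

variable {ψ : Blk (Res M) G} {φ : Blk (Res M) N} (hc : ext N (bidem φ) = bidem ψ)

include hc in
theorem pairOf_sub_iff {Q : Subgroup G} (hQ : IsPGroup p Q) (hQN : Q ≤ N)
    (ν : Blk (Res M) (Subgroup.centralizer ((Q.subgroupOf N : Subgroup N) : Set N))) :
    PairOf p φ (⟨Q.subgroupOf N, ν⟩ : Idx (Res M) N) ↔
      bext (N ⊓ C[Q]) (ν.comp (zMap (eqvN N hQN).symm)) * ext C[Q] (br Q (bidem ψ)) =
        bext (N ⊓ C[Q]) (ν.comp (zMap (eqvN N hQN).symm)) := by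
  rw [pairOf_iff_mul (hQ.of_equiv (Subgroup.subgroupOfEquivOfLe hQN).symm),
    ← ext_bext_eqvN N hQN, ← hc, ← ext_ext_br N hQN, ← map_mul]
  exact (ext_injective N).eq_iff.symm

include hM hidx hc in
theorem nilp_of_sub (h : Nilp p ψ) : Nilp p φ := by
  rintro ⟨S, ν⟩ hpair x hx hreg
  obtain ⟨Q, hQN, rfl⟩ : ∃ Q : Subgroup G, Q ≤ N ∧ Q.subgroupOf N = S :=
    ⟨S.map N.subtype, Subgroup.map_subtype_le S,
      Subgroup.comap_map_eq_self_of_injective N.subtype_injective S⟩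
  have hQ : IsPGroup p Q := hpair.1.of_equiv (Subgroup.subgroupOfEquivOfLe hQN)
  set ω := ν.comp (zMap (eqvN N hQN).symm) with hω
  have hbω := (pairOf_sub_iff N hc hQ hQN ν).mp hpair
  obtain ⟨μ, hμ⟩ := exists_over hM N hidx Q ω
  have hμpair : PairOf p ψ (⟨Q, μ⟩ : Idx (Res M) G) := by
    rw [pairOf_iff_mul hQ]
    have hfix : IsFixedBy C[Q] (bidem ψ) := isFixedBy_of_mem_center _ (bidem_mem ψ)
    rcases bext_mul_eq_or_zero μ (z := ⟨br Q (bidem ψ), br_mem_center hfix⟩) (Subtype.ext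
      (br_isIdem hQ (bidem_isIdem _) (isFixedBy_of_mem_center _ (bidem_mem _)))) with e | e
    · exact e
    · exfalso
      apply bext_ne_zero (N ⊓ C[Q]) ω
      rw [← hbω, ← (hμ : bext (N ⊓ C[Q]) ω * bext C[Q] μ = bext (N ⊓ C[Q]) ω), mul_assoc, e,
        mul_zero]
  obtain ⟨hxS, hxfix⟩ := mem_stab_iff.mp hx
  have hxQ : (x : G) ∈ Subgroup.normalizer (Q : Set G) := by
    rw [Subgroup.mem_normalizer_iff]
    intro q
    constructor
    · intro hq
      exact (Subgroup.mem_normalizer_iff.mp hxS ⟨q, hQN hq⟩).mp hq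
    · intro hq
      have hqN : q ∈ N := by
        have := mul_mem (mul_mem (inv_mem x.2) (hQN hq)) x.2
        simpa [mul_assoc] using this
      exact (Subgroup.mem_normalizer_iff.mp hxS ⟨q, hqN⟩).mpr hq
  have hxω : conjA (x : G) (bext (N ⊓ C[Q]) ω) = bext (N ⊓ C[Q]) ω := by
    rw [hω, ← ext_bext_eqvN N hQN, ← ext_conjA, hxfix]
  have hxμ : conjA (x : G) (bext C[Q] μ) = bext C[Q] μ := by
    have h2 : Over N Q (act Q hxQ μ) ω := by
      rw [Over, bext_act]
      conv_lhs => rw [← hxω]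
      rw [← map_mul, (hμ : bext (N ⊓ C[Q]) ω * bext C[Q] μ = bext (N ⊓ C[Q]) ω), hxω]
    have h3 := congrArg (bext C[Q]) (over_unique N h2 hμ)
    rwa [bext_act] at h3
  have hxC := h _ hμpair (x : G) (mem_stab_iff.mpr ⟨hxQ, hxμ⟩) (by rwa [Subgroup.orderOf_coe])
  exact (mem_centralizer_subgroupOf_iff hQN x).mpr hxC

include hM hidx hc in
theorem nilp_of_super (h : Nilp p φ) : Nilp p ψ := by
  rintro ⟨R, μR⟩ hpair x hx hreg
  have hR : IsPGroup p R := hpair.1
  have hxN : x ∈ N := mem_of_regular N hidx hreg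
  set Q := R ⊓ N with hQdef
  have hQ : IsPGroup p Q := hR.to_le inf_le_left
  have hQN : Q ≤ N := inf_le_right
  obtain ⟨μ, hμ⟩ := exists_le_of_le hR μR Q inf_le_left
  have hμpair : PairOf p ψ (⟨Q, μ⟩ : Idx (Res M) G) := (pairOf_iff_of_le hR hμ ψ).mpr hpair
  have hxR : x ∈ Subgroup.normalizer (R : Set G) := stab_le_normalizer _ hx
  have hxQ : x ∈ Subgroup.normalizer (Q : Set G) := by
    rw [Subgroup.mem_normalizer_iff]
    intro g
    rw [hQdef, Subgroup.mem_inf, Subgroup.mem_inf]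
    refine and_congr (Subgroup.mem_normalizer_iff.mp hxR g) ⟨fun hg => ?_, fun hg => ?_⟩
    · exact Subgroup.Normal.conj_mem inferInstance g hg x
    · have := Subgroup.Normal.conj_mem inferInstance _ hg x⁻¹
      simpa [mul_assoc] using this
  have hxμ : conjA x (bext C[Q] μ) = bext C[Q] μ := by
    have h1 := le_cPair x hμ
    rw [mem_stab.mp hx] at h1
    have h2 := eq_of_le_of_le hR (Subgroup.mem_normalizer_iff_map_conj_eq.mp hxQ) h1 hμ
    exact (mem_stab_iff.mp (mem_stab.mpr h2)).2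
  obtain ⟨ω, hω⟩ := exists_under hM N hidx Q μ
  have hxω := conjA_eq_of_over hM N hidx hω hxN hxQ hreg hxμ
  set ν : Blk (Res M) (Subgroup.centralizer ((Q.subgroupOf N : Subgroup N) : Set N)) :=
    ω.comp (zMap (eqvN N hQN)) with hν
  have hνω : ν.comp (zMap (eqvN N hQN).symm) = ω := by
    refine AlgHom.ext fun z => ?_
    show ω (zMap (eqvN N hQN) (zMap (eqvN N hQN).symm z)) = ω z
    have := zMap_symm (eqvN N hQN).symm z
    rw [MulEquiv.symm_symm] at this
    rw [this]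
  have hνpair : PairOf p φ (⟨Q.subgroupOf N, ν⟩ : Idx (Res M) N) := by
    rw [pairOf_sub_iff N hc hQ hQN ν, hνω]
    conv_lhs => rw [← (hω : bext (N ⊓ C[Q]) ω * bext C[Q] μ = bext (N ⊓ C[Q]) ω)]
    rw [mul_assoc, (pairOf_iff_mul hQ μ).mp hμpair]
    exact hω
  have hxs : (⟨x, hxN⟩ : N) ∈ stab (⟨Q.subgroupOf N, ν⟩ : Idx (Res M) N) := by
    refine mem_stab_iff.mpr ⟨?_, ext_injective N ?_⟩
    · rw [Subgroup.mem_normalizer_iff]
      exact fun q => Subgroup.mem_normalizer_iff.mp hxQ (q : G)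
    · rw [ext_conjA, ext_bext_eqvN N hQN ν, hνω]
      exact hxω
  have hxC : x ∈ C[Q] := (mem_centralizer_subgroupOf_iff hQN _).mp
    (h _ hνpair ⟨x, hxN⟩ hxs (by rwa [Subgroup.orderOf_mk]))
  intro r hr
  set q := x * r * x⁻¹ * r⁻¹ with hqdef
  have hqQ : q ∈ Q := by
    refine ⟨Subgroup.mul_mem R ((Subgroup.mem_normalizer_iff.mp hxR r).mp hr)
      (Subgroup.inv_mem R hr), ?_⟩
    have h1 : r * x⁻¹ * r⁻¹ ∈ N := Subgroup.Normal.conj_mem inferInstance _ (inv_mem hxN) r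
    have h2 := mul_mem hxN h1
    simpa [hqdef, mul_assoc] using h2
  have hxq : Commute x q := ((hxC q hqQ).symm : x * q = q * x)
  have hn : ∀ n : ℕ, x ^ n * r * (x ^ n)⁻¹ = q ^ n * r := by
    intro n
    induction n with
    | zero => simp
    | succ n ih =>
      have e1 : x * r * x⁻¹ = q * r := by rw [hqdef]; group
      calc x ^ (n + 1) * r * (x ^ (n + 1))⁻¹ = x * (x ^ n * r * (x ^ n)⁻¹) * x⁻¹ := by
            rw [pow_succ']; group
        _ = x * q ^ n * (r * x⁻¹) := by rw [ih]; group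
        _ = q ^ n * x * (r * x⁻¹) := by rw [(hxq.pow_right n).eq]
        _ = q ^ n * (x * r * x⁻¹) := by group
        _ = q ^ n * (q * r) := by rw [e1]
        _ = q ^ (n + 1) * r := by rw [← mul_assoc, ← pow_succ]
  have h1 := hn (orderOf x)
  rw [pow_orderOf_eq_one, one_mul, inv_one, mul_one] at h1
  have hq1 : q ^ orderOf x = 1 := mul_right_cancel (h1.symm.trans (one_mul r).symm)
  obtain ⟨i, hi⟩ := IsPGroup.iff_orderOf.mp hQ ⟨q, hqQ⟩
  rw [Subgroup.orderOf_mk] at hi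
  have hq : q = 1 := orderOf_eq_one_iff.mp (Nat.eq_one_of_dvd_coprimes
    (((Fact.out : p.Prime).coprime_iff_not_dvd.mpr hreg).pow_left i) (hi ▸ dvd_rfl)
    (orderOf_dvd_of_pow_eq_one hq1))
  rw [hqdef] at hq
  calc r * x = x * r * x⁻¹ * r⁻¹ * r * x := by rw [hq, one_mul]
    _ = x * r := by group

end Cfsg.Agent.Lib.BrauerPairs.PIndex
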