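import Mathlib
import Cfsg.Agent.Lib.BrauerPairs.HarrisKnorr
import Cfsg.Agent.Lib.Blocks.Orthogonality
import Cfsg.Agent.Lib.CharP.Basic
import Cfsg.Agent.Lib.Coprime.Conjugacy
import Cfsg.Agent.S4672

/-!
# Blocks over a stable block of a normal p'-subgroup in a p-constrained group
-/

set_option autoImplicit false
set_option linter.style.haveILetI false

namespace Cfsg.Agent.Lib.BrauerPairs.PrincipalType

open MonoidAlgebra Cfsg.Agent.Lib.BrauerMap.Basic Cfsg.Agent.Lib.BrauerMap.ClassSum
open Cfsg.Agent.Lib.Blocks (localRing residue)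
open Cfsg.Agent.Lib.BrauerPairs.Center Cfsg.Agent.Lib.BrauerPairs.Trunc
open Cfsg.Agent.Lib.BrauerPairs.Conj Cfsg.Agent.Lib.BrauerPairs.Pairs
open Cfsg.Agent.Lib.BrauerPairs.Transport Cfsg.Agent.Lib.BrauerPairs.Maximal
open Cfsg.Agent.Lib.BrauerPairs.Embed Cfsg.Agent.Lib.BrauerPairs.NormalSub
open Cfsg.Agent.Lib.BrauerPairs.NormalCover Cfsg.Agent.Lib.BrauerPairs.HarrisKnorr
open Cfsg.Agent.Lib.BrauerPairs.Bridge

universe u v

local notation "C[" P "]" => Subgroup.centralizer (SetLike.coe P)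

section Groups

variable {G : Type u} [Group G] [Finite G] {p : ℕ} [Fact p.Prime]

/-- A subgroup between with coprime indices is everything. -/
theorem sup_eq_of_indices {K Q L : Subgroup G} (hK : K ≤ L) (hQ : Q ≤ L)
    (hKL : ∃ n : ℕ, K.relIndex L = p ^ n) (hQL : ¬ p ∣ Q.relIndex L) : K ⊔ Q = L := by
  have hp : p.Prime := Fact.out
  obtain ⟨n, hn⟩ := hKL
  have h1 : (K ⊔ Q).relIndex L ∣ p ^ n := hn ▸ Subgroup.relIndex_dvd_of_le_left L le_sup_left
  have h2 : (K ⊔ Q).relIndex L ∣ Q.relIndex L := Subgroup.relIndex_dvd_of_le_left L le_sup_right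
  obtain ⟨j, -, hj⟩ := (Nat.dvd_prime_pow hp).mp h1
  refine le_antisymm (sup_le hK hQ) (Subgroup.relIndex_eq_one.mp ?_)
  rcases Nat.eq_zero_or_pos j with h | h
  · rw [hj, h, pow_zero]
  · exact absurd ((dvd_pow_self p h.ne').trans (hj ▸ h2)) hQL

end Groups

section Kernel

variable {k : Type v} [Field k] [IsAlgClosed k] {G : Type u} [Group G] [Finite G]

/-- A central idempotent supported in `N` below a block idempotent of `N` equals it. -/
theorem eq_bext_of_supported {N : Subgroup G} (ν : Blk k N) {x : MonoidAlgebra k G}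
    (hi : IsIdempotentElem x) (hc : IsFixedBy N x) (hs : ∀ g, g ∉ N → x.coeff g = 0)
    (hle : x * bext N ν = x) (hne : x ≠ 0) : x = bext N ν := by
  set y : ZAlg k N := ⟨res N x, res_mem_center hc⟩ with hy
  have he : ext N (y : MonoidAlgebra k N) = x := ext_res hs
  have hyν : y * idem ν = y := by
    refine Subtype.ext (ext_injective N ?_)
    rw [Subalgebra.coe_mul, map_mul, he]
    exact hle
  have hyi : IsIdempotentElem y := by
    refine Subtype.ext (ext_injective N ?_)
    rw [Subalgebra.coe_mul, map_mul, he]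
    exact hi.eq
  have hy0 : y * idem ν ≠ 0 := by
    rw [hyν]
    intro h0
    apply hne
    rw [← he, h0]
    simp
  have h1 := mul_idem_eq ν hyi ((apply_eq_one_iff ν hyi).mpr hy0)
  rw [hyν] at h1
  rw [← he, h1]
  rfl

variable {p : ℕ} [Fact p.Prime] [CharP k p]

/-- A p-group fixing a block of a normal p'-subgroup centralizes part of its support. -/
theorem exists_fixed_coeff {K : Subgroup G} [K.Normal] (hK : ¬ p ∣ Nat.card K) (ν : Blk k K)
    {R : Subgroup G} (hR : IsPGroup p R) (hfix : IsFixedBy R (bext K ν)) :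
    ∃ g : K, (g : G) ∈ C[R] ∧ (bidem ν).coeff g ≠ 0 := by
  classical
  haveI : Finite (ConjClasses K) := Quotient.finite _
  haveI := Fintype.ofFinite (ConjClasses K)
  haveI := Fintype.ofFinite K
  let θ : R → (K ≃* K) := fun r => conjEquiv (r : G) K K (mem_conj_iff K (r : G))
  letI : MulAction R K :=
    { smul := fun r g => θ r g
      one_smul := fun g => Subtype.ext (by
        show ((1 : R) : G) * (g : G) * ((1 : R) : G)⁻¹ = g
        simp)
      mul_smul := fun r s g => Subtype.ext (by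
        show ((r * s : R) : G) * (g : G) * ((r * s : R) : G)⁻¹ =
          (r : G) * ((s : G) * (g : G) * (s : G)⁻¹) * (r : G)⁻¹
        simp [mul_assoc]) }
  set n : K → k := fun g => ((Subgroup.centralizer ({g} : Set K)).index : k) with hn
  have hn0 : ∀ g : K, n g ≠ 0 := fun g h => hK <|
    ((CharP.cast_eq_zero_iff k p _).mp h).trans (Subgroup.index_dvd_card _)
  set F : K → k := fun g => (bidem ν).coeff g * ν (classSumC k g) * (n g)⁻¹ with hF
  have hconst : ∀ a b : K, IsConj a b → F a = F b := by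
    intro a b hab
    obtain ⟨x, hx⟩ := isConj_iff.mp hab
    have e1 : classSumC k a = classSumC k b := Subtype.ext (classSum_eq_of_isConj hab)
    have e2 : n a = n b := by
      simp only [hn]
      rw [← card_isConj, ← card_isConj]
      congr 1
      exact Nat.card_congr (Equiv.subtypeEquiv (Equiv.refl _) fun c =>
        ⟨fun h => hab.symm.trans h, fun h => hab.trans h⟩)
    simp only [hF]
    rw [e1, e2, ← hx, (mem_center_iff_coeff _).1 (bidem_mem ν) x a]
  have hinv : ∀ (r : R) (g : K), F (r • g) = F g := by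
    intro r g
    show F (θ r g) = F g
    have hr : conjA (r : G) (bext K ν) = bext K ν := (isFixedBy_iff _ _).mp hfix r r.2
    have hb : cBlk (r : G) K K (mem_conj_iff K (r : G)) ν = ν :=
      bext_injective _ (by rw [bext_cBlk]; exact hr)
    simp only [hF]
    congr 1
    · congr 1
      · have h1 := congrArg (fun z : MonoidAlgebra k G => z.coeff ((θ r g : K) : G)) hr
        simp only [bext] at h1
        rw [coeff_conjA, coeff_ext] at h1
        have e : ((r : G))⁻¹ * ((θ r g : K) : G) * (r : G) = (g : G) := by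
          show (r : G)⁻¹ * ((r : G) * (g : G) * (r : G)⁻¹) * (r : G) = (g : G)
          simp [mul_assoc]
        rw [e, coeff_ext] at h1
        exact h1.symm
      · conv_lhs => rw [← hb]
        show ν (zMap (θ r).symm (classSumC k (θ r g))) = _
        rw [zMap_classSumC, MulEquiv.symm_apply_apply]
    · simp only [hn]
      rw [← card_isConj, ← card_isConj]
      congr 2
      refine Nat.card_congr (Equiv.subtypeEquiv (θ r).symm.toEquiv fun a => ?_)
      exact ⟨fun e => by simpa using (θ r).symm.toMonoidHom.map_isConj e,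
        fun e => by simpa using (θ r).toMonoidHom.map_isConj e⟩
  have hsum : ∑ g, F g = 1 := by
    have hx : idem ν = ∑ c : ConjClasses K, (bidem ν).coeff c.out • classSumC k c.out := by
      refine Subtype.ext ?_
      rw [AddSubmonoidClass.coe_finsetSum]
      exact eq_sum_classSum (bidem_mem ν)
    have h1 := apply_idem_self (k := k) ν
    rw [hx, map_sum] at h1
    rw [← h1, ← Finset.sum_fiberwise Finset.univ (fun g : K => ConjClasses.mk g)]
    refine Finset.sum_congr rfl fun c _ => ?_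
    have hc : ∀ g : K, ConjClasses.mk g = c ↔ IsConj c.out g := fun g => by
      rw [isConj_comm, ← ConjClasses.mk_eq_mk_iff_isConj]
      exact ⟨fun h => h.trans (Quotient.out_eq c).symm, fun h => h.trans (Quotient.out_eq c)⟩
    rw [Finset.sum_congr rfl (fun g hg => (hconst _ g ((hc g).mp (Finset.mem_filter.mp hg).2)).symm),
      Finset.sum_const, map_smul, smul_eq_mul, nsmul_eq_mul]
    have hcard : ((Finset.univ.filter fun g : K => ConjClasses.mk g = c).card : k) = n c.out := by
      simp only [hn]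
      rw [← card_isConj, Nat.card_eq_fintype_card, Fintype.card_subtype]
      congr 2
      ext g
      simp [hc g]
    rw [hcard]
    simp only [hF]
    field_simp [hn0 c.out]
  rw [Cfsg.Agent.Lib.BrauerMap.Basic.sum_eq_sum_fixed hR F hinv] at hsum
  obtain ⟨g, hg, hne⟩ := Finset.exists_ne_zero_of_sum_ne_zero (hsum.symm ▸ one_ne_zero)
  refine ⟨g, Subgroup.mem_centralizer_iff.mpr fun r hr => ?_,
    left_ne_zero_of_mul (left_ne_zero_of_mul hne)⟩
  have h := congrArg Subtype.val ((Finset.mem_filter.mp hg).2 ⟨r, hr⟩)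
  have h2 : r * (g : G) * r⁻¹ = (g : G) := h
  calc r * (g : G) = r * (g : G) * r⁻¹ * r := by simp [mul_assoc]
    _ = (g : G) * r := by rw [h2]

end Kernel

section Exact

attribute [local instance] Ideal.Quotient.field

variable {M : Ideal Cfsg.AlgInt} [M.IsMaximal] {G : Type u} [Group G] [Finite G]
variable {p : ℕ} [Fact p.Prime] [CharP (Res M) p]

omit [Fact p.Prime] [CharP (Res M) p] in
theorem bidem_eq_bext_of_coeff {H : Subgroup G} {c : Set (Cfsg.IrrCharacter H)}
    (hc : Cfsg.IsPBlock M c) {B : Set (Cfsg.IrrCharacter G)} (hB : Cfsg.IsPBlock M B)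
    (h : ∀ g, Cfsg.blockCoeff B g = Cfsg.subgroupBlockCoeff H c g) :
    bidem (blk hB) = bext H (blk hc) := by
  ext g
  rw [coeff_bidem hB g, coeff_bext hc g]
  exact congrArg _ (Subtype.ext (h g))

/-- Central idempotents vanish on p-singular elements. -/
theorem coeff_eq_zero_of_dvd (hM : Cfsg.IsPModular p M) {x : ZAlg (Res M) G}
    (hx : IsIdempotentElem x) {g : G} (hg : p ∣ orderOf g) :
    (x : MonoidAlgebra (Res M) G).coeff g = 0 := by
  classical
  haveI := Fintype.ofFinite (Blk (Res M) G)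
  have h := congrArg (fun z : ZAlg (Res M) G => (z : MonoidAlgebra (Res M) G).coeff g)
    (eq_sum_idem (k := Res M) hx)
  simp only [AddSubmonoidClass.coe_finsetSum, MonoidAlgebra.coeff_sum,
    Finsupp.finsetSum_apply] at h
  rw [h]
  refine Finset.sum_eq_zero fun ψ _ => ?_
  show (bidem ψ).coeff g = 0
  have hB : Cfsg.IsPBlock M (toSet ψ) := isPBlock_toSet ψ
  have h2 := coeff_bidem hB g
  rw [blk_toSet] at h2
  rw [h2, ← map_zero (residue M)]
  exact congrArg _ (Subtype.ext (Cfsg.Agent.Lib.Blocks.blockCoeff_eq_zero_of_dvd hM hB hg))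

/-- A stable block of `K` stays one idempotent in a p-power extension. -/
theorem exists_block_stable (hM : Cfsg.IsPModular p M) {K L : Subgroup G} [K.Normal] (hKL : K ≤ L)
    (hidx : ∃ n : ℕ, K.relIndex L = p ^ n) (ν : Blk (Res M) K)
    (hst : ∀ x ∈ L, conjA x (bext K ν) = bext K ν) :
    ∃ νL : Blk (Res M) L, bext L νL = bext K ν := by
  classical
  haveI := Fintype.ofFinite L
  haveI : (K.subgroupOf L).Normal := Subgroup.Normal.subgroupOf inferInstance L
  set c := toSet (pushDown hKL ν) with hc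
  have hcb : Cfsg.IsPBlock M c := isPBlock_toSet _
  have hblk : blk hcb = pushDown hKL ν := blk_toSet _ hcb
  obtain ⟨⟨B, hB, hco⟩, -⟩ := Cfsg.Agent.S4672.result p M hM (K.subgroupOf L) hidx c hcb fun x => by
    rw [stabilizesBlock_iff_normal _ hcb, hblk]
    apply ext_injective L
    rw [ext_conjA, ext_bext_pushDown hKL ν]
    exact hst x x.2
  refine ⟨blk hB, ?_⟩
  rw [bext, bidem_eq_bext_of_coeff hcb hB hco, hblk, ext_bext_pushDown hKL ν]

/-- The truncation of a stable idempotent of a normal p'-subgroup is a single block idempotent of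
the centralizer inside it. -/
theorem br_eq_bext (hM : Cfsg.IsPModular p M) {K : Subgroup G} [K.Normal]
    (hK : ¬ p ∣ Nat.card K) (ν : Blk (Res M) K) (hst : ∀ x : G, conjA x (bext K ν) = bext K ν)
    {R : Subgroup G} (hR : IsPGroup p R) :
    ∃ ν' : Blk (Res M) (K.subgroupOf C[R]), bext (K.subgroupOf C[R]) ν' = br R (bext K ν) := by
  classical
  have hp : p.Prime := Fact.out
  set e := bext K ν with he
  have hfix : ∀ T : Subgroup G, IsFixedBy T e := fun T => (isFixedBy_iff T e).mpr fun u _ => hst u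
  have hKR : Disjoint K R := by
    rw [disjoint_iff]
    have hco : (Nat.card K).Coprime (Nat.card R) := by
      obtain ⟨n, hn⟩ := IsPGroup.iff_card.mp hR
      rw [hn]
      exact Nat.Coprime.pow_right _ ((Nat.Prime.coprime_iff_not_dvd hp).mpr hK).symm
    exact Cfsg.Agent.Lib.Coprime.inf_eq_bot_of_coprime hco
  set X := K ⊔ R with hX
  have hKX : K ≤ X := le_sup_left
  have hRX : R ≤ X := le_sup_right
  have hidx : ∃ n : ℕ, K.relIndex X = p ^ n := by
    obtain ⟨n, hn⟩ := IsPGroup.iff_card.mp hR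
    have h1 : K.relIndex X ∣ p ^ n := by
      rw [hX, sup_comm, Subgroup.relIndex_sup_right, ← hn]
      exact Subgroup.relIndex_dvd_card K R
    obtain ⟨j, -, hj⟩ := (Nat.dvd_prime_pow hp).mp h1
    exact ⟨j, hj⟩
  obtain ⟨νX, hνX⟩ := exists_block_stable hM hKX hidx ν fun x _ => hst x
  set R' := R.subgroupOf X with hR'
  have hR'p : IsPGroup p R' := hR.comap_of_injective X.subtype X.subtype_injective
  have hidxR : ¬ p ∣ R'.index := by
    intro hd
    apply hK
    refine hd.trans ?_
    have h1 : Nat.card R' * R'.index = Nat.card X := R'.card_mul_index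
    have h2 : Nat.card X = Nat.card K * Nat.card R := by
      rw [hX, sup_comm, mul_comm]
      exact Cfsg.Agent.Lib.Coprime.card_sup_of_disjoint
        (by rw [Subgroup.normalizer_eq_top]; exact le_top) hKR.symm
    rw [Nat.card_congr (Subgroup.subgroupOfEquivOfLe hRX).toEquiv, h2, mul_comm (Nat.card K)] at h1
    rw [Nat.eq_of_mul_eq_mul_left Nat.card_pos h1]
  set S : Sylow p X := hR'p.toSylow hidxR
  obtain ⟨g, hg, hgne⟩ := exists_fixed_coeff hK ν hR (hfix R)
  have hcoe : ∀ x : X, (bidem νX).coeff x = e.coeff (x : G) := fun x => by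
    rw [he, ← hνX, bext, coeff_ext]
  obtain ⟨ω, hω⟩ := exists_pairOf (ψ := νX) hR'p
    (g := ⟨(g : G), hKX g.2⟩) ((mem_centralizer_subgroupOf_iff hRX _).mpr hg) (by
      rw [hcoe]
      show e.coeff (g : G) ≠ 0
      rw [he, bext, coeff_ext]
      exact hgne)
  have htop : Top p (⟨R', ω⟩ : Idx (Res M) X) := ⟨hR'p, fun b hb => S.3 hb.1 hb.2.1⟩
  have huniq : ∀ ω' : Blk (Res M) C[R'], PairOf p νX ⟨R', ω'⟩ → ω' = ω := by
    intro ω' h'
    obtain ⟨x, hx, hxe⟩ := (top_key htop hω).2 ω' h'
    obtain ⟨a, ha, r, hr, har⟩ := Subgroup.mem_sup_of_normal_left.mp x.2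
    set a' : X := ⟨a, hKX ha⟩
    set r' : X := ⟨r, hRX hr⟩
    have hx' : x = a' * r' := Subtype.ext har.symm
    have hrN : r' ∈ Subgroup.normalizer (R' : Set X) := Subgroup.le_normalizer (show r' ∈ R' from hr)
    have haN : a' ∈ Subgroup.normalizer (R' : Set X) := by
      have : a' = x * r'⁻¹ := by rw [hx', mul_inv_cancel_right]
      rw [this]
      exact mul_mem hx (inv_mem hrN)
    have haC : a' ∈ C[R'] := by
      rw [Subgroup.mem_centralizer_iff]
      intro s hs
      have h1 : a' * s * a'⁻¹ * s⁻¹ ∈ R' :=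
        mul_mem ((Subgroup.mem_normalizer_iff.mp haN s).mp hs) (inv_mem hs)
      have h2 : ((a' * s * a'⁻¹ * s⁻¹ : X) : G) ∈ K := by
        show a * (s : G) * a⁻¹ * (s : G)⁻¹ ∈ K
        rw [show a * (s : G) * a⁻¹ * (s : G)⁻¹ = a * ((s : G) * a⁻¹ * (s : G)⁻¹) by
          simp [mul_assoc]]
        exact mul_mem ha ((mem_conj_iff K (s : G) a⁻¹).mp (inv_mem ha))
      have h3 : (a' * s * a'⁻¹ * s⁻¹ : X) = 1 :=
        Subtype.ext (Subgroup.disjoint_def.mp hKR h2 h1)
      exact ((mul_inv_eq_iff_eq_mul).mp (mul_inv_eq_one.mp h3)).symm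
    have h4 : cPair r' (⟨R', ω⟩ : Idx (Res M) X) = ⟨R', ω⟩ :=
      sigma_ext_of_bext (map_conj_eq_of_mem hrN) (by
        rw [bext_cPair]
        exact (isFixedBy_iff _ _).mp (LocalDefect.isFixedBy_self R' _) r' hr)
    rw [hx', cPair_mul, h4, cPair_of_mem_centralizer haC] at hxe
    exact (eq_of_heq (Sigma.mk.inj hxe).2).symm
  have hC : IsFixedBy C[R'] (bidem νX) := isFixedBy_of_mem_center _ (bidem_mem _)
  have hbrX : (⟨br R' (bidem νX), br_mem_center hC⟩ : ZAlg (Res M) C[R']) = idem ω := by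
    refine idem_ext (k := Res M) (Subtype.ext (br_isIdem hR'p (bidem_isIdem νX)
      (isFixedBy_of_mem_center _ (bidem_mem _))).eq) (idem_isIdem ω) fun φ => ?_
    rw [← val_eq φ hC]
    by_cases hφ : φ = ω
    · rw [hφ, hω.2, apply_idem_self]
    · rw [apply_idem_ne hφ]
      rcases val_zero_or_one hR'p φ (bidem_isIdem νX)
        (isFixedBy_of_mem_center _ (bidem_mem _)) hC with h | h
      · exact h
      · exact absurd (huniq φ ⟨hR'p, h⟩) hφ
  -- the truncation in `C[R]`
  set K' := K.subgroupOf C[R] with hK'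
  set y := br R e with hy
  have hyi : IsIdempotentElem y := br_isIdem hR (bext_isIdem K ν) (hfix R)
  have hyc : y ∈ Subalgebra.center (Res M) (MonoidAlgebra (Res M) C[R]) := br_mem_center (hfix _)
  have hys : ∀ c : C[R], c ∉ K' → y.coeff c = 0 := fun c hc => by
    rw [hy, coeff_br, he, bext, coeff_ext_of_notMem K _ (g := (c : G)) hc]
  set w : ZAlg (Res M) K' := ⟨res K' y, res_mem_center (isFixedBy_of_mem_center _ hyc)⟩ with hw
  have hwy : ext K' (w : MonoidAlgebra (Res M) K') = y := ext_res hys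
  have hwi : IsIdempotentElem w := by
    refine Subtype.ext (ext_injective K' ?_)
    rw [Subalgebra.coe_mul, map_mul, hwy]
    exact hyi.eq
  obtain ⟨φ, hφ⟩ := exists_apply_eq_one (k := Res M) hwi (fun h0 => by
    have h1 : (y.coeff ⟨(g : G), hg⟩) = 0 := by
      rw [← hwy, h0]
      simp
    rw [hy, coeff_br, he, bext, coeff_ext] at h1
    exact hgne h1)
  refine ⟨φ, ?_⟩
  have hle : bext K' φ * y = bext K' φ := by
    have h1 := congrArg (fun t : ZAlg (Res M) K' => ext K' (t : MonoidAlgebra (Res M) K'))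
      ((mul_comm _ _).trans (mul_idem_eq φ hwi hφ))
    simp only [Subalgebra.coe_mul, map_mul, hwy] at h1
    exact h1
  -- transfer to `X`
  set Z := ext C[R] (bext K' φ) with hZ
  have hZs : ∀ x : G, x ∉ X → Z.coeff x = 0 := by
    intro x hx
    by_cases hxC : x ∈ C[R]
    · rw [show x = ((⟨x, hxC⟩ : C[R]) : G) from rfl, hZ, coeff_ext, bext,
        coeff_ext_of_notMem K' _ (fun h => hx (hKX h))]
    · rw [hZ, coeff_ext_of_notMem _ _ hxC]
  have hZfix : ∀ u ∈ C[R], u ∈ X → conjA u Z = Z := by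
    intro u hu huX
    obtain ⟨a, ha, r, hr, rfl⟩ := Subgroup.mem_sup_of_normal_left.mp huX
    have hrZ : ∀ s ∈ R, r * s = s * r := by
      intro s hs
      have h1 : r * s * r⁻¹ * s⁻¹ ∈ R :=
        mul_mem (mul_mem (mul_mem hr hs) (inv_mem hr)) (inv_mem hs)
      have h2 : r * s * r⁻¹ * s⁻¹ ∈ K := by
        have h3 := Subgroup.mem_centralizer_iff.mp hu s hs
        have h4 : r * s * r⁻¹ * s⁻¹ = a⁻¹ * (s * a * s⁻¹) := by
          calc r * s * r⁻¹ * s⁻¹ = a⁻¹ * ((a * r) * s) * r⁻¹ * s⁻¹ := by simp [mul_assoc]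
            _ = a⁻¹ * (s * (a * r)) * r⁻¹ * s⁻¹ := by rw [h3]
            _ = a⁻¹ * (s * a * s⁻¹) := by simp [mul_assoc]
        rw [h4]
        exact mul_mem (inv_mem ha) ((mem_conj_iff K s a).mp ha)
      have h5 := Subgroup.disjoint_def.mp hKR h2 h1
      exact mul_inv_eq_iff_eq_mul.mp (mul_inv_eq_one.mp h5)
    have hrC : r ∈ C[R] := Subgroup.mem_centralizer_iff.mpr fun s hs => (hrZ s hs).symm
    have haC : a ∈ C[R] := by
      have := mul_mem hu (inv_mem hrC)
      rwa [mul_inv_cancel_right] at this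
    rw [conjA_mul, (isFixedBy_iff _ _).mp (LocalDefect.isFixedBy_self R _) r hr, hZ,
      show a = ((⟨a, haC⟩ : C[R]) : G) from rfl, ← ext_conjA,
      (isFixedBy_iff _ _).mp (isFixedBy_bext K' φ) ⟨a, haC⟩ ha]
  set ZX := res X Z with hZX
  have hZXG : ext X ZX = Z := ext_res hZs
  have hZXfix : IsFixedBy C[R'] ZX := (isFixedBy_iff _ _).mpr fun u hu => by
    apply ext_injective X
    rw [ext_conjA, hZXG]
    exact hZfix u ((mem_centralizer_subgroupOf_iff hRX u).mp hu) u.2
  set W : ZAlg (Res M) C[R'] := ⟨br R' ZX, br_mem_center hZXfix⟩ with hW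
  have hWcoeff : ∀ x : C[R'], (W : MonoidAlgebra (Res M) C[R']).coeff x = Z.coeff ((x : X) : G) :=
    fun x => by
      show (br R' ZX).coeff x = _
      rw [coeff_br, hZX, coeff_res]
  have hZXR : IsFixedBy R' ZX := (isFixedBy_iff _ _).mpr fun u hu => by
    apply ext_injective X
    rw [ext_conjA, hZXG]
    exact (isFixedBy_iff _ _).mp (LocalDefect.isFixedBy_self R _) u hu
  have hZi : IsIdempotentElem ZX := by
    refine ext_injective X ?_
    rw [map_mul, hZXG]
    exact ((bext_isIdem K' φ).map (ext C[R])).eq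
  have hWi : IsIdempotentElem W := Subtype.ext (br_isIdem hR'p hZi hZXR).eq
  have hZe : Z * e = Z * ext C[R] y + Z * (e - ext C[R] y) := by rw [← mul_add, add_sub_cancel]
  have hWle : W * idem ω = W := by
    rw [← hbrX]
    refine Subtype.ext ?_
    show br R' ZX * br R' (bidem νX) = br R' ZX
    rw [← br_mul hR'p hZXR (isFixedBy_of_mem_center _ (bidem_mem _))]
    ext x
    rw [coeff_br, coeff_br, ← coeff_ext X (ZX * bidem νX), ← coeff_ext X ZX, map_mul, hZXG,
      show ext X (bidem νX) = e from hνX]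
    have hxC : ((x : X) : G) ∈ C[R] := (mem_centralizer_subgroupOf_iff hRX _).mp x.2
    have hbr : br R (Z * e) = br R Z := by
      rw [br_mul hR (LocalDefect.isFixedBy_self R _) (hfix R), ← hy]
      have h1 : br R Z = bext K' φ := by
        ext c
        rw [coeff_br, hZ, coeff_ext]
      rw [h1, hle]
    have h2 := congrArg (fun t : MonoidAlgebra (Res M) C[R] => t.coeff ⟨_, hxC⟩) hbr
    simp only [coeff_br] at h2
    exact h2
  have hW0 : W * idem ω ≠ 0 := by
    rw [hWle]
    intro h0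
    have h1 : bext K' φ = 0 := by
      ext c
      by_cases hc : c ∈ K'
      · have hcX : (c : G) ∈ X := hKX hc
        have h2 := hWcoeff ⟨⟨(c : G), hcX⟩, (mem_centralizer_subgroupOf_iff hRX _).mpr c.2⟩
        rw [h0, hZ, coeff_ext] at h2
        simpa using h2.symm
      · rw [bext, coeff_ext_of_notMem _ _ hc]
        simp
    have h3 : idem φ = 0 := Subtype.ext (ext_injective K' (h1.trans (map_zero _).symm))
    exact idem_ne_zero φ h3
  have hWeq : W = idem ω := by
    have h1 := mul_idem_eq ω hWi ((apply_eq_one_iff ω hWi).mpr hW0)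
    rwa [hWle] at h1
  rw [← hbrX] at hWeq
  ext c
  by_cases hc : c ∈ K'
  · have hcX : (c : G) ∈ X := hKX hc
    have h2 := congrArg (fun t : ZAlg (Res M) C[R'] => (t : MonoidAlgebra (Res M) C[R']).coeff
      ⟨⟨(c : G), hcX⟩, (mem_centralizer_subgroupOf_iff hRX _).mpr c.2⟩) hWeq
    simp only [hWcoeff, coeff_br, hcoe] at h2
    rw [hy, coeff_br, ← h2, hZ, coeff_ext]
  · rw [bext, coeff_ext_of_notMem _ _ hc, hys c hc]

/-- With the centraliser of `Q` p-regularly inside `K`, a stable idempotent of `K` is a block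
idempotent of `G`. -/
theorem exists_bidem_eq (hM : Cfsg.IsPModular p M) {K L : Subgroup G} [K.Normal] [L.Normal]
    (hK : ¬ p ∣ Nat.card K) (hKL : K ≤ L) (hidx : ∃ n : ℕ, K.relIndex L = p ^ n) {Q : Subgroup G}
    (hQ : IsPGroup p Q) (hQL : Q ≤ L) (hCQ : ∀ x ∈ C[Q], ¬ p ∣ orderOf x → x ∈ K)
    (ν : Blk (Res M) K) (hst : ∀ x : G, conjA x (bext K ν) = bext K ν) :
    ∃ ψ : Blk (Res M) G, bidem ψ = bext K ν := by
  classical
  set e := bext K ν with he
  have hec : e ∈ Subalgebra.center (Res M) (MonoidAlgebra (Res M) G) :=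
    (mem_center_iff_coeff _).2 fun u g => by
      conv_lhs => rw [← hst u]
      rw [coeff_conjA_conj]
  obtain ⟨νL, hνL⟩ := exists_block_stable hM hKL hidx ν fun x _ => hst x
  obtain ⟨g, hg, hgne⟩ := exists_fixed_coeff hK ν hQ ((isFixedBy_iff _ _).mpr fun u _ => hst u)
  have hQp' : IsPGroup p (Q.subgroupOf L) :=
    hQ.comap_of_injective L.subtype L.subtype_injective
  obtain ⟨μ, hμ⟩ := exists_pairOf (ψ := νL) hQp'
    (g := ⟨(g : G), hKL g.2⟩) ((mem_centralizer_subgroupOf_iff hQL _).mpr hg) (by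
      rw [← coeff_ext L, show ext L (bidem νL) = e from hνL, he, bext]
      show (ext K (bidem ν)).coeff (g : G) ≠ 0
      rw [coeff_ext]
      exact hgne)
  obtain ⟨ν', hν'⟩ := br_eq_bext hM hK ν hst hQ
  have key : ∀ x : MonoidAlgebra (Res M) G, x ∈ Subalgebra.center (Res M) _ → IsIdempotentElem x →
      x * e = x → x ≠ 0 → br Q x = br Q e := by
    intro x hxc hxi hxe hx0
    have hne := NormalSub.br_ne_zero L hxc hxi hμ (by rw [hνL, hxe]; exact hx0)
    rw [Subgroup.map_subgroupOf_eq_of_le hQL] at hne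
    have hfix : ∀ T : Subgroup G, IsFixedBy T x := fun T => isFixedBy_of_mem_center T hxc
    rw [← hν']
    refine eq_bext_of_supported ν' (br_isIdem hQ hxi (hfix Q))
      (isFixedBy_of_mem_center _ (br_mem_center (hfix _))) (fun c hc => ?_) ?_ hne
    · rw [coeff_br]
      by_cases hd : p ∣ orderOf (c : G)
      · exact coeff_eq_zero_of_dvd hM (x := ⟨x, hxc⟩) (Subtype.ext hxi.eq) hd
      · exact absurd (hCQ c c.2 hd) hc
    · rw [hν', ← br_mul hQ (hfix Q) (isFixedBy_of_mem_center Q hec), hxe]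
  have he0 : (⟨e, hec⟩ : ZAlg (Res M) G) ≠ 0 := by
    intro h
    have h1 : e = 0 := congrArg Subtype.val h
    have h2 : idem ν = 0 := Subtype.ext (ext_injective K (h1.trans (map_zero _).symm))
    exact idem_ne_zero ν h2
  have hei : IsIdempotentElem (⟨e, hec⟩ : ZAlg (Res M) G) := Subtype.ext (bext_isIdem K ν).eq
  obtain ⟨ψ, hψ⟩ := exists_apply_eq_one (k := Res M) hei he0
  refine ⟨ψ, ?_⟩
  have hxe : bidem ψ * e = bidem ψ :=
    congrArg Subtype.val ((mul_comm _ _).trans (mul_idem_eq ψ hei hψ))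
  have hex : e * bidem ψ = bidem ψ := congrArg Subtype.val (mul_idem_eq ψ hei hψ)
  by_contra hne
  have hee : e * e = e := bext_isIdem K ν
  have hx' : br Q (e - bidem ψ) = br Q e := by
    refine key _ (Subalgebra.sub_mem _ hec (bidem_mem ψ)) ?_ ?_ (sub_ne_zero.mpr (Ne.symm hne))
    · show (e - bidem ψ) * (e - bidem ψ) = e - bidem ψ
      rw [sub_mul, mul_sub, mul_sub, hee, hex, hxe, (bidem_isIdem ψ).eq, sub_self, sub_zero]
    · rw [sub_mul, hee, hxe]
  have hx : br Q (bidem ψ) = br Q e := key _ (bidem_mem ψ) (bidem_isIdem ψ) hxe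
    (fun h => idem_ne_zero ψ (Subtype.ext h))
  have hsum : br Q (e - bidem ψ) + br Q (bidem ψ) = br Q e := by rw [← br_add, sub_add_cancel]
  rw [hx', hx] at hsum
  have h0 : br Q e = 0 := left_eq_add.mp hsum.symm
  rw [← hν'] at h0
  exact idem_ne_zero ν' (Subtype.ext (ext_injective _ (h0.trans (map_zero _).symm)))

end Exact

end Cfsg.Agent.Lib.BrauerPairs.PrincipalType
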