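import Cfsg.Prelude.Def_Blocks
import Cfsg.Agent.Lib.Blocks.DefectGroup
import Cfsg.Agent.Lib.Characters.Complete
import Cfsg.Agent.Lib.BlocksChars5.Basic
import Cfsg.Agent.Lib.BC78.Central

/-!
# Congruences modulo `p` separate the `p`-regular classes
-/

set_option autoImplicit false

namespace Cfsg.Agent.Lib.BrauerPairs.Separate

open scoped ComplexConjugate
open Cfsg.Agent.Lib Cfsg.Agent.Lib.Characters.Basic

universe u

/-- Multiples of `p` among the algebraic integers. -/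
def pMul (p : ℕ) : AddSubgroup ℂ where
  carrier := {z : ℂ | ∃ γ : Cfsg.AlgInt, z = (p : ℂ) * (γ : ℂ)}
  zero_mem' := ⟨0, by simp⟩
  add_mem' := by
    rintro _ _ ⟨a, rfl⟩ ⟨b, rfl⟩
    exact ⟨a + b, by simp [mul_add]⟩
  neg_mem' := by
    rintro _ ⟨a, rfl⟩
    exact ⟨-a, by simp⟩

theorem mul_mem_pMul {p : ℕ} {z c : ℂ} (hz : z ∈ pMul p) (hc : IsIntegral ℤ c) :
    c * z ∈ pMul p := by
  obtain ⟨γ, rfl⟩ := hz
  refine ⟨⟨c, hc⟩ * γ, ?_⟩
  show c * ((p : ℂ) * (γ : ℂ)) = (p : ℂ) * (c * (γ : ℂ))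
  ring

theorem natCast_notMem_pMul {p n : ℕ} (hp : p.Prime) (hn : ¬ p ∣ n) : (n : ℂ) ∉ pMul p := by
  rintro ⟨γ, hγ⟩
  have hp0 : (p : ℂ) ≠ 0 := Nat.cast_ne_zero.mpr hp.ne_zero
  have e : (γ : ℂ) = algebraMap ℚ ℂ ((n : ℚ) / p) := by
    rw [map_div₀, map_natCast, map_natCast, eq_div_iff hp0, hγ, mul_comm]
  have h1 : IsIntegral ℤ ((n : ℚ) / p) :=
    (isIntegral_algebraMap_iff (algebraMap ℚ ℂ).injective).mp (e ▸ γ.2)
  obtain ⟨j, hj⟩ := IsIntegrallyClosed.isIntegral_iff.mp h1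
  rw [eq_div_iff (Nat.cast_ne_zero.mpr hp.ne_zero), eq_intCast] at hj
  have h3 : j * (p : ℤ) = (n : ℤ) := by exact_mod_cast hj
  exact hn (Int.natCast_dvd_natCast.mp ⟨j, by rw [← h3, mul_comm]⟩)

variable {G : Type u} [Group G] [Finite G] {p : ℕ} [hp : Fact p.Prime]

/-- Frobenius congruence. -/
theorem pow_sub_apply_pow_mem (χ : Cfsg.IrrCharacter G) (x : G) (n : ℕ) :
    (χ : G → ℂ) x ^ p ^ n - (χ : G → ℂ) (x ^ p ^ n) ∈ pMul p := by
  classical
  obtain ⟨m, hm⟩ := exists_multiset_sum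
    (isCharacter_comp (Subgroup.zpowers x).subtype (isCharacter_irr χ))
  let g₀ : Subgroup.zpowers x := ⟨x, Subgroup.mem_zpowers x⟩
  have hval : ∀ (h : Subgroup.zpowers x), (χ : G → ℂ) h =
      (m.map fun ψ : Cfsg.IrrCharacter (Subgroup.zpowers x) =>
        (ψ : Subgroup.zpowers x → ℂ) h).sum := by
    intro h
    have h1 := congrFun hm h
    rw [Function.comp_apply, Multiset.map_congr rfl (fun _ _ => rfl)] at h1
    rw [← Pi.evalAddMonoidHom_apply (fun _ : Subgroup.zpowers x => ℂ) h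
      (m.map fun ψ : Cfsg.IrrCharacter (Subgroup.zpowers x) =>
        (ψ : Subgroup.zpowers x → ℂ)).sum, AddMonoidHom.map_multiset_sum, Multiset.map_map] at h1
    exact h1
  have hpow : ∀ (ψ : Cfsg.IrrCharacter (Subgroup.zpowers x)) (k : ℕ),
      (ψ : Subgroup.zpowers x → ℂ) (g₀ ^ k) = (ψ : Subgroup.zpowers x → ℂ) g₀ ^ k := by
    intro ψ k
    have hcomm : ∀ a b : Subgroup.zpowers x, a * b = b * a := fun a b => mul_comm' a b
    have h1 := BC78.Central.irr_of_comm_degree hcomm ψ.2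
    induction k with
    | zero => rw [pow_zero, pow_zero, h1]
    | succ k ih =>
      rw [pow_succ', pow_succ', BC78.Central.char_mul_central ψ.2
        (Subgroup.mem_center_iff.mpr fun c => hcomm c _), h1, div_one, ih]
  have e1 := hval g₀
  have e2 := hval (g₀ ^ p ^ n)
  rw [Multiset.map_congr rfl (fun ψ _ => hpow ψ (p ^ n))] at e2
  have e3 : ((g₀ ^ p ^ n : Subgroup.zpowers x) : G) = x ^ p ^ n := by simp [g₀]
  rw [e3] at e2
  change (χ : G → ℂ) x = _ at e1
  rw [e1, e2]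
  clear e1 e2 hm hval
  induction m using Multiset.induction_on with
  | empty => simp [hp.out.ne_zero]
  | cons ψ m ih =>
    rw [Multiset.map_cons, Multiset.sum_cons, Multiset.map_cons, Multiset.sum_cons]
    set S := (m.map fun ψ : Cfsg.IrrCharacter (Subgroup.zpowers x) =>
      (ψ : Subgroup.zpowers x → ℂ) g₀).sum with hS
    have hψ : IsIntegral ℤ ((ψ : Subgroup.zpowers x → ℂ) g₀) :=
      isIntegral_apply (isCharacter_irr ψ) g₀
    have hSi : IsIntegral ℤ S := IsIntegral.multiset_sum fun z hz => by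
      obtain ⟨φ, -, rfl⟩ := Multiset.mem_map.mp hz
      exact isIntegral_apply (isCharacter_irr φ) g₀
    obtain ⟨r, hr⟩ := exists_add_pow_prime_pow_eq hp.out
      (⟨_, hψ⟩ : Cfsg.AlgInt) (⟨S, hSi⟩ : Cfsg.AlgInt) n
    obtain ⟨γ, hγ⟩ := ih
    have hr' := congrArg (fun t : Cfsg.AlgInt => (t : ℂ)) hr
    push_cast at hr'
    refine ⟨⟨_, hψ⟩ * ⟨S, hSi⟩ * r + γ, ?_⟩
    push_cast
    linear_combination hr' + hγ

/-- Two `p`-regular elements congruent in every character modulo `p` are conjugate. -/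
theorem isConj_of_congr {u v : G} (hu : ¬ p ∣ orderOf u) (hv : ¬ p ∣ orderOf v)
    (h : ∀ χ : Cfsg.IrrCharacter G, (χ : G → ℂ) u - (χ : G → ℂ) v ∈ pMul p) : IsConj u v := by
  classical
  haveI := Fintype.ofFinite (Cfsg.IrrCharacter G)
  by_contra hne
  set C := Subgroup.centralizer ({u} : Set G) with hC
  obtain ⟨Q⟩ : Nonempty (Sylow p C) := inferInstance
  set S := (Q : Subgroup C).map C.subtype with hS
  haveI : Fintype S := Fintype.ofFinite _
  have hSu : ∀ d ∈ S, d * u = u * d := fun d hd =>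
    Subgroup.mem_centralizer_singleton_iff.mp (Subgroup.map_subtype_le _ hd)
  have hint : ∀ χ : Cfsg.IrrCharacter G,
      IsIntegral ℤ ((Nat.card S : ℂ)⁻¹ * ∑ d : S, (χ : G → ℂ) (u⁻¹ * d)) := fun χ =>
    Blocks.isIntegral_average_coset χ S (Subgroup.mem_centralizer_iff.mpr fun d hd =>
      Commute.inv_right (hSu d hd))
  -- only the trivial translate is regular
  have hone : ∀ d : S, ∀ g : G, ¬ p ∣ orderOf g → IsConj g ((d : G)⁻¹ * u) → d = 1 := by
    intro d g hg hc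
    obtain ⟨c, hc'⟩ := isConj_iff.mp hc
    have ho : orderOf ((d : G)⁻¹ * u) = orderOf g := by
      rw [← hc']; exact (MulAut.conj c).orderOf_eq g
    obtain ⟨k, hk⟩ := IsPGroup.iff_orderOf.mp (Q.isPGroup'.map C.subtype) d
    rw [← Subgroup.orderOf_coe] at hk
    have hcm : Commute ((d : G)⁻¹ * u) u⁻¹ :=
      (((show Commute (d : G) u from hSu d d.2).inv_left).mul_left (Commute.refl u)).inv_right
    have hdvd : orderOf (d : G) ∣ orderOf g * orderOf u := by
      have := hcm.orderOf_mul_dvd_mul_orderOf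
      rwa [mul_inv_cancel_right, orderOf_inv, orderOf_inv, ho] at this
    rcases k with _ | k
    · rw [pow_zero, orderOf_eq_one_iff] at hk
      exact Subtype.ext hk
    · exfalso
      rcases hp.out.dvd_mul.mp
        ((hk ▸ dvd_pow_self p (Nat.succ_ne_zero k)).trans hdvd) with h' | h'
      · exact hg h'
      · exact hu h'
  have hcol : ∀ g : G, ¬ p ∣ orderOf g →
      ∑ χ : Cfsg.IrrCharacter G, ((Nat.card S : ℂ)⁻¹ * ∑ d : S, (χ : G → ℂ) (u⁻¹ * d)) *
        (χ : G → ℂ) g = (Nat.card S : ℂ)⁻¹ *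
          (if IsConj g u then (Nat.card (Subgroup.centralizer ({g} : Set G)) : ℂ) else 0) := by
    intro g hg
    simp only [mul_assoc, ← Finset.mul_sum, Finset.sum_mul]
    rw [Finset.sum_comm]
    congr 1
    have e : ∀ d : S, ∑ χ : Cfsg.IrrCharacter G, (χ : G → ℂ) (u⁻¹ * d) * (χ : G → ℂ) g =
        if IsConj g ((d : G)⁻¹ * u) then
          (Nat.card (Subgroup.centralizer ({g} : Set G)) : ℂ) else 0 := by
      intro d
      rw [← Characters.Complete.sum_irr_mul_conj]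
      refine Finset.sum_congr rfl fun χ _ => ?_
      rw [← apply_inv (isCharacter_irr χ), mul_inv_rev, inv_inv, mul_comm]
    rw [Finset.sum_congr rfl fun d _ => e d, Finset.sum_eq_single 1]
    · simp
    · intro d _ hd
      rw [if_neg fun hc => hd (hone d g hg hc)]
    · intro h'
      exact absurd (Finset.mem_univ _) h'
  have hidx : ¬ p ∣ (Q : Subgroup C).index := Q.not_dvd_index
  have hmem : ((Q : Subgroup C).index : ℂ) ∈ pMul p := by
    have e : ∑ χ : Cfsg.IrrCharacter G, ((Nat.card S : ℂ)⁻¹ *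
        ∑ d : S, (χ : G → ℂ) (u⁻¹ * d)) * ((χ : G → ℂ) u - (χ : G → ℂ) v) =
        ((Q : Subgroup C).index : ℂ) := by
      simp only [mul_sub, Finset.sum_sub_distrib]
      rw [hcol u hu, hcol v hv, if_pos (IsConj.refl u), if_neg fun hc => hne hc.symm, mul_zero,
        sub_zero, ← hC, ← (Q : Subgroup C).index_mul_card, hS,
        Subgroup.card_map_of_injective (Subgroup.subtype_injective _)]
      push_cast
      rw [mul_comm _ (Nat.card (Q : Subgroup C) : ℂ), inv_mul_cancel_left₀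
        (Nat.cast_ne_zero.mpr Nat.card_pos.ne')]
    rw [← e]
    exact sum_mem fun χ _ => mul_mem_pMul (h χ) (hint χ)
  exact natCast_notMem_pMul hp.out hidx hmem

end Cfsg.Agent.Lib.BrauerPairs.Separate
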