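import Mathlib
import Cfsg.Agent.Lib.BrauerPairs.Fusion
import Cfsg.Agent.Lib.BlocksChars5.CentralDefect
import Cfsg.Agent.Lib.BlocksChars5.Restrict
import Cfsg.Agent.Lib.BlocksChars5.TopPair
import Cfsg.Agent.Lib.Characters.DefectZero

/-!
# Weights of blocks

A character of the stabilizer of a pair `(Q, e)` that is trivial on `Q` and of defect zero modulo
`Q` gives `e` the defect group `Z(Q)` and makes `Q` the largest normal p-subgroup of the stabilizer.
-/

set_option autoImplicit false
set_option linter.style.haveILetI false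

namespace Cfsg.Agent.Lib.BrauerPairs.Weight

open scoped ComplexConjugate
open Cfsg.Agent.Lib.Characters.Basic Cfsg.Agent.Lib.Induced.Basic
open Cfsg.Agent.Lib.BlocksChars5.Basic
open Cfsg.Agent.Lib

universe u

/-- A normal p-subgroup is killed by a character of defect zero only if it is trivial. -/
theorem eq_bot_of_defect_zero {X : Type u} [Group X] [Finite X] {p : ℕ} (hp : p.Prime)
    (χ : Cfsg.IrrCharacter X) (hdeg : (Cfsg.charDegree (χ : X → ℂ)).factorization p =
      (Nat.card X).factorization p) (R : Subgroup X) [R.Normal] (hR : IsPGroup p R) : R = ⊥ := by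
  classical
  haveI := Fintype.ofFinite X
  haveI := Fintype.ofFinite R
  haveI : Fact p.Prime := ⟨hp⟩
  obtain ⟨n, r, hr, hn⟩ := Nat.exists_eq_pow_mul_and_not_dvd (Nat.card_pos (α := X)).ne' p hp.ne_one
  have hn' : (Nat.card X).factorization p = n := by
    rw [hn, Nat.factorization_mul (pow_ne_zero _ hp.ne_zero) (fun h => hr (by rw [h]; exact dvd_zero p)),
      Finsupp.add_apply, hp.factorization_pow, Finsupp.single_eq_same,
      Nat.factorization_eq_zero_of_not_dvd hr, add_zero]
  obtain ⟨e, he⟩ : p ^ n ∣ Cfsg.charDegree (χ : X → ℂ) := by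
    rw [← hn', ← hdeg]
    exact Nat.ordProj_dvd _ _
  have hvan : ∀ x : R, x ≠ 1 → (χ : X → ℂ) (x : X) = 0 := by
    intro x hx
    refine Characters.DefectZero.apply_eq_zero hp χ (e := e) hn hr ?_ ?_
    · rw [apply_one, he]
    · obtain ⟨j, hj⟩ := IsPGroup.iff_orderOf.mp hR x
      rw [Subgroup.orderOf_coe, hj]
      refine dvd_pow_self p fun h0 => hx ?_
      rw [h0, pow_zero, orderOf_eq_one_iff] at hj
      exact hj
  have hin : Cfsg.classInner (fun x : R => (χ : X → ℂ) (x : X))
      (oneChar R : R → ℂ) ≠ 0 := by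
    rw [Cfsg.classInner, Finset.sum_eq_single (1 : R) (fun b _ hb => by rw [hvan b hb, zero_mul])
      (fun h => absurd (Finset.mem_univ _) h), oneChar_apply, map_one, mul_one]
    exact mul_ne_zero (inv_ne_zero (Nat.cast_ne_zero.mpr Nat.card_pos.ne')) (apply_one_ne_zero χ)
  have hres := Clifford.Basic.restrict_eq_smul R χ.2 (oneChar R) hin (fun g => rfl)
  by_contra hne
  obtain ⟨x, hx, hx1⟩ := R.bot_or_exists_ne_one.resolve_left hne
  have h1 := congrFun hres ⟨x, hx⟩
  have h2 := congrFun hres 1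
  simp only [Pi.smul_apply, oneChar_apply, smul_eq_mul, mul_one] at h1 h2
  rw [hvan ⟨x, hx⟩ (fun h => hx1 (congrArg Subtype.val h))] at h1
  rw [← h1] at h2
  exact apply_one_ne_zero χ h2

variable {G : Type u} [Group G] [Finite G] {p : ℕ} [Fact p.Prime]

local notation "C[" P "]" => Subgroup.centralizer ((P : Subgroup G) : Set G)

/-- A p-subgroup normal in `T` lies in `Q` if `T / Q` has a character of defect zero. -/
theorem le_of_normal {T Q : Subgroup G} (hQT : Q ≤ T) (hT : T ≤ Subgroup.normalizer (Q : Set G))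
    (hQ : IsPGroup p Q) (χ : Cfsg.IrrCharacter T) (hker : Q.subgroupOf T ≤ charKer χ)
    (hdeg : (Cfsg.charDegree (χ : T → ℂ)).factorization p + (Nat.card Q).factorization p =
      (Nat.card T).factorization p)
    {R : Subgroup G} (hRT : R ≤ T) (hR : IsPGroup p R) (hRn : T ≤ Subgroup.normalizer (R : Set G)) :
    R ≤ Q := by
  haveI hQn : (Q.subgroupOf T).Normal := Subgroup.normal_subgroupOf_iff_le_normalizer hQT |>.mpr hT
  haveI : (R.subgroupOf T).Normal := Subgroup.normal_subgroupOf_iff_le_normalizer hRT |>.mpr hRn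
  obtain ⟨χ', hχ'⟩ := exists_deflate χ (Q.subgroupOf T) hker
  haveI : ((R.subgroupOf T).map (QuotientGroup.mk' (Q.subgroupOf T))).Normal :=
    Subgroup.Normal.map inferInstance _ (QuotientGroup.mk'_surjective _)
  have hd : Cfsg.charDegree (χ : T → ℂ) = Cfsg.charDegree (χ' : T ⧸ Q.subgroupOf T → ℂ) :=
    charDegree_congr (by rw [← hχ', inflate_apply, QuotientGroup.mk_one])
  have hcard := BlocksChars5.CentralDefect.factorization_card (p := p) (Q.subgroupOf T)
  rw [Nat.card_congr (Subgroup.subgroupOfEquivOfLe hQT).toEquiv, Subgroup.index_eq_card] at hcard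
  rw [hd] at hdeg
  have hbot := eq_bot_of_defect_zero (p := p) Fact.out χ' (by omega)
    ((R.subgroupOf T).map (QuotientGroup.mk' (Q.subgroupOf T)))
    ((hR.comap_of_injective T.subtype T.subtype_injective).map _)
  rw [Subgroup.map_eq_bot_iff, QuotientGroup.ker_mk'] at hbot
  intro x hx
  exact hbot (show (⟨x, hRT hx⟩ : T) ∈ R.subgroupOf T from hx)

omit [Fact p.Prime] in
/-- The elements acting trivially on a character act trivially on its constituents. -/
theorem apply_eq_one_of_constituent {X Y : Type u} [Group X] [Group Y] [Fintype Y] (f : Y →* X)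
    {χ : X → ℂ} (hχ : Cfsg.IsCharacter X χ) (η : Cfsg.IrrCharacter Y)
    (h : Cfsg.classInner (χ ∘ f) η ≠ 0) {y : Y} (hy : χ (f y) = χ 1) :
    (η : Y → ℂ) y = (η : Y → ℂ) 1 := by
  obtain ⟨m, r, hr, hm, -, hres⟩ := Clifford.Basic.exists_eq_nsmul_add (isCharacter_comp f hχ) η
  have hm0 : m ≠ 0 := fun h0 => h (by rw [hm, h0, Nat.cast_zero])
  obtain ⟨dη, -, hdη⟩ := exists_degree_pos η
  obtain ⟨dr, hdr⟩ := exists_degree hr
  have e1 := congrFun hres y
  have e2 := congrFun hres 1
  simp only [Pi.add_apply, Pi.smul_apply, Pi.mul_apply, Pi.natCast_apply, nsmul_eq_mul,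
    Function.comp_apply, map_one] at e1 e2
  rw [hy, e2, hdη, hdr] at e1
  have n1 := norm_apply_le (isCharacter_irr η) y
  have n2 := norm_apply_le hr y
  rw [hdη, Complex.norm_natCast] at n1
  rw [hdr, Complex.norm_natCast] at n2
  have r1 := (Complex.re_le_norm _).trans n1
  have r2 := (Complex.re_le_norm _).trans n2
  have e3 := congrArg Complex.re e1
  simp only [Complex.add_re, Complex.mul_re, Complex.natCast_re, Complex.natCast_im, zero_mul,
    sub_zero] at e3
  have hm' : (1 : ℝ) ≤ m := by exact_mod_cast Nat.one_le_iff_ne_zero.mpr hm0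
  have hre : ((η : Y → ℂ) y).re = dη := by nlinarith
  have him : ((η : Y → ℂ) y).im = 0 := by
    have h1 := Complex.sq_norm ((η : Y → ℂ) y)
    rw [Complex.normSq_apply, hre] at h1
    have : ‖(η : Y → ℂ) y‖ ^ 2 ≤ (dη : ℝ) ^ 2 := pow_le_pow_left₀ (norm_nonneg _) n1 2
    nlinarith [mul_self_nonneg ((η : Y → ℂ) y).im]
  rw [hdη]
  exact Complex.ext (by rw [hre, Complex.natCast_re]) (by rw [him, Complex.natCast_im])

/-- The weighted sum of a character against a block idempotent. -/
theorem sum_blockCoeff_mul_irr {X : Type u} [Group X] [Fintype X]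
    (A : Set (Cfsg.IrrCharacter X)) (φ : Cfsg.IrrCharacter X) [Decidable (φ ∈ A)] :
    ∑ x : X, Cfsg.blockCoeff A x * (φ : X → ℂ) x = if φ ∈ A then (φ : X → ℂ) 1 else 0 := by
  have h := Blocks.omega_idem A φ
  rw [Blocks.omega_apply, div_eq_iff (apply_one_ne_zero φ), Blocks.lin_apply] at h
  simp only [Blocks.coeff_idem] at h
  rw [h]
  split_ifs with hh <;> simp [hh]

/-- A character with full weight on an idempotent has all constituents in it. -/
theorem mem_of_sum_eq {X : Type u} [Group X] [Fintype X] (A : Set (Cfsg.IrrCharacter X))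
    {φ : X → ℂ} (hφ : Cfsg.IsCharacter X φ) (θ : Cfsg.IrrCharacter X)
    (hθ : Cfsg.classInner φ θ ≠ 0)
    (h : ∑ x : X, Cfsg.blockCoeff A x * φ x = φ 1) : θ ∈ A := by
  classical
  have hb : ∀ {ψ : X → ℂ}, Cfsg.IsCharacter X ψ →
      (∑ x : X, Cfsg.blockCoeff A x * ψ x).re ≤ (ψ 1).re := by
    intro ψ hψ
    refine character_induction (P := fun ψ : X → ℂ =>
      (∑ x : X, Cfsg.blockCoeff A x * ψ x).re ≤ (ψ 1).re) (by simp) (fun a r _ hr => ?_) hψ
    simp only [Pi.add_apply, mul_add, Finset.sum_add_distrib, Complex.add_re,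
      sum_blockCoeff_mul_irr]
    refine add_le_add ?_ hr
    split_ifs
    · exact le_rfl
    · obtain ⟨d, -, hd⟩ := exists_degree_pos a
      rw [hd]
      simp
  obtain ⟨m, r, hr, hm, -, rfl⟩ := Clifford.Basic.exists_eq_nsmul_add hφ θ
  have hm0 : m ≠ 0 := fun h0 => hθ (by rw [hm, h0, Nat.cast_zero])
  by_contra hn
  simp only [Pi.add_apply, Pi.smul_apply, Pi.mul_apply, Pi.natCast_apply, nsmul_eq_mul, mul_add,
    Finset.sum_add_distrib] at h
  have h0 : ∑ x : X, Cfsg.blockCoeff A x * ((m : ℂ) * (θ : X → ℂ) x) = 0 := by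
    simp only [mul_left_comm (Cfsg.blockCoeff A _) (m : ℂ), ← Finset.mul_sum,
      sum_blockCoeff_mul_irr, if_neg hn, mul_zero]
  rw [h0, zero_add] at h
  have := hb hr
  rw [h, Complex.add_re] at this
  obtain ⟨d, hdpos, hd⟩ := exists_degree_pos θ
  rw [hd] at this
  simp only [Complex.mul_re, Complex.natCast_re, Complex.natCast_im, mul_zero, sub_zero] at this
  have hm' : (1 : ℝ) ≤ m := by exact_mod_cast Nat.one_le_iff_ne_zero.mpr hm0
  have hd' : (1 : ℝ) ≤ d := by exact_mod_cast hdpos
  nlinarith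

/-- A character of central defect in the block of a pair. -/
theorem exists_central_char {T Q : Subgroup G} (hQT : Q ≤ T) (hCT : C[Q] ≤ T)
    (hT : T ≤ Subgroup.normalizer (Q : Set G)) (e : Set (Cfsg.IrrCharacter C[Q]))
    (F' : Set (Cfsg.IrrCharacter T))
    (hco : ∀ t : T, Cfsg.blockCoeff F' t = Cfsg.subgroupBlockCoeff C[Q] e (t : G))
    (χ : Cfsg.IrrCharacter T) (hχ : χ ∈ F') (hker : Q.subgroupOf T ≤ charKer χ)
    (hdeg : (Cfsg.charDegree (χ : T → ℂ)).factorization p + (Nat.card Q).factorization p =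
      (Nat.card T).factorization p) :
    ∃ θ : Cfsg.IrrCharacter C[Q], θ ∈ e ∧ Q.subgroupOf C[Q] ≤ charKer θ ∧
      (Nat.card C[Q]).factorization p ≤ (Cfsg.charDegree (θ : C[Q] → ℂ)).factorization p +
        (Nat.card (Q.subgroupOf C[Q])).factorization p := by
  classical
  haveI := Fintype.ofFinite G
  set K := Q ⊔ C[Q] with hK
  have hKT : K ≤ T := sup_le hQT hCT
  have hKn : T ≤ Subgroup.normalizer (K : Set G) := by
    intro x hx
    rw [Subgroup.mem_normalizer_iff_map_conj_eq, hK, Subgroup.map_sup,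
      Subgroup.mem_normalizer_iff_map_conj_eq.mp (hT hx)]
    have h1 := Local.map_conj_centralizer x Q
    have h2 : Q.map (MulAut.conj x).toMonoidHom = Q :=
      Subgroup.mem_normalizer_iff_map_conj_eq.mp (hT hx)
    rw [h2] at h1
    exact congrArg (Q ⊔ ·) h1
  haveI hNn : (K.subgroupOf T).Normal := Subgroup.normal_subgroupOf_iff_le_normalizer hKT |>.mpr hKn
  haveI hQn : (Q.subgroupOf T).Normal := Subgroup.normal_subgroupOf_iff_le_normalizer hQT |>.mpr hT
  set N := K.subgroupOf T with hN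
  set Q'' := (Q.subgroupOf T).subgroupOf N with hQ''
  haveI : Q''.Normal := Subgroup.normal_subgroupOf
  obtain ⟨η, hη⟩ := Clifford.Basic.exists_constituent_restrict N χ.2
  have hηk : Q'' ≤ charKer η := fun n hn => (mem_charKer η n).mpr
    (apply_eq_one_of_constituent N.subtype (isCharacter_irr χ) η hη
      ((mem_charKer χ _).mp (hker hn)))
  obtain ⟨η', hη'⟩ := exists_deflate η Q'' hηk
  let i : C[Q] →* N :=
    { toFun := fun c => ⟨⟨c, hCT c.2⟩, Subgroup.mem_sup_right c.2⟩
      map_one' := rfl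
      map_mul' := fun _ _ => rfl }
  have hsurj : Function.Surjective ((QuotientGroup.mk' Q'').comp i) := by
    intro y
    obtain ⟨⟨⟨n, hnT⟩, hnK⟩, rfl⟩ := QuotientGroup.mk'_surjective Q'' y
    obtain ⟨q, hq, c, hc, rfl⟩ := BlocksChars5.TopPair.mem_sup_centralizer (show n ∈ K from hnK)
    refine ⟨⟨c, hc⟩, ?_⟩
    rw [MonoidHom.comp_apply, QuotientGroup.mk'_apply, QuotientGroup.mk'_apply, QuotientGroup.eq]
    show (((i ⟨c, hc⟩)⁻¹ * ⟨⟨q * c, hnT⟩, hnK⟩ : N) : T) ∈ Q.subgroupOf T
    rw [Subgroup.mem_subgroupOf]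
    show c⁻¹ * (q * c) ∈ Q
    rwa [← mul_assoc, mul_assoc c⁻¹ q c, hc q hq, ← mul_assoc, inv_mul_cancel, one_mul]
  set θ : Cfsg.IrrCharacter C[Q] :=
    ⟨(η' : N ⧸ Q'' → ℂ) ∘ ((QuotientGroup.mk' Q'').comp i),
      isIrrCharacter_comp _ hsurj η'.2⟩ with hθdef
  have hθ : ∀ c : C[Q], (θ : C[Q] → ℂ) c = (η : N → ℂ) (i c) := fun c => by
    rw [← hη', inflate_apply]
    rfl
  refine ⟨θ, ?_, fun z hz => ?_, ?_⟩
  · set φ : C[Q] → ℂ := (χ : T → ℂ) ∘ (N.subtype.comp i) with hφ
    have hφc : Cfsg.IsCharacter C[Q] φ := isCharacter_comp _ (isCharacter_irr χ)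
    have hne : Cfsg.classInner φ θ ≠ 0 := by
      have hb : Cfsg.classInner ((η : N → ℂ) ∘ i) θ ≠ 0 := by
        rw [show (η : N → ℂ) ∘ i = (θ : C[Q] → ℂ) from funext fun c => (hθ c).symm,
          classInner_self_irr]
        exact one_ne_zero
      exact Clifford.Basic.classInner_comp_ne_zero i
        (φ := (χ : T → ℂ) ∘ N.subtype) (isCharacter_comp _ (isCharacter_irr χ)) hη hb
    refine mem_of_sum_eq e hφc θ hne ?_
    have h := sum_blockCoeff_mul_irr F' χ
    rw [if_pos hχ] at h
    simp only [hco] at h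
    rw [show φ 1 = (χ : T → ℂ) 1 by rw [hφ, Function.comp_apply, map_one], ← h]
    refine Finset.sum_of_injOn (fun c : C[Q] => (⟨c, hCT c.2⟩ : T))
      (fun a _ b _ hab => Subtype.ext (congrArg Subtype.val hab :)) (fun _ _ => Finset.mem_univ _)
      (fun t _ ht => ?_) (fun c _ => ?_)
    · rw [Bridge.subgroupBlockCoeff_of_notMem _ (fun hc => ht ⟨⟨t, hc⟩, Finset.mem_univ _, rfl⟩),
        zero_mul]
    · show _ = Cfsg.subgroupBlockCoeff C[Q] e ((c : C[Q]) : G) * _
      rw [Bridge.subgroupBlockCoeff_of_mem]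
      rfl
  · rw [mem_charKer, hθ, hθ, map_one]
    exact (mem_charKer η _).mp (hηk hz)
  · have hdθ : Cfsg.charDegree (θ : C[Q] → ℂ) = Cfsg.charDegree (η : N → ℂ) :=
      charDegree_congr (by rw [hθ, map_one])
    obtain ⟨r, hr, hri⟩ := BlocksChars5.Restrict.ratio_dvd_nat N χ η hη
    have hr0 : r ≠ 0 := fun h0 => by
      rw [h0, zero_mul] at hr
      exact (degree_pos χ).ne' hr
    have hrle : r.factorization p ≤ N.index.factorization p :=
      (Nat.factorization_le_iff_dvd hr0 Subgroup.index_ne_zero_of_finite).mpr hri p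
    rw [hr, Nat.factorization_mul hr0 (degree_pos η).ne', Finsupp.add_apply] at hdeg
    have e1 := BlocksChars5.CentralDefect.factorization_card (p := p) N
    have e2 := BlocksChars5.CentralDefect.factorization_card (p := p) Q''
    have e3 := BlocksChars5.CentralDefect.factorization_card (p := p) (Q.subgroupOf C[Q])
    have hcQ : Nat.card Q'' = Nat.card Q := by
      rw [hQ'', Nat.card_congr (Subgroup.subgroupOfEquivOfLe (H := Q.subgroupOf T) (K := N)
        (fun x hx => Subgroup.mem_sup_left hx)).toEquiv,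
        Nat.card_congr (Subgroup.subgroupOfEquivOfLe hQT).toEquiv]
    have hidx : Q''.index = (Q.subgroupOf C[Q]).index := by
      have hker' : ((QuotientGroup.mk' Q'').comp i).ker = Q.subgroupOf C[Q] := by
        rw [← MonoidHom.comap_ker, QuotientGroup.ker_mk']
        rfl
      rw [← hker', Subgroup.index_ker, MonoidHom.range_eq_top.mpr hsurj, Subgroup.card_top,
        Subgroup.index_eq_card]
    rw [hcQ, hidx] at e2
    rw [hdθ]
    omega

end Cfsg.Agent.Lib.BrauerPairs.Weight
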